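/-
P4: centralizers in `PSL₂(F)`.
-/
import Cfsg.Agent.H4.SL2Cent
import Cfsg.Agent.P3.Model
import Cfsg.Agent.FT.Base

set_option autoImplicit false
set_option linter.unusedSectionVars false

namespace Cfsg.Agent.P4

open Matrix Subgroup QuadraticAlgebra Cfsg.Agent.H4.SL2 Cfsg.Agent.FT

variable {F : Type*} [Field F]

/-- `PSL₂(F)`. -/
abbrev PSL (F : Type*) [Field F] := ProjectiveSpecialLinearGroup (Fin 2) F

theorem center_entry {z : SL F} (hz : z ∈ center (SL F)) (h1 : z ≠ 1) :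
    z 0 0 = -1 ∧ (2 : F) ≠ 0 := by
  obtain ⟨a, b, c⟩ := mem_center_iff'.1 hz
  have hd := det_eq z
  rw [a, ← c] at hd
  have h2 : z 0 0 ≠ 1 := fun e => h1 (by
    ext i j
    fin_cases i <;> fin_cases j <;> simp [a, b, ← c, e])
  have h3 : z 0 0 = -1 := by
    have : (z 0 0 - 1) * (z 0 0 + 1) = 0 := by linear_combination hd
    rcases mul_eq_zero.1 this with h | h
    · exact absurd (sub_eq_zero.1 h) h2
    · exact eq_neg_of_add_eq_zero_left h
  exact ⟨h3, fun e => h2 (by rw [h3]; linear_combination -e)⟩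

theorem center_eq {z z' : SL F} (hz : z ∈ center (SL F)) (h1 : z ≠ 1)
    (hz' : z' ∈ center (SL F)) (h1' : z' ≠ 1) : z = z' := by
  obtain ⟨a, b, c⟩ := mem_center_iff'.1 hz
  obtain ⟨a', b', c'⟩ := mem_center_iff'.1 hz'
  have e := (center_entry hz h1).1
  have e' := (center_entry hz' h1').1
  ext i j
  fin_cases i <;> fin_cases j <;> simp [a, b, ← c, e, a', b', ← c', e']

theorem tr_conj (g x : SL F) : tr (g * x * g⁻¹) = tr x := by
  have h : ∀ y : SL F, tr y = trace y.1 := fun y => by simp [tr, trace_fin_two]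
  rw [h, h, Matrix.SpecialLinearGroup.coe_mul, trace_mul_comm, ← Matrix.SpecialLinearGroup.coe_mul,
    ← mul_assoc, inv_mul_cancel, one_mul]

theorem tr_eq_zero {g x z : SL F} (hz : z ∈ center (SL F)) (h1 : z ≠ 1)
    (e : g * x * g⁻¹ = z * x) : tr x = 0 := by
  obtain ⟨a, b, c⟩ := mem_center_iff'.1 hz
  obtain ⟨h2, h3⟩ := center_entry hz h1
  have h4 := tr_conj g x
  rw [e] at h4
  simp only [tr, Matrix.SpecialLinearGroup.coe_mul, mul_apply, Fin.sum_univ_two, a, b, ← c, h2] at h4 ⊢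
  exact mul_left_cancel₀ h3 (by linear_combination -h4)

theorem sq_mem_center {x : SL F} (h : tr x = 0) : x * x ∈ center (SL F) := by
  have := cayley x
  rw [h, zero_smul, add_zero] at this
  rw [mem_center_iff', Matrix.SpecialLinearGroup.coe_mul, this]
  simp

theorem tr_of_sq_mem_center {x : SL F} (hx : x ∉ center (SL F)) (h : x * x ∈ center (SL F)) :
    tr x = 0 := by
  by_contra h0
  have := cayley x
  rw [mem_center_iff', Matrix.SpecialLinearGroup.coe_mul, this] at h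
  simp only [Matrix.add_apply, Matrix.smul_apply, smul_eq_mul, one_apply] at h
  simp [h0] at h
  exact hx (mem_center_iff'.2 h)

theorem commute_mk {x g : SL F} (h : Commute (x : PSL F) g) :
    g ∈ 𝐂[x] ∨ ∃ z ∈ center (SL F), z ≠ 1 ∧ g * x * g⁻¹ = z * x := by
  have h1 : g * x * g⁻¹ * x⁻¹ ∈ center (SL F) := by
    rw [← QuotientGroup.eq_one_iff]
    simp only [QuotientGroup.mk_mul, QuotientGroup.mk_inv]
    rw [← h.eq]; group
  by_cases h2 : g * x * g⁻¹ * x⁻¹ = 1
  · exact Or.inl (mem_cent1_iff_conj.2 (mul_inv_eq_one.1 h2))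
  · exact Or.inr ⟨_, h1, h2, by group⟩

/-- The image of `C(x)` in `PSL₂(F)`. -/
def cbar (x : SL F) : Subgroup (PSL F) := (𝐂[x]).map (QuotientGroup.mk' (center (SL F)))

theorem cbar_le (x : SL F) : cbar x ≤ 𝐂[(x : PSL F)] := by
  rintro _ ⟨g, hg, rfl⟩
  exact mem_cent1.2 (congrArg (QuotientGroup.mk' (center (SL F))) (mem_cent1.1 hg))

theorem mem_cbar (x : SL F) : (x : PSL F) ∈ cbar x := ⟨x, self_mem_cent1 x, rfl⟩

theorem card_cbar (x : SL F) : 𝐨(center (SL F)) * 𝐨(cbar x) = 𝐨(𝐂[x]) := by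
  have h1 : center (SL F) ≤ 𝐂[x] := fun z hz => mem_cent1.2 (mem_center_iff.1 hz x)
  rw [← H1.card_mul_relIndex h1, cbar, ← relIndex_ker, QuotientGroup.ker_mk']

theorem isCyclic_cbar {x : SL F} (h : IsCyclic (𝐂[x] : Subgroup (SL F))) : IsCyclic (cbar x) :=
  isCyclic_of_surjective _ ((QuotientGroup.mk' (center (SL F))).subgroupMap_surjective _)

theorem cent_eq_cbar {x : SL F} (h : tr x ≠ 0 ∨ (2 : F) = 0) : 𝐂[(x : PSL F)] = cbar x := by
  refine le_antisymm (fun c hc => ?_) (cbar_le x)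
  obtain ⟨g, rfl⟩ := QuotientGroup.mk_surjective c
  rcases commute_mk (mem_cent1.1 hc) with h1 | ⟨z, hz, h1, e⟩
  · exact ⟨g, h1, rfl⟩
  · exact (h.elim (fun h => h (tr_eq_zero hz h1 e)) (center_entry hz h1).2).elim

variable [Finite F]

theorem unitary_of_no_root' {t : F} (hr : ∀ r : F, r ^ 2 ≠ -1 + t * r) :
    IsCyclic (unitary (QuadraticAlgebra F (-1) t)) ∧
      Nat.card (unitary (QuadraticAlgebra F (-1) t)) = Nat.card F + 1 := by
  by_cases hq : Nat.card F % 2 = 1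
  · exact unitary_of_no_root hq hr
  have := Fact.mk hr
  have : CharP F 2 := by
    have := Fintype.ofFinite F
    have h := FiniteField.even_card_iff_char_two.2 (by
      rw [← Nat.card_eq_fintype_card]; omega : Fintype.card F % 2 = 0)
    exact h ▸ ringChar.charP F
  have hfin : Finite (QuadraticAlgebra F (-1) t) := Finite.of_equiv _ (equivProd (-1) t).symm
  have hcard : Nat.card (QuadraticAlgebra F (-1) t) = Nat.card F * Nat.card F := by
    rw [Nat.card_congr (equivProd (-1) t), Nat.card_prod]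
  refine ⟨isCyclic_of_injective Unitary.toUnits Unitary.toUnits_injective, ?_⟩
  let f : (QuadraticAlgebra F (-1) t)ˣ →* Fˣ := Units.map QuadraticAlgebra.norm
  have hs : Function.Surjective f := by
    intro c
    classical
    obtain ⟨u, h⟩ := L.exists_sq_eq (c : F)
    have hn : norm (⟨u, 0⟩ : QuadraticAlgebra F (-1) t) = c := by
      rw [QuadraticAlgebra.norm_def]; simpa using h
    refine ⟨Units.mk0 _ (fun e => c.ne_zero ?_), Units.ext hn⟩
    rw [← hn, e, QuadraticAlgebra.norm_zero]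
  have h3 : Nat.card f.ker = Nat.card (unitary (QuadraticAlgebra F (-1) t)) := by
    refine Nat.card_congr ⟨fun z => ⟨z.1, mem_unitary (congrArg Units.val z.2)⟩,
      fun z => ⟨Unitary.toUnits z, Units.ext (norm_eq_one z.2)⟩, fun z => ?_, fun z => rfl⟩
    exact Subtype.ext (Units.ext rfl)
  have h4 := f.ker.card_mul_index
  rw [index_ker, MonoidHom.range_eq_top.2 hs, card_top, Nat.card_units, Nat.card_units, hcard,
    h3] at h4
  have h5 : 1 < Nat.card F := Finite.one_lt_card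
  obtain ⟨m, hm⟩ : ∃ m, Nat.card F = m + 2 := ⟨Nat.card F - 2, by omega⟩
  rw [hm] at h4 ⊢
  refine Nat.eq_of_mul_eq_mul_right (m := m + 1) (by omega) ?_
  rw [show m + 2 - 1 = m + 1 from rfl] at h4
  rw [h4]
  exact (Nat.sub_eq_iff_eq_add (by nlinarith)).2 (by ring)

theorem cent_semisimple {x : SL F} (hx : x ∉ center (SL F)) (ht : tr x ^ 2 ≠ 4) :
    IsCyclic (𝐂[x] : Subgroup (SL F)) ∧
      (𝐨(𝐂[x]) + 1 = Nat.card F ∨ 𝐨(𝐂[x]) = Nat.card F + 1) := by
  have e := centEquiv hx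
  have h5 : 1 < Nat.card F := Finite.one_lt_card
  by_cases h : ∃ r : F, r ^ 2 = -1 + tr x * r
  · obtain ⟨r, hr⟩ := h
    obtain ⟨e'⟩ := unitary_equiv_of_root hr ht
    refine ⟨isCyclic_of_surjective (e'.symm.trans e) (MulEquiv.surjective _), Or.inl ?_⟩
    rw [← Nat.card_congr (e'.symm.trans e).toEquiv, Nat.card_units]
    omega
  · push Not at h
    obtain ⟨h1, h2⟩ := unitary_of_no_root' h
    exact ⟨isCyclic_of_surjective e e.surjective, Or.inr (by rw [← h2, Nat.card_congr e.toEquiv])⟩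

theorem card_cent_unip {x : SL F} (hx : x ∉ center (SL F)) (ht : tr x ^ 2 = 4) :
    𝐨(𝐂[x]) = 𝐨(center (SL F)) * Nat.card F := by
  obtain ⟨r, hr, hr2⟩ : ∃ r : F, r * r = 1 ∧ tr x = 2 * r := by
    have : (tr x - 2) * (tr x + 2) = 0 := by linear_combination ht
    rcases mul_eq_zero.1 this with h | h
    · exact ⟨1, by ring, by linear_combination h⟩
    · exact ⟨-1, by ring, by linear_combination h⟩
  have hn : ∀ z : QA x, norm z = (z.re + r * z.im) ^ 2 := fun z => by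
    rw [QuadraticAlgebra.norm_def]; linear_combination (-z.im * z.im) * hr + z.re * z.im * hr2
  rw [← Nat.card_congr (centEquiv hx).toEquiv, ← Nat.card_prod]
  refine Nat.card_congr ⟨fun z => (⟨L.mkSL2 (z.1.re + r * z.1.im) 0 0 (z.1.re + r * z.1.im) (by
      rw [← sq, ← hn, norm_eq_one z.2]; ring), mem_center_iff'.2 (by simp [L.mkSL2])⟩, z.1.im),
    fun p => ⟨⟨p.1.1 0 0 - r * p.2, p.2⟩, mem_unitary ?_⟩, fun z => ?_, fun p => ?_⟩
  · obtain ⟨a, b, c⟩ := mem_center_iff'.1 p.1.2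
    have hd := det_eq p.1.1
    rw [a, ← c] at hd
    rw [hn]; linear_combination hd
  · apply Subtype.ext
    ext <;> simp [L.mkSL2]
  · obtain ⟨a, b, c⟩ := mem_center_iff'.1 p.1.2
    refine Prod.ext (Subtype.ext ?_) rfl
    ext i j
    fin_cases i <;> fin_cases j <;> simp [L.mkSL2, a, b, ← c]

/-- Centralizers in `PSL₂(F)` (of non-involutions if the characteristic is odd). -/
theorem psl_cent {c : PSL F} (h1 : c ≠ 1) (h2 : c * c ≠ 1 ∨ (2 : F) = 0) :
    (IsCyclic (𝐂[c] : Subgroup (PSL F)) ∧ (𝐨(center (SL F)) * 𝐨(𝐂[c]) + 1 = Nat.card F ∨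
      𝐨(center (SL F)) * 𝐨(𝐂[c]) = Nat.card F + 1)) ∨ 𝐨(𝐂[c]) = Nat.card F := by
  obtain ⟨x, rfl⟩ := QuotientGroup.mk_surjective c
  have hx : x ∉ center (SL F) := fun h => h1 ((QuotientGroup.eq_one_iff x).2 h)
  rw [cent_eq_cbar (h2.imp_left fun h e => h ((QuotientGroup.eq_one_iff (x * x)).2
    (sq_mem_center e))), card_cbar]
  by_cases ht : tr x ^ 2 = 4
  · have := card_cbar x
    rw [card_cent_unip hx ht] at this
    exact Or.inr (Nat.eq_of_mul_eq_mul_left Nat.card_pos this)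
  · exact Or.inl ⟨isCyclic_cbar (cent_semisimple hx ht).1, (cent_semisimple hx ht).2⟩

/-- Centralizers of involutions in `PSL₂(F)`, odd characteristic. -/
theorem psl_cent_invol (h2 : (2 : F) ≠ 0) {c : PSL F} (h1 : c ≠ 1) (hc : c * c = 1) :
    ∃ X : Subgroup (PSL F), IsCyclic X ∧ c ∈ X ∧
      (2 * 𝐨(X) + 1 = Nat.card F ∨ 2 * 𝐨(X) = Nat.card F + 1) ∧
      ∀ a ∈ 𝐂[c], a ∉ X → ∀ b ∈ 𝐂[c], b ∉ X → a⁻¹ * b ∈ X := by
  obtain ⟨x, rfl⟩ := QuotientGroup.mk_surjective c
  have hx : x ∉ center (SL F) := fun h => h1 ((QuotientGroup.eq_one_iff x).2 h)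
  have h0 := tr_of_sq_mem_center hx ((QuotientGroup.eq_one_iff (x * x)).1 hc)
  have ht : tr x ^ 2 ≠ 4 := by
    rw [h0]; intro e
    exact mul_ne_zero h2 h2 (by linear_combination -e)
  refine ⟨cbar x, isCyclic_cbar (cent_semisimple hx ht).1, mem_cbar x, ?_, ?_⟩
  · classical
    have h3 := card_cbar x
    rw [P3.card_center_SL2 h2] at h3
    rw [h3]; exact (cent_semisimple hx ht).2
  · intro a ha ha' b hb hb'
    obtain ⟨a, rfl⟩ := QuotientGroup.mk_surjective a
    obtain ⟨b, rfl⟩ := QuotientGroup.mk_surjective b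
    obtain ⟨z, hz, z1, e⟩ := (commute_mk (mem_cent1.1 ha)).resolve_left fun h => ha' ⟨a, h, rfl⟩
    obtain ⟨w, hw, w1, e'⟩ := (commute_mk (mem_cent1.1 hb)).resolve_left fun h => hb' ⟨b, h, rfl⟩
    refine ⟨a⁻¹ * b, mem_cent1_iff_conj.2 ?_, rfl⟩
    rw [← center_eq hz z1 hw w1, ← e] at e'
    calc a⁻¹ * b * x * (a⁻¹ * b)⁻¹ = a⁻¹ * (b * x * b⁻¹) * a := by group
      _ = x := by rw [e']; group

theorem psl_real (hq : Odd (Nat.card F)) {y : PSL F} {n : ℕ} (hn : (n : F) ≠ 0) (hy : y ^ n = 1) :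
    ∃ w : PSL F, w * y * w⁻¹ = y⁻¹ := by
  obtain ⟨x, rfl⟩ := QuotientGroup.mk_surjective y
  have h2 := P3.two_ne_zero_of_odd hq
  by_cases ht : tr x ^ 2 = 4
  · have h3 : x ∈ center (SL F) := mem_center_of_tr ht (n := n * 2) (by
      push_cast; exact mul_ne_zero hn h2) h2 (by
      rw [pow_mul]; exact sq_eq_one_of_mem_center ((QuotientGroup.eq_one_iff (x ^ n)).1 hy))
    exact ⟨1, by simp [(QuotientGroup.eq_one_iff x).2 h3]⟩
  · obtain ⟨w, hw⟩ := exists_inverting (Nat.odd_iff.1 hq) ht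
    exact ⟨w, congrArg (QuotientGroup.mk' (center (SL F))) hw⟩

end Cfsg.Agent.P4
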