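/-
P4: groups in which centralizers of involutions are `2`-groups.  Basic facts.
-/
import Cfsg.Agent.FT.Final
import Cfsg.Agent.P1.B_2
import Cfsg.Agent.H5.Real
import Cfsg.Agent.H8.ThompsonTransfer
import Cfsg.Agent.L.BaerSuzuki
import Cfsg.Agent.L.SimpleRed
import Cfsg.Agent.L.Invol

set_option autoImplicit false
set_option linter.unusedSectionVars false

namespace Cfsg.Agent.P4

open Subgroup Cfsg Cfsg.Agent Cfsg.Agent.FT Cfsg.Agent.L
open scoped commutatorElement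

universe u

variable {G : Type u} [Group G]

instance fact_two : Fact (Nat.Prime 2) := ⟨Nat.prime_two⟩

theorem orderOf_two {t : G} (h1 : t ≠ 1) (h : t * t = 1) : orderOf t = 2 :=
  orderOf_eq_prime (by rwa [sq]) h1

theorem invol_of_orderOf {t : G} (h : orderOf t = 2) : t ≠ 1 ∧ t * t = 1 :=
  ⟨by rintro rfl; simp at h, by rw [← sq, ← h, pow_orderOf_eq_one]⟩

theorem conj_sq {t : G} (h : t * t = 1) (g : G) : g * t * g⁻¹ * (g * t * g⁻¹) = 1 := by
  rw [conj_mul, h, mul_one, mul_inv_cancel]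

theorem conj_ne_one {t : G} (h : t ≠ 1) (g : G) : g * t * g⁻¹ ≠ 1 := by simpa using h

theorem isPGroup_zpowers_of_sq {t : G} (h : t * t = 1) : IsPGroup 2 (zpowers t) :=
  elemAb_isPGroup (elemAb_zpowers (by rwa [sq]))

theorem odd_iff_not_dvd {n : ℕ} : Odd n ↔ ¬ 2 ∣ n := by rw [← Nat.not_even_iff_odd, even_iff_two_dvd]

theorem eq_one_of_odd_of_pow {x : G} (h : Odd (orderOf x)) {n : ℕ} (hx : x ^ 2 ^ n = 1) : x = 1 :=
  orderOf_eq_one_iff.1 (Nat.eq_one_of_self_dvd_coprime (Nat.Coprime.pow_right n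
    (Nat.coprime_two_right.2 h)) (orderOf_dvd_of_pow_eq_one hx))
where Nat.eq_one_of_self_dvd_coprime {a b : ℕ} (h : a.Coprime b) (h' : a ∣ b) : a = 1 :=
  Nat.Coprime.eq_one_of_dvd h h'

theorem eq_one_of_odd_of_mem {P : Subgroup G} (hP : IsPGroup 2 P) {x : G} (h : Odd (orderOf x))
    (hx : x ∈ P) : x = 1 := by
  obtain ⟨n, hn⟩ := hP ⟨x, hx⟩
  exact eq_one_of_odd_of_pow h (congrArg Subtype.val hn)

variable [Finite G]

theorem exists_invol_of_even {H : Subgroup G} (h : 2 ∣ 𝐨(H)) : ∃ t ∈ H, t ≠ 1 ∧ t * t = 1 := by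
  obtain ⟨t, ht, h2⟩ := exists_mem_orderOf_eq_prime Nat.prime_two h
  exact ⟨t, ht, invol_of_orderOf h2⟩

theorem exists_invol {P : Subgroup G} (hP : IsPGroup 2 P) (h : P ≠ ⊥) :
    ∃ t ∈ P, t ≠ 1 ∧ t * t = 1 :=
  exists_invol_of_even (prime_dvd_card_of_isPGroup Nat.prime_two hP h)

theorem exists_invol_center {P N : Subgroup G} (hP : IsPGroup 2 P) (hN : N ⊲ P) (h : N ≠ ⊥) :
    ∃ t ∈ N, t ∈ 𝐂(P) ∧ t ≠ 1 ∧ t * t = 1 := by
  obtain ⟨t, ht, h2⟩ := exists_invol (hP.to_le (inf_le_left.trans hN.1))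
    (inf_center_ne_bot (isNilpotent_of_isPGroup Nat.prime_two hP) hN h)
  exact ⟨t, ht.1, ht.2, h2⟩

theorem uniq_invol {X : Subgroup G} (hX : IsCyclic X) {a b : G} (ha : a ∈ X) (a1 : a ≠ 1)
    (aa : a * a = 1) (hb : b ∈ X) (b1 : b ≠ 1) (bb : b * b = 1) : a = b := by
  have h := eq_of_card_prime_of_isCyclic Nat.prime_two hX (zpowers_le_of_mem ha)
    (zpowers_le_of_mem hb) (by rw [Nat.card_zpowers, orderOf_two a1 aa])
    (by rw [Nat.card_zpowers, orderOf_two b1 bb])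
  obtain ⟨k, hk⟩ : a ∈ zpowers b := h ▸ mem_zpowers a
  obtain ⟨j, rfl | rfl⟩ := Int.even_or_odd' k
  · exact (a1 (by rw [← hk]; simp only; rw [zpow_mul, zpow_two, bb, one_zpow])).elim
  · rw [← hk]; simp only; rw [zpow_add, zpow_mul, zpow_two, bb, one_zpow, one_mul, zpow_one]

theorem isPGroup_of_forall_odd {H : Subgroup G} (h : ∀ x ∈ H, Odd (orderOf x) → x = 1) :
    IsPGroup 2 H := by
  rw [← isPi_singleton_iff Nat.prime_two]
  intro p hp hd
  by_contra h2
  obtain ⟨x, hx, hxp⟩ := exists_mem_orderOf_eq_prime hp hd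
  have := h x hx (hxp ▸ hp.odd_of_ne_two h2)
  rw [this, orderOf_one] at hxp
  exact hp.ne_one hxp.symm

theorem coprime_of_odd {D : Subgroup G} (hD : IsPGroup 2 D) {n : ℕ} (hn : Odd n) :
    n.Coprime 𝐨(D) := by
  obtain ⟨k, hk⟩ := exists_card_eq_pow Nat.prime_two hD
  rw [hk]; exact Nat.Coprime.pow_right k (Nat.coprime_two_right.2 hn)

theorem solvable_of_odd {H : Subgroup G} (h : Odd 𝐨(H)) : Group.IsSolvable H := feit_thompson H h

theorem solvable_of_two {H : Subgroup G} (h : IsPGroup 2 H) : Group.IsSolvable H :=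
  H1.isSolvable_of_isPGroup h

theorem solvable_of_cyclic {S : Subgroup G} (hS : IsSyl 2 S ⊤) (hc : IsCyclic S) :
    Group.IsSolvable G := by
  obtain ⟨P, rfl⟩ := hS.exists_sylow_top Nat.prime_two
  obtain ⟨T, N, hN, hc⟩ := H8.hasNPC_two_of_isCyclic P hc
  refine isSolvable_of_normal_of_quotient N (feit_thompson _ ?_)
    (H1.isSolvable_of_isPGroup (p := 2) ?_)
  · rw [← hc.index_eq_card, odd_iff_not_dvd]
    exact T.not_dvd_index
  · obtain ⟨k, hk⟩ := IsPGroup.iff_card.mp T.isPGroup'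
    exact IsPGroup.of_card (hc.symm.index_eq_card.trans hk)

theorem solvable_of_index_two {N : Subgroup G} (h : N.index = 2) (hs : Group.IsSolvable N) :
    Group.IsSolvable G := by
  have := normal_of_index_eq_two h
  exact isSolvable_of_normal_of_quotient N hs
    (H1.isSolvable_of_isPGroup (p := 2) (IsPGroup.of_card (n := 1) h))

/-- A fusion invariant subgroup of index two of a subgroup of odd index comes from a subgroup
of index two. -/
theorem exists_index_two_of_fusion {S D : Subgroup G} (hS : Odd S.index)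
    (hi : D.relIndex S = 2)
    (hf : ∀ a ∈ S, ∀ g : G, g * a * g⁻¹ ∈ S → (a ∈ D ↔ g * a * g⁻¹ ∈ D)) :
    ∃ N : Subgroup G, N.index = 2 ∧ ∀ a ∈ S, a ∈ N ↔ a ∈ D := by
  have hn := normal_of_index_eq_two (H := D.subgroupOf S) hi
  have h1 : S.focalSubgroupOf ≤ (D.subgroupOf S).comap (MonoidHom.id S) := by
    rw [focalSubgroupOf_eq_closure, closure_le]
    rintro g ⟨a, ha, u, e⟩
    have h2 : u * a * u⁻¹ ∈ S := by
      have : u * a * u⁻¹ = (g : G)⁻¹ * a := by rw [e, commutatorElement_def]; group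
      rw [this]; exact mul_mem (inv_mem g.2) ha
    have h3 : g = ⟨a, ha⟩ * (⟨u * a * u⁻¹, h2⟩ : S)⁻¹ :=
      Subtype.ext (by rw [e, commutatorElement_def]; simp [mul_assoc])
    change g ∈ D.subgroupOf S
    rw [h3, mul_mem_iff_of_index_two hi, inv_mem_iff]
    exact hf a ha u h2
  let f : G →* S ⧸ D.subgroupOf S :=
    (QuotientGroup.map _ _ (MonoidHom.id S) h1).comp S.transferFocal
  have hf' : ∀ a : S, f a = (a : S ⧸ D.subgroupOf S) := fun a => by
    obtain ⟨k, hk⟩ := hS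
    simp only [f, MonoidHom.comp_apply, transferFocal_eq_pow, map_pow, QuotientGroup.map_mk,
      MonoidHom.id_apply]
    rw [hk, pow_succ, pow_mul, ← QuotientGroup.mk_pow,
      (QuotientGroup.eq_one_iff _).2 (sq_mem_of_index_two hi a), one_pow, one_mul]
  refine ⟨f.ker, ?_, fun a ha => ?_⟩
  · rw [index_ker, MonoidHom.range_eq_top.2 fun y => ?_, card_top]
    · exact hi
    · obtain ⟨a, rfl⟩ := QuotientGroup.mk_surjective y
      exact ⟨a, hf' a⟩
  · rw [MonoidHom.mem_ker, hf' ⟨a, ha⟩, QuotientGroup.eq_one_iff, mem_subgroupOf]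

/-- No involution commutes with a non-identity element of odd order. -/
def CIT (G : Type u) [Group G] : Prop :=
  ∀ t x : G, t * t = 1 → Odd (orderOf x) → Commute t x → t = 1 ∨ x = 1

namespace CIT

omit [Finite G] in
theorem of_injective {H : Type*} [Group H] (h : CIT G) (f : H →* G) (hf : Function.Injective f) :
    CIT H := fun t x ht hx hc => by
  have := h (f t) (f x) (by rw [← map_mul, ht, map_one]) (by rwa [orderOf_injective f hf])
    (hc.map f)
  rwa [map_eq_one_iff f hf, map_eq_one_iff f hf] at this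

omit [Finite G] in
theorem subgroup (h : CIT G) (H : Subgroup G) : CIT H := h.of_injective H.subtype H.subtype_injective

theorem isPGroup_cent (h : CIT G) {t : G} (h1 : t ≠ 1) (ht : t * t = 1) : IsPGroup 2 𝐂[t] :=
  isPGroup_of_forall_odd fun x hx ho => (h t x ht ho (mem_cent1.1 hx)).resolve_left h1

theorem odd_cent (h : CIT G) {x : G} (h1 : x ≠ 1) (hx : Odd (orderOf x)) : Odd 𝐨(𝐂[x]) :=
  odd_card_of_forall_sq fun a ha h2 => (h a x h2 hx (mem_cent1.1 ha).symm).resolve_right h1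

theorem isPGroup_cent' (h : CIT G) {P : Subgroup G} (hP : IsPGroup 2 P) {y : G} (hy : y ∈ P)
    (h1 : y ≠ 1) : IsPGroup 2 𝐂[y] := by
  obtain ⟨t, ht, t1, tt⟩ := exists_invol (hP.to_le (zpowers_le_of_mem hy)) (zpowers_ne_bot.2 h1)
  exact (h.isPGroup_cent t1 tt).to_le (cent1_le_cent1_of_mem_zpowers ht)

theorem isPGroup_centralizer (h : CIT G) {P : Subgroup G} (hP : IsPGroup 2 P) (h1 : P ≠ ⊥) :
    IsPGroup 2 𝐂(P) := by
  obtain ⟨t, ht, t1, tt⟩ := exists_invol hP h1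
  exact (h.isPGroup_cent t1 tt).to_le (cent_le_cent1 ht)

theorem fpf (h : CIT G) {P : Subgroup G} (hP : IsPGroup 2 P) {x y : G} (hx : Odd (orderOf x))
    (h1 : x ≠ 1) (hy : y ∈ P) (hc : Commute x y) : y = 1 := by
  by_contra h2
  exact h1 (eq_one_of_odd_of_mem (h.isPGroup_cent' hP hy h2) hx (mem_cent1.2 hc.symm))

theorem semiReg (h : CIT G) {P R : Subgroup G} (hP : IsPGroup 2 P) (hR : Odd 𝐨(R)) :
    SemiReg P R := semiReg_iff.2 fun _ hx h1 _ hk hc =>
  h.fpf hP (Odd.of_dvd_nat hR (orderOf_dvd_card_of_mem hx)) h1 hk hc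

theorem cent_eq (h : CIT G) {S : Subgroup G} (hS : IsSyl 2 S ⊤) {z : G} (h1 : z ≠ 1)
    (hz : z * z = 1) (hc : S ≤ 𝐂[z]) : 𝐂[z] = S :=
  hS.eq_of_le Nat.prime_two hc le_top (h.isPGroup_cent h1 hz)

theorem quot (h : CIT G) (N : Subgroup G) [N.Normal] (hN : IsPGroup 2 N) : CIT (G ⧸ N) := by
  intro t y ht hy hc
  by_contra h0
  push Not at h0
  obtain ⟨x, rfl, hx⟩ := H5.exists_lift_orderOf_eq N y (coprime_of_odd hN hy)
  have h1 : x ≠ 1 := fun e => h0.2 (by rw [e, map_one])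
  have h2 := H1.centralizer_map_mk' N (A := zpowers x)
    (by rw [Nat.card_zpowers, hx]; exact coprime_of_odd hN hy) (Or.inr (solvable_of_two hN))
  rw [MonoidHom.map_zpowers, cent_zpowers, cent_zpowers] at h2
  have h3 : Odd 𝐨(𝐂[QuotientGroup.mk' N x]) := by
    rw [h2]; exact Odd.of_dvd_nat (h.odd_cent h1 (hx ▸ hy)) (card_map_dvd' _ _)
  exact h0.1 (eq_one_of_sq_of_odd h3 (mem_cent1.2 hc.symm) ht)

end CIT

end Cfsg.Agent.P4
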