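/-
P4: groups with a self-centralizing four-group.
-/
import Cfsg.Agent.P4.Basic
import Cfsg.Agent.P4.PSL2
import Cfsg.Agent.P3.Final
import Cfsg.Agent.H2.ZC2

set_option autoImplicit false
set_option linter.unusedSectionVars false

namespace Cfsg.Agent.P4

open Subgroup Cfsg Cfsg.Agent Cfsg.Agent.FT Cfsg.Agent.L
open scoped commutatorElement

universe u

variable {G : Type u} [Group G] [Finite G]

/-- `S` is a Sylow `2`-subgroup with cyclic subgroup `⟨x⟩` of index two, `z` is the involution of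
`⟨x⟩` and `s` is an involution outside with `C_S(s) = ⟨z, s⟩`. -/
structure Max2 (S : Subgroup G) (x z s : G) : Prop where
  syl : IsSyl 2 S ⊤
  xS : x ∈ S
  zx : z ∈ zpowers x
  z1 : z ≠ 1
  zz : z * z = 1
  sS : s ∈ S
  sx : s ∉ zpowers x
  ss : s * s = 1
  cover : ∀ g ∈ S, g ∈ zpowers x ∨ s * g ∈ zpowers x
  cs : ∀ y ∈ zpowers x, Commute s y → y * y = 1

/-- `{1, t, u, t u}` is a self-centralizing four-group. -/
structure SelfCent (t u : G) : Prop where
  t1 : t ≠ 1
  u1 : u ≠ 1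
  ne : t ≠ u
  tt : t * t = 1
  uu : u * u = 1
  comm : Commute t u
  cent : ∀ g, Commute t g → Commute u g → g = 1 ∨ g = t ∨ g = u ∨ g = t * u

theorem SelfCent.symm {t u : G} (h : SelfCent t u) : SelfCent u t :=
  ⟨h.u1, h.t1, h.ne.symm, h.uu, h.tt, h.comm.symm, fun g a b => by
    have := h.cent g b a
    rw [h.comm.eq] at this
    tauto⟩

theorem SelfCent.mul {t u : G} (h : SelfCent t u) : SelfCent (t * u) u := by
  have e : t * u * u = t := by rw [mul_assoc, h.uu, mul_one]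
  refine ⟨fun e' => h.ne (by rw [← e, e', one_mul]), h.u1, fun e' => h.t1 (by simpa using e'),
    by rw [h.comm.symm.mul_mul_mul_comm, h.tt, h.uu, one_mul], h.uu,
    h.comm.mul_left (Commute.refl u), fun g a b => ?_⟩
  have := h.cent g (e ▸ a.mul_left b) b
  rw [e]; tauto

theorem SelfCent.sq {t u g : G} (h : SelfCent t u) (a : Commute t g) (b : Commute u g) :
    g * g = 1 := by
  rcases h.cent g a b with rfl | rfl | rfl | rfl
  exacts [mul_one _, h.tt, h.uu, h.mul.tt]

theorem SelfCent.exists_max2' {S : Subgroup G} {w s : G} (h : SelfCent w s) (hS : IsSyl 2 S ⊤)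
    (hw : w ∈ S) (hwc : w ∈ 𝐂(S)) (hs : s ∈ S) : ∃ x z s, Max2 S x z s := by
  have hc : ∀ g ∈ S, Commute w g := fun g hg => (mem_cent.1 hwc g hg).symm
  obtain ⟨x, hx⟩ := H2.ZC.exists_index_le_two hS.pgrp (t := ⟨s, hs⟩) (by
    have h1 : ((𝐂[(⟨s, hs⟩ : S)]).map S.subtype : Set G) ⊆ {1, w, s, w * s} := by
      rintro _ ⟨g, hg, rfl⟩
      exact h.cent g (hc g g.2) (congrArg Subtype.val (mem_cent1.1 hg))
    have h2 := Set.ncard_le_ncard h1
    rw [← card_map_inj S.subtype_injective]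
    refine h2.trans ((Set.ncard_insert_le _ _).trans ?_)
    have := Set.ncard_insert_le w {s, w * s}
    have := Set.ncard_insert_le s {w * s}
    rw [Set.ncard_singleton] at this
    omega)
  have hm : ∀ g : S, g ∈ zpowers x ↔ (g : G) ∈ zpowers (x : G) := fun g =>
    ⟨fun ⟨k, hk⟩ => ⟨k, congrArg Subtype.val hk⟩, fun ⟨k, hk⟩ => ⟨k, Subtype.ext hk⟩⟩
  have hcyc : IsCyclic (zpowers (x : G)) := inferInstance
  have hne : w ∈ zpowers (x : G) → s ∈ zpowers (x : G) → False := fun a b =>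
    h.ne (uniq_invol hcyc a h.t1 h.tt b h.u1 h.uu)
  have h2 : (zpowers x).index = 2 := by
    have h3 : (zpowers x).index ≠ 1 := fun e => by
      rw [index_eq_one] at e
      exact hne ((hm ⟨w, hw⟩).1 (e ▸ mem_top _)) ((hm ⟨s, hs⟩).1 (e ▸ mem_top _))
    have := (zpowers x).index_ne_zero_of_finite
    omega
  have cov : ∀ a ∈ S, a ∉ zpowers (x : G) → ∀ g ∈ S, g ∈ zpowers (x : G) ∨ a * g ∈ zpowers (x : G) :=
    fun a ha ha' g hg => by
      have := mul_mem_iff_of_index_two h2 (a := ⟨a, ha⟩) (b := ⟨g, hg⟩)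
      simp only [hm] at this
      by_cases h4 : g ∈ zpowers (x : G)
      · exact Or.inl h4
      · exact Or.inr (this.2 (iff_of_false ha' h4))
  obtain ⟨z, zx, z1, zz⟩ := exists_invol (hS.pgrp.to_le (zpowers_le_of_mem x.2)) (fun e => by
    have h1 : s ∉ zpowers (x : G) := by rw [e]; exact h.u1
    rcases cov s hs h1 w hw with h3 | h3 <;> rw [e, mem_bot] at h3
    · exact h.t1 h3
    · exact h.mul.t1 (h.comm.eq.trans h3))
  by_cases h1 : s ∈ zpowers (x : G)
  · exact ⟨x, z, w, hS, x.2, zx, z1, zz, hw, fun a => hne a h1, h.tt, cov w hw fun a => hne a h1,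
      fun y hy a => h.sq a (by
        obtain ⟨k, rfl⟩ := hy
        obtain ⟨j, rfl⟩ := h1
        exact zpow_mul_comm _ j k)⟩
  · exact ⟨x, z, s, hS, x.2, zx, z1, zz, hs, h1, h.uu, cov s hs h1, fun y hy a =>
      h.sq (hc y (zpowers_le_of_mem x.2 hy)) a⟩

theorem SelfCent.exists_max2 {t u : G} (h : SelfCent t u) : ∃ (S : Subgroup G) (x z s : G),
    Max2 S x z s := by
  obtain ⟨S, hS, hV⟩ := exists_isSyl_ge Nat.prime_two (isPGroup_sup (isPGroup_zpowers_of_sq h.tt)
    (isPGroup_zpowers_of_sq h.uu) ((zpowers_le_of_mem (g := t) (H := 𝐂(zpowers u)) (by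
      rw [cent_zpowers]; exact mem_cent1.2 h.comm.symm)).trans (cent_le_norm _))) le_top
  have ht : t ∈ S := hV (mem_sup_left (mem_zpowers t))
  have hu : u ∈ S := hV (mem_sup_right (mem_zpowers u))
  obtain ⟨w, hw, hwc, w1, -⟩ := exists_invol_center hS.pgrp ⟨le_rfl, le_normalizer⟩
    (fun e => h.t1 (mem_bot.1 (e ▸ ht)))
  refine ⟨S, ?_⟩
  rcases h.cent w (mem_cent.1 hwc t ht) (mem_cent.1 hwc u hu) with rfl | rfl | rfl | rfl
  · exact absurd rfl w1
  · exact h.exists_max2' hS hw hwc hu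
  · exact h.symm.exists_max2' hS hw hwc ht
  · exact h.mul.exists_max2' hS hw hwc hu

namespace Max2

variable {S : Subgroup G} {x z s : G}

theorem X_le (h : Max2 S x z s) : zpowers x ≤ S := zpowers_le_of_mem h.xS

theorem uniq (h : Max2 S x z s) {y : G} (hy : y ∈ zpowers x) (yy : y * y = 1) : y = 1 ∨ y = z := by
  by_cases h1 : y = 1
  · exact Or.inl h1
  · exact Or.inr (uniq_invol inferInstance hy h1 yy h.zx h.z1 h.zz)

theorem relIndex (h : Max2 S x z s) : (zpowers x).relIndex S = 2 :=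
  relIndex_eq_two_iff_exists_notMem_and'.2 ⟨s, h.sS, h.sx, fun g hg => (h.cover g hg).symm⟩

theorem mul_mem_iff (h : Max2 S x z s) {a b : G} (ha : a ∈ S) (hb : b ∈ S) :
    a * b ∈ zpowers x ↔ (a ∈ zpowers x ↔ b ∈ zpowers x) :=
  mul_mem_iff_of_index_two h.relIndex (a := ⟨a, ha⟩) (b := ⟨b, hb⟩)

theorem card (h : Max2 S x z s) : 𝐨(S) = 2 * orderOf x := by
  rw [← H1.card_mul_relIndex h.X_le, h.relIndex, Nat.card_zpowers, mul_comm]

theorem conj_mem (h : Max2 S x z s) {g y : G} (hg : g ∈ S) (hy : y ∈ zpowers x) :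
    g * y * g⁻¹ ∈ zpowers x := by
  rw [h.mul_mem_iff (mul_mem hg (h.X_le hy)) (inv_mem hg), mul_mem_cancel_right hy, inv_mem_iff]

theorem le_cent (h : Max2 S x z s) : S ≤ 𝐂[z] := fun g hg => mem_cent1_iff_conj.2
  ((h.uniq (h.conj_mem hg h.zx) (conj_sq h.zz g)).resolve_left (conj_ne_one h.z1 g))

theorem s_inv (h : Max2 S x z s) : s⁻¹ = s := inv_eq_self_of_mul_self h.ss

theorem cases (h : Max2 S x z s) : s * x * s = x⁻¹ ∨ s * x * s = x⁻¹ * z := by
  have h1 : s * x * s ∈ zpowers x := by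
    have := h.conj_mem h.sS (mem_zpowers x); rwa [h.s_inv] at this
  have h2 : x * (s * x * s) = s * x * s * x := by
    obtain ⟨k, hk⟩ := h1
    rw [← hk]; exact (Commute.self_zpow x k).eq
  have h3 := mul_mem (mem_zpowers x) h1
  rcases h.uniq h3 (h.cs _ h3 (by
    change s * (x * (s * x * s)) = x * (s * x * s) * s
    rw [mul_assoc x, mul_assoc (s * x), h.ss, mul_one]
    nth_rewrite 1 [h2]
    simp only [← mul_assoc, h.ss, one_mul])) with e | e
  · exact Or.inl (eq_inv_of_mul_eq_one_right e)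
  · exact Or.inr (by rw [← e]; group)

theorem inv_of (h : Max2 S x z s) {a : G} (ha : s * a * s = a⁻¹) : ∀ y ∈ zpowers a, s * y * s = y⁻¹ := by
  rintro _ ⟨k, rfl⟩
  nth_rewrite 2 [← h.s_inv] at ha ⊢
  simp only
  rw [← conj_zpow, ha, inv_zpow]

theorem z_mem_zpowers (h : Max2 S x z s) {y : G} (hy : y ∈ S) (h1 : y * y ≠ 1) :
    z ∈ zpowers (y * y) := by
  have h2 : zpowers (y * y) ≤ zpowers x := zpowers_le_of_mem ((h.mul_mem_iff hy hy).2 Iff.rfl)
  obtain ⟨t, ht, t1, tt⟩ := exists_invol (h.syl.pgrp.to_le (h2.trans h.X_le)) (zpowers_ne_bot.2 h1)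
  exact (h.uniq (h2 ht) tt).resolve_left t1 ▸ ht

theorem odd_index (h : Max2 S x z s) : Odd S.index := by
  rw [odd_iff_not_dvd, ← relIndex_top_right]; exact h.syl.ndvd

theorem isConj_or (h : Max2 S x z s) {u : G} (u1 : u ≠ 1) (uu : u * u = 1) :
    IsConj z u ∨ ∃ N : Subgroup G, N.index = 2 ∧ u ∉ N := by
  by_cases hc : ∀ g : G, g * u * g⁻¹ ∉ zpowers x
  · obtain ⟨N, -, h1, h2⟩ := H8.exists_normal_index_two_of_not_conj (zpowers x) h.odd_index
      (by rw [← relIndex_mul_index h.X_le, h.relIndex]) (by rwa [sq]) hc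
    exact Or.inr ⟨N, h1, h2⟩
  · push Not at hc
    obtain ⟨g, hg⟩ := hc
    exact Or.inl (isConj_iff.2 ⟨g, (h.uniq hg (conj_sq uu g)).resolve_left
      (conj_ne_one u1 g)⟩).symm

theorem bsw (h : Max2 S x z s) (hC : 𝐂[z] ≤ S) (hd : s * x * s = x⁻¹)
    (hc : ∀ u : G, u ≠ 1 → u * u = 1 → IsConj z u) : P3.BSW (zpowers x) z s where
  comm := inferInstance
  tK := h.zx
  t1 := h.z1
  tt := h.zz
  uniq := fun _ hy yy => h.uniq hy yy
  sK := h.sx
  ss := h.ss
  inv := h.inv_of hd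
  centt := fun g hg => h.cover g (hC (mem_cent1.2 hg))
  cent := fun y hy h1 g hg => by
    have h2 : g ∈ S := hC (cent1_le_cent1_of_mem_zpowers (h.z_mem_zpowers (h.X_le hy) h1)
      (mem_cent1.2 (hg.mul_left hg)))
    refine (h.cover g h2).resolve_right fun h3 => h1 (h.cs y hy ?_)
    have h4 : Commute (s * g) y := by
      obtain ⟨k, rfl⟩ := hy
      obtain ⟨j, e⟩ := h3
      rw [← e]; exact zpow_mul_comm _ j k
    simpa using h4.mul_left hg.symm.inv_left
  isConj := hc

theorem swap (h : Max2 S x z s) (hd : s * x * s = x⁻¹) :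
    Max2 S x z (s * x) ∧ s * x * x * (s * x) = x⁻¹ := by
  have h1 : s * x ∉ zpowers x := by rw [mul_mem_cancel_right (mem_zpowers x)]; exact h.sx
  refine ⟨⟨h.syl, h.xS, h.zx, h.z1, h.zz, mul_mem h.sS h.xS, h1, by
    rw [← mul_assoc, hd, inv_mul_cancel], fun g hg => ?_, fun y hy hc => h.cs y hy ?_⟩, ?_⟩
  · rw [h.mul_mem_iff (mul_mem h.sS h.xS) hg]; tauto
  · have h4 : Commute x y := by
      obtain ⟨k, rfl⟩ := hy
      exact Commute.self_zpow x k
    simpa using hc.mul_left h4.inv_left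
  · have := h.inv_of hd (x * x) (mul_mem (mem_zpowers x) (mem_zpowers x))
    calc s * x * x * (s * x) = s * (x * x) * s * x := by group
      _ = x⁻¹ := by rw [this]; group

theorem mem_sq_or {x g : G} (hg : g ∈ zpowers x) : g ∈ zpowers (x * x) ∨ x * g ∈ zpowers (x * x) := by
  obtain ⟨k, rfl⟩ := hg
  obtain ⟨j, rfl | rfl⟩ := Int.even_or_odd' k
  · exact Or.inl ⟨j, by simp only; rw [zpow_mul, zpow_two]⟩
  · exact Or.inr ⟨j + 1, by simp only; rw [← zpow_two, ← zpow_mul, ← zpow_one_add]; ring_nf⟩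

theorem x_notMem (h : Max2 S x z s) : x ∉ zpowers (x * x) := by
  rw [← sq, mem_zpowers_pow_iff]
  intro e
  have h1 := orderOf_dvd_of_mem_zpowers h.zx
  rw [orderOf_two h.z1 h.zz] at h1
  rw [Nat.gcd_eq_left h1] at e
  omega

/-- Passing to a subgroup of index two. -/
theorem sub (h : Max2 S x z s) {N : Subgroup G} (hN : N.index = 2) (hx : x ∉ N) (hs : s ∈ N)
    (h1 : x * x ≠ 1) : ∃ (hx : x * x ∈ N) (hz : z ∈ N),
      Max2 (S.subgroupOf N) ⟨x * x, hx⟩ ⟨z, hz⟩ ⟨s, hs⟩ := by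
  have := normal_of_index_eq_two hN
  have hx2 := mul_self_mem_of_index_two hN x
  have hz := h.z_mem_zpowers h.xS h1
  have hm : ∀ g : N, g ∈ zpowers (⟨x * x, hx2⟩ : N) ↔ (g : G) ∈ zpowers (x * x) := fun g =>
    ⟨fun ⟨k, hk⟩ => ⟨k, congrArg Subtype.val hk⟩, fun ⟨k, hk⟩ => ⟨k, Subtype.ext hk⟩⟩
  have hle : zpowers (x * x) ≤ zpowers x :=
    zpowers_le_of_mem (mul_mem (mem_zpowers x) (mem_zpowers x))
  have key : ∀ g ∈ N, g ∈ zpowers x → g ∈ zpowers (x * x) := fun g hg hg' =>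
    (mem_sq_or hg').resolve_right fun e =>
      hx ((mul_mem_cancel_right hg).1 (zpowers_le_of_mem hx2 e))
  refine ⟨hx2, zpowers_le_of_mem hx2 hz, ?_, mul_mem h.xS h.xS, (hm _).2 hz,
    fun e => h.z1 (congrArg Subtype.val e), Subtype.ext h.zz, h.sS,
    fun e => h.sx (hle ((hm _).1 e)), Subtype.ext h.ss, fun g hg => ?_, fun y hy hc => ?_⟩
  · have h2 := h.syl.inf_normal Nat.prime_two (K := N) ⟨le_top, normal_iff_top_le.1 this⟩
    rw [← isSyl_map_iff N.subtype_injective, subgroupOf_map_subtype, ← MonoidHom.range_eq_map,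
      range_subtype]
    exact h2
  · rw [hm, hm]
    exact (h.cover g hg).imp (key g g.2) (key _ (mul_mem hs g.2))
  · exact Subtype.ext (h.cs y (hle ((hm _).1 hy)) (congrArg Subtype.val hc))

/-- The semidihedral case. -/
theorem sd (h : Max2 S x z s) (hC : 𝐂[z] ≤ S) (hd : s * x * s ≠ x⁻¹) :
    x * x ≠ 1 ∧ s * (x * x) * s = (x * x)⁻¹ ∧ ∃ N : Subgroup G, N.index = 2 ∧ x ∉ N ∧
      ∀ a ∈ S, a * a = 1 → a ∈ N := by
  have he := h.cases.resolve_left hd
  have hzx : Commute z x := mem_cent1.1 (h.le_cent h.xS)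
  have h1 : x * x ≠ 1 := fun e => by
    rcases h.uniq (mem_zpowers x) e with rfl | rfl
    · exact hd (by simp [h.ss])
    · exact hd (by rw [← mem_cent1.1 (h.le_cent h.sS), mul_assoc, h.ss, mul_one,
        inv_eq_self_of_mul_self h.zz])
  have h2 : s * (x * x) * s = (x * x)⁻¹ := by
    calc s * (x * x) * s = s * x * (s * s) * x * s := by rw [h.ss]; group
      _ = (s * x * s) * (s * x * s) := by group
      _ = x⁻¹ * (z * x⁻¹) * z := by rw [he]; group
      _ = x⁻¹ * x⁻¹ * (z * z) := by rw [hzx.inv_right.eq]; group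
      _ = _ := by rw [h.zz]; group
  refine ⟨h1, h2, ?_⟩
  have hle : zpowers (x * x) ≤ zpowers x :=
    zpowers_le_of_mem (mul_mem (mem_zpowers x) (mem_zpowers x))
  have hinv := h.inv_of h2
  have hz := h.z_mem_zpowers h.xS h1
  have hsm : ∀ y ∈ zpowers (x * x), s * y * s ∈ zpowers (x * x) := fun y hy => by
    rw [hinv y hy]; exact inv_mem hy
  let D : Subgroup G :=
    { carrier := {g | g ∈ zpowers (x * x) ∨ s * g ∈ zpowers (x * x)}
      one_mem' := Or.inl (one_mem _)
      mul_mem' := by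
        rintro a b (ha | ha) (hb | hb)
        · exact Or.inl (mul_mem ha hb)
        · refine Or.inr ?_
          have := mul_mem (hsm a ha) hb
          rwa [mul_assoc (s * a), ← mul_assoc s s, h.ss, one_mul, mul_assoc] at this
        · exact Or.inr (by rw [← mul_assoc]; exact mul_mem ha hb)
        · refine Or.inl ?_
          have := mul_mem (hsm _ ha) hb
          rwa [← mul_assoc s s, h.ss, one_mul, mul_assoc a, ← mul_assoc s s, h.ss, one_mul] at this
      inv_mem' := by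
        rintro a (ha | ha)
        · exact Or.inl (inv_mem ha)
        · refine Or.inr ?_
          have := hsm _ (inv_mem ha)
          rwa [mul_inv_rev, h.s_inv, mul_assoc, mul_assoc, h.ss, mul_one] at this }
  have hD : ∀ g, g ∈ D ↔ g ∈ zpowers (x * x) ∨ s * g ∈ zpowers (x * x) := fun _ => Iff.rfl
  have hxD : x ∉ D := by
    rintro (e | e)
    · exact h.x_notMem e
    · exact h.sx ((mul_mem_cancel_right (mem_zpowers x)).1 (hle e))
  have hxc : ∀ y ∈ zpowers (x * x), Commute x y := by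
    rintro _ ⟨k, rfl⟩
    exact ((Commute.refl x).mul_right (Commute.refl x)).zpow_right k
  have hi : D.relIndex S = 2 := by
    refine relIndex_eq_two_iff_exists_notMem_and.2 ⟨x, h.xS, hxD, fun g hg => ?_⟩
    rcases h.cover g hg with e | e <;> rcases mem_sq_or e with e' | e'
    · exact Or.inr (Or.inl e')
    · refine Or.inl (Or.inl ?_)
      have := hxc _ e'
      rwa [← mul_left_cancel ((mul_assoc x x g).trans (this.eq.trans (mul_assoc _ _ _)) |>.symm.trans
        (mul_assoc x x g) |>.symm)] 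
    · exact Or.inr (Or.inr e')
    · refine Or.inl (Or.inr ?_)
      have := (hxc _ e').eq
      rw [mul_assoc x _ x] at this
      rwa [← mul_assoc, ← mul_left_cancel this]
  have hsq : ∀ a ∈ S, a * a = 1 → a ∈ D := fun a ha aa => by
    rcases h.cover a ha with e | e
    · exact Or.inl ((h.uniq e aa).elim (fun e => e ▸ one_mem _) fun e => e ▸ hz)
    · refine Or.inr ((mem_sq_or e).resolve_right fun e' => h.z1 ?_)
      have h3 := hinv _ e'
      have h4 := (hxc _ e').eq
      rw [mul_assoc x _ x] at h4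
      have h5 : s * (x * (s * a)) * s = x⁻¹ * z * (a * s) := by rw [← he]; group
      rw [h5, mul_left_cancel h4, mul_inv_rev, mul_inv_rev, inv_eq_self_of_mul_self aa,
        h.s_inv, mul_assoc] at h3
      simpa using mul_left_cancel h3
  obtain ⟨N, hN, hm⟩ := exists_index_two_of_fusion h.odd_index hi fun a ha g hg => by
    by_cases aa : a * a = 1
    · exact iff_of_true (hsq a ha aa) (hsq _ hg (conj_sq aa g))
    · have h3 := conj_mem_conj (h.z_mem_zpowers ha aa) g
      rw [← zpowers_conj, ← conj_mul] at h3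
      have h4 := (h.uniq (zpowers_le_of_mem ((h.mul_mem_iff hg hg).2 Iff.rfl) h3)
        (conj_sq h.zz g)).resolve_left (conj_ne_one h.z1 g)
      have h5 := hC (mem_cent1_iff_conj.2 h4)
      have := normal_of_index_eq_two (H := D.subgroupOf S) hi
      exact (this.mem_comm_iff (a := ⟨g * a, mul_mem h5 ha⟩) (b := ⟨g⁻¹, inv_mem h5⟩)).trans
        (by simp [mem_subgroupOf]) |>.symm
  exact ⟨N, hN, fun e => hxD ((hm x h.xS).1 e), fun a ha aa => (hm a ha).2 (hsq a ha aa)⟩

end Max2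

end Cfsg.Agent.P4
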