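/-
P4: prime powers next to powers of two.
-/
import Mathlib

set_option autoImplicit false

namespace Cfsg.Agent.P4

open Finset

theorem eq_one_of_odd_pow {a : ℤ} {f k : ℕ} (ha : Odd a) (h3 : 3 ≤ a.natAbs) (hf : Odd f)
    (h : a ^ f - 1 ∣ 2 ^ k) : f = 1 := by
  have h1 : ∀ n : ℕ, (∑ i ∈ range n, a ^ i) % 2 = n % 2 := by
    intro n
    induction n with
    | zero => simp
    | succ n ih =>
      have := Int.odd_iff.1 (ha.pow (n := n))
      rw [sum_range_succ]; push_cast; omega
  have h2 := geom_sum_mul a f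
  have h4 : (∑ i ∈ range f, a ^ i).natAbs ∣ 2 ^ k := by
    have := Int.natAbs_dvd_natAbs.2 ((Dvd.intro _ h2).trans h)
    simpa [Int.natAbs_pow] using this
  obtain ⟨j, -, hj⟩ := (Nat.dvd_prime_pow Nat.prime_two).1 h4
  have h5 := h1 f
  have h6 := Nat.odd_iff.1 hf
  generalize (∑ i ∈ range f, a ^ i) = g at *
  have h7 : j = 0 := by
    rcases j with _ | j
    · rfl
    · rw [pow_succ] at hj; omega
  subst h7
  obtain ⟨m, rfl⟩ : ∃ m, f = m + 1 := ⟨f - 1, by omega⟩
  have h0 : a ≠ 0 := by rintro rfl; simp at h3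
  rcases Int.natAbs_eq_iff.1 hj with rfl | rfl
  · have h8 : a ^ m = 1 := mul_right_cancel₀ h0 (by rw [← pow_succ]; push_cast at h2; linarith)
    have h9 := congrArg Int.natAbs h8
    rw [Int.natAbs_pow, Int.natAbs_one, pow_eq_one_iff] at h9
    omega
  · have h8 : a ∣ 2 := ⟨a ^ m + 1, by rw [pow_succ] at h2; push_cast at h2; linarith⟩
    have := Nat.le_of_dvd two_pos (Int.natAbs_dvd_natAbs.2 h8)
    omega

theorem prime_or_nine {p f k : ℕ} (hp : p.Prime) (hf : 0 < f)
    (h : p ^ f = 2 ^ k + 1 ∨ p ^ f + 1 = 2 ^ k) : f = 1 ∨ p ^ f = 9 := by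
  have h2 := hp.two_le
  rcases Nat.even_or_odd f with ⟨m, rfl⟩ | ho
  · right
    have h1 : 2 ≤ p ^ m := h2.trans (Nat.le_self_pow (by omega) p)
    rw [pow_add] at h ⊢
    generalize p ^ m = a at *
    obtain ⟨b, rfl⟩ : ∃ b, a = b + 1 := ⟨a - 1, by omega⟩
    rcases h with h | h
    · obtain ⟨i, -, hi⟩ := (Nat.dvd_prime_pow Nat.prime_two).1 (⟨b + 2, by linarith⟩ : b ∣ 2 ^ k)
      obtain ⟨j, -, hj⟩ := (Nat.dvd_prime_pow Nat.prime_two).1 (⟨b, by linarith⟩ : b + 2 ∣ 2 ^ k)
      rcases i with _ | _ | i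
      · rcases j with _ | j <;> simp [pow_succ] at hi hj <;> omega
      · rw [hi]; norm_num
      · rcases j with _ | _ | j <;> simp [pow_succ] at hi hj <;> omega
    · rcases k with _ | _ | k
      · simp at h
      · norm_num at h; nlinarith
      · have : (b + 1) * (b + 1) % 4 = 3 := by rw [pow_succ, pow_succ] at h; omega
        rw [Nat.mul_mod] at this
        have h3 := Nat.mod_lt (b + 1) (by norm_num : 0 < 4)
        generalize (b + 1) % 4 = c at *
        interval_cases c <;> omega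
  · left
    rcases hp.eq_two_or_odd' with rfl | hp'
    · obtain ⟨m, rfl⟩ : ∃ m, f = m + 1 := ⟨f - 1, by omega⟩
      rcases k with _ | k
      · rcases m with _ | m
        · rfl
        · simp [pow_succ] at h
      · simp [pow_succ] at h; omega
    · have h3 : 3 ≤ p := by have := Nat.odd_iff.1 hp'; omega
      rcases h with h | h
      · refine eq_one_of_odd_pow (a := p) (k := k) (by exact_mod_cast hp') (by simpa) ho ?_
        rw [show (p : ℤ) ^ f - 1 = 2 ^ k by
          rw [sub_eq_iff_eq_add]; exact_mod_cast h]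
      · refine eq_one_of_odd_pow (a := -p) (k := k) (by simpa using hp') (by simpa) ho ?_
        rw [ho.neg_pow, show -(p : ℤ) ^ f - 1 = -2 ^ k by
          have : (p : ℤ) ^ f + 1 = 2 ^ k := by exact_mod_cast h
          linarith]
        exact neg_dvd.2 dvd_rfl

end Cfsg.Agent.P4
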