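/-
P4: CIT groups with a self-centralizing four-group.
-/
import Cfsg.Agent.P4.Dih
import Cfsg.Agent.P4.Num
import Cfsg.Agent.L.ThreePrimes

set_option autoImplicit false
set_option linter.unusedSectionVars false

namespace Cfsg.Agent.P4

open Subgroup Cfsg Cfsg.Agent Cfsg.Agent.FT Cfsg.Agent.L
open scoped commutatorElement

universe u

variable {G : Type u} [Group G] [Finite G]

theorem exists_outer {N P V : Subgroup G} (h : N.index = 2) {p : ℕ} (hp : p.Prime)
    (hP : IsSyl p P N) (hV : IsPGroup 2 V) (hVP : V ≤ 𝐍(P)) :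
    ∃ R : Subgroup G, IsPGroup 2 R ∧ V ≤ R ∧ R ≤ 𝐍(P) ∧ ∃ r ∈ R, r ∉ N := by
  have := normal_of_index_eq_two h
  obtain ⟨R, hR, hVR⟩ := exists_isSyl_ge Nat.prime_two hV hVP
  refine ⟨R, hR.pgrp, hVR, hR.le, ?_⟩
  by_contra h0
  push Not at h0
  have h1 := hP.frattini hp (M := ⊤) ⟨le_top, normal_iff_top_le.1 this⟩
  rcases (Nat.dvd_prime Nat.prime_two).1 (h ▸ relIndex_dvd_index_of_normal N 𝐍(P)) with e | e
  · rw [top_inf_eq, sup_eq_left.2 (relIndex_eq_one.1 e)] at h1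
    simp [h1] at h
  · exact hR.ndvd (e ▸ relIndex_dvd_of_le_left _ h0)

theorem invol_eq_of_semiReg {P R : Subgroup G} (hP : P ≠ ⊥) (hn : R ≤ 𝐍(P)) (h : SemiReg P R)
    {a b : G} (ha : a ∈ R) (a1 : a ≠ 1) (aa : a * a = 1) (hb : b ∈ R) (b1 : b ≠ 1)
    (bb : b * b = 1) : a = b := by
  have key : ∀ a ∈ R, a ≠ 1 → a * a = 1 → ∀ y ∈ P, a * y * a = y⁻¹ := fun a ha a1 aa =>
    inverts_of_fpf aa (hn ha) fun y hy hc => semiReg_iff.1 h a ha a1 y hy hc
  obtain ⟨⟨y, hy⟩, y1⟩ := ne_bot_iff_exists_ne_one.1 hP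
  have h1 := EAC.mul_mem_cent_of_inverts aa bb (key a ha a1 aa y hy) (key b hb b1 bb y hy)
  have h2 : b * a = 1 := by
    by_contra h0
    exact y1 (Subtype.ext (semiReg_iff.1 h _ (mul_mem hb ha) h0 y hy (mem_cent1.1 h1).symm))
  rw [← inv_eq_self_of_mul_self bb, eq_inv_of_mul_eq_one_right h2]

theorem cast_ne_zero {F : Type*} [Field F] [Fintype F] {n : ℕ} (h : n.Coprime (Fintype.card F)) :
    (n : F) ≠ 0 := fun e => (CharP.prime_ringChar F).ne_one (Nat.eq_one_of_dvd_coprimes h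
  ((ringChar.spec F n).1 e) ((ringChar.spec F _).1 (FiniteField.cast_card_eq_zero F)))

theorem card_ne_twelve (hns : ¬ Group.IsSolvable G) : Nat.card G ≠ 12 := fun e => by
  obtain ⟨p, q, r, hp, hq, hr, h1, h2, h3, h4, h5, h6⟩ := exists_three_primes hns
  have key : ∀ p : ℕ, p.Prime → p ∣ Nat.card G → p = 2 ∨ p = 3 := fun p hp h => by
    rw [e] at h
    have := Nat.le_of_dvd (by norm_num) h
    interval_cases p <;> simp_all (config := { decide := true })
  have := key p hp h4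
  have := key q hq h5
  have := key r hr h6
  omega

theorem two_mul_card_of_equiv {F : Type} [Field F] [Fintype F] (e : G ≃* PSL F)
    (h : Odd (Fintype.card F)) :
    2 * Nat.card G = Fintype.card F * (Fintype.card F - 1) * (Fintype.card F + 1) := by
  classical
  rw [Nat.card_congr e.toEquiv, ← Nat.card_eq_fintype_card]
  exact P3.two_mul_card_PSL2 (by rwa [Nat.card_eq_fintype_card])

/-- A subgroup of index two isomorphic to `PSL₂(q)`, `q = 2 k ± 1`, has an outside element `r`,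
not an involution, acting regularly on a subgroup of order at most `k + 1`. -/
theorem CIT.exists_outer_elt (h : CIT G) {N : Subgroup G} (hN : N.index = 2)
    (hns : ¬ Group.IsSolvable N) {F : Type} [Field F] [Fintype F] (e : N ≃* PSL F) {k : ℕ}
    (hk : 2 ∣ k) (hq : Fintype.card F = 2 * k + 1 ∨ Fintype.card F + 1 = 2 * k) :
    ∃ r ∉ N, r * r ≠ 1 ∧ IsPGroup 2 (zpowers r) ∧ orderOf r ≤ k := by
  have ho : Odd (Fintype.card F) := by rw [Nat.odd_iff]; omega
  have hc := two_mul_card_of_equiv e ho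
  obtain ⟨m, hm, h1, h2, h3⟩ : ∃ m, 𝐨(N) = Fintype.card F * (2 * k) * m ∧
      m.Coprime (Fintype.card F * (2 * k)) ∧ m ≤ k + 1 ∧ m ≠ 1 := by
    have := Fintype.one_lt_card (α := F)
    rcases hq with hq | hq
    · rw [hq] at hc ⊢
      refine ⟨k + 1, by simp at hc; linarith, Nat.Coprime.mul_right ?_
        (Nat.Coprime.mul_right (by rw [Nat.coprime_two_right, Nat.odd_iff]; omega) (by simp)),
        le_rfl, by omega⟩
      rw [show 2 * k + 1 = (k + 1) + k by ring]; simp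
    · obtain ⟨j, rfl⟩ : ∃ j, k = j + 1 := ⟨k - 1, by omega⟩
      rw [show Fintype.card F = 2 * j + 1 by omega] at hc ⊢
      refine ⟨j, by simp at hc; linarith, Nat.Coprime.mul_right (by simp)
        (Nat.Coprime.mul_right (by rw [Nat.coprime_two_right, Nat.odd_iff]; omega) (by simp)),
        by omega, ?_⟩
      rintro rfl
      exact card_ne_twelve hns (by omega)
  obtain ⟨p, hp, hpm⟩ := Nat.exists_prime_and_dvd h3
  have hcop := Nat.Coprime.coprime_dvd_left hpm h1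
  have hp2 : Odd p := Nat.coprime_two_right.1
    ((Nat.Coprime.coprime_mul_left_right hcop).coprime_mul_right_right)
  have := Fact.mk hp
  obtain ⟨P⟩ : Nonempty (Sylow p N) := inferInstance
  have hP := isSyl_map_subtype hp P
  set Q := (P : Subgroup N).map N.subtype
  obtain ⟨a, ha⟩ := exists_card_eq_pow hp hP.pgrp
  have hQo : Odd 𝐨(Q) := ha ▸ hp2.pow
  have hQ : 𝐨(Q) ∣ m := (ha ▸ Nat.Coprime.pow_left a hcop).dvd_of_dvd_mul_left
    (hm ▸ FT.card_dvd_of_le hP.le)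
  have hP1 : (P : Subgroup N) ≠ ⊥ := P.ne_bot_of_dvd_card (hm ▸ hpm.mul_left _)
  have hQ1 : Q ≠ ⊥ := by rwa [Ne, map_eq_bot_iff_of_injective _ N.subtype_injective]
  obtain ⟨⟨y, hy⟩, y1⟩ := ne_bot_iff_exists_ne_one.1 (center_ne_bot
    (isNilpotent_of_isPGroup hp P.isPGroup') hP1)
  obtain ⟨n, hn⟩ := P.isPGroup' ⟨y, hy.1⟩
  obtain ⟨w, hw⟩ := psl_real (by rwa [Nat.card_eq_fintype_card]) (y := e y) (n := p ^ n)
    (cast_ne_zero (Nat.Coprime.pow_left n hcop.coprime_mul_right_right))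
    (by rw [← map_pow, show y ^ p ^ n = 1 from congrArg Subtype.val hn, map_one])
  have hw' : (e.symm w)⁻¹⁻¹ * y * (e.symm w)⁻¹ = y⁻¹ := e.injective (by simpa using hw)
  obtain ⟨c, hc1, hc2⟩ := P.conj_eq_normalizer_conj_of_mem_centralizer y (e.symm w)⁻¹ hy.2
    (by rw [hw']; exact inv_mem hy.2)
  have hcQ : (c : G) ∈ 𝐍(Q) := (map_le_norm_iff N.subtype_injective).2 (zpowers_le_of_mem hc1)
    ⟨c, mem_zpowers c, rfl⟩
  obtain ⟨v, hv, v1, vv⟩ := exists_invol_of_even (H := zpowers (c : G)) (by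
    by_contra h0
    rw [← odd_iff_not_dvd, Nat.card_zpowers, orderOf_coe] at h0
    have h4 : c * y⁻¹ * c⁻¹ = y := by rw [← hw', hc2]; group
    have h5 : c ^ 2 ∈ 𝐂[y] := mem_cent1_iff_conj.2 (by
      calc c ^ 2 * y * (c ^ 2)⁻¹ = c * (c * y⁻¹ * c⁻¹)⁻¹ * c⁻¹ := by simp [sq, mul_assoc]
        _ = y := by rw [h4, h4])
    have h6 := mem_cent1_iff_conj.1 (inv_mem (zpowers_le_of_mem h5
      (mem_zpowers_pow_iff.2 (Nat.coprime_two_left.2 h0))))
    rw [inv_inv, ← hc2, hw', inv_eq_iff_mul_eq_one] at h6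
    exact y1 (Subtype.ext (Subtype.ext (eq_one_of_sq_of_odd hQo ⟨y, hy.1, rfl⟩
      (congrArg Subtype.val h6)))))
  obtain ⟨R, hR, hvR, hRn, r, hr, hrN⟩ := exists_outer hN hp hP (isPGroup_zpowers_of_sq vv)
    (zpowers_le_of_mem (zpowers_le_of_mem hcQ hv))
  have hreg := (h.semiReg hR hQo).symm
  refine ⟨r, hrN, fun rr => hrN ?_, hR.to_le (zpowers_le_of_mem hr), ?_⟩
  · rw [invol_eq_of_semiReg hQ1 hRn hreg hr (fun e => hrN (e ▸ one_mem N)) rr
      (hvR (mem_zpowers v)) v1 vv]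
    exact zpowers_le_of_mem c.2 hv
  · have h4 := (one_lt_card_iff_ne_bot Q).2 hQ1
    have h5 := Nat.le_of_dvd (by omega) ((orderOf_dvd_card_of_mem hr).trans (hreg.card_dvd hRn))
    have h6 := Nat.le_of_dvd (Nat.pos_of_ne_zero (by
      rintro rfl; exact FT.card_ne_zero N (by simpa using hm))) hQ
    omega

theorem CIT.dih (h : CIT G) (hns : ¬ Group.IsSolvable G) {S : Subgroup G} {x z s : G}
    (hm : Max2 S x z s) (hd : s * x * s = x⁻¹) : ∀ u : G, u ≠ 1 → u * u = 1 → IsConj z u := by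
  refine induction_on_card (P := fun G _ _ => CIT G → ¬ Group.IsSolvable G →
    ∀ {S : Subgroup G} {x z s : G}, Max2 S x z s → s * x * s = x⁻¹ →
      ∀ u : G, u ≠ 1 → u * u = 1 → IsConj z u) G ?_ h hns hm hd
  clear * -
  intro G _ _ ih h hns S x z s hm hd u u1 uu
  refine (hm.isConj_or u1 uu).resolve_right fun ⟨N, hN, hu⟩ => ?_
  have hn := normal_of_index_eq_two hN
  have hnsN : ¬ Group.IsSolvable N := fun e => hns (solvable_of_index_two hN e)
  have hcyc : ∀ y, S ⊓ N ≤ zpowers y → False := fun y hy => hnsN (solvable_of_cyclic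
    (S := (S ⊓ N).subgroupOf N) (by
      rw [← isSyl_map_iff N.subtype_injective, subgroupOf_map_subtype, ← MonoidHom.range_eq_map,
        range_subtype, inf_assoc, inf_idem]
      exact hm.syl.inf_normal Nat.prime_two ⟨le_top, normal_iff_top_le.1 hn⟩) (by
      rw [← isCyclic_map_iff N.subtype_injective, subgroupOf_map_subtype]
      exact isCyclic_of_le (inf_le_left.trans hy) inferInstance))
  have hx : x ∉ N := fun hx => hcyc x fun g hg => by
    obtain ⟨c, -, hc⟩ := hm.syl.exists_conj_le Nat.prime_two (isPGroup_zpowers_of_sq uu) le_top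
    have h1 := hc (conj_mem_conj (mem_zpowers u) c)
    have h2 : c * u * c⁻¹ ∉ N := fun e => hu (by simpa [mul_assoc] using hn.conj_mem' _ e c)
    by_contra h0
    exact h2 ((N.mul_mem_cancel_left hg.2).1 (zpowers_le_of_mem hx ((hm.mul_mem_iff hg.1 h1).2
      (iff_of_false h0 fun e => h2 (zpowers_le_of_mem hx e)))))
  wlog hs : s ∈ N generalizing s
  · exact this (hm.swap hd).1 (hm.swap hd).2 ((mul_mem_iff_of_index_two hN).2 (iff_of_false hs hx))
  have h1 : x * x ≠ 1 := fun e => hcyc s fun g hg => by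
    have key : ∀ g ∈ N, g ∈ zpowers x → g = 1 := fun g hg hg' =>
      (H2.ZC.eq_or_eq_of_mem_zpowers (by rwa [sq]) hg').resolve_right fun e => hx (e ▸ hg)
    rcases hm.cover g hg.1 with e | e
    · exact key g hg.2 e ▸ one_mem _
    · exact eq_inv_of_mul_eq_one_right (key _ (mul_mem hs hg.2) e) ▸ inv_mem (mem_zpowers s)
  obtain ⟨hx2, hz, hm'⟩ := hm.sub hN hx hs h1
  have hd' : (⟨s, hs⟩ : N) * ⟨x * x, hx2⟩ * ⟨s, hs⟩ = (⟨x * x, hx2⟩ : N)⁻¹ :=
    Subtype.ext (hm.inv_of hd _ (mul_mem (mem_zpowers x) (mem_zpowers x)))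
  obtain ⟨F, _, _, hF, ⟨e⟩⟩ := (hm'.bsw ((h.subgroup N).cent_eq hm'.syl hm'.z1 hm'.zz hm'.le_cent).le
    hd' (ih N (card_lt_of_ne_top (by rintro rfl; simp at hN)) (h.subgroup N) hnsN hm' hd')).exists_psl2
  obtain ⟨r, hr, rr, hr2, hk⟩ := h.exists_outer_elt hN hnsN e (by
    rw [← orderOf_two hm'.z1 hm'.zz]; exact orderOf_dvd_card_of_mem hm'.zx) hF
  obtain ⟨c, -, hc⟩ := hm.syl.exists_conj_le Nat.prime_two hr2 le_top
  have h2 := hc (conj_mem_conj (mem_zpowers r) c)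
  have h3 : c * r * c⁻¹ ∉ N := fun e => hr (by simpa [mul_assoc] using hn.conj_mem' _ e c)
  have h4 : c * r * c⁻¹ ∈ zpowers x := (hm.cover _ h2).resolve_right fun e => rr (by
    have h5 := hm.inv_of hd _ e
    rw [← mul_assoc s s, hm.ss, one_mul, mul_inv_rev, hm.s_inv, mul_left_inj,
      eq_inv_iff_mul_eq_one, conj_mul] at h5
    simpa using h5)
  obtain ⟨j, hj⟩ := h4
  have h5 : Odd j := Int.not_even_iff_odd.1 fun ⟨i, hi⟩ => h3 (by
    rw [← hj, hi, ← two_mul]; simp only; rw [zpow_mul, zpow_two]; exact zpow_mem hx2 i)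
  obtain ⟨n, hn⟩ := exists_card_eq_pow Nat.prime_two (hm.syl.pgrp.to_le hm.X_le)
  rw [Nat.card_zpowers] at hn hk
  have h6 : x ∈ zpowers (x ^ j) := mem_zpowers_zpow_iff.2 (by
    rw [hn, ← Int.isCoprime_iff_gcd_eq_one]; push_cast
    exact (Int.isCoprime_two_right.2 h5).pow_right)
  have h7 := Nat.le_of_dvd (orderOf_pos _) (orderOf_dvd_of_mem_zpowers h6)
  simp only at hj
  rw [hj, show orderOf (c * r * c⁻¹) = orderOf r from (MulAut.conj c).orderOf_eq r] at h7
  have h8 := L.card_lt_of_lt (lt_of_le_of_ne (zpowers_le_of_mem (mul_mem (mem_zpowers x)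
    (mem_zpowers x))) fun e : zpowers (x * x) = zpowers x => hm.x_notMem (e ▸ mem_zpowers x))
  rw [Nat.card_zpowers, Nat.card_zpowers] at h8
  rw [orderOf_mk] at hk
  omega

theorem CIT.max2_cases (h : CIT G) (hns : ¬ Group.IsSolvable G) {S : Subgroup G} {x z s : G}
    (hm : Max2 S x z s) :
    (∃ (F : Type) (_ : Field F) (_ : Fintype F) (k : ℕ),
      (Fintype.card F = 2 ^ k + 1 ∨ Fintype.card F + 1 = 2 ^ k) ∧ Odd (Fintype.card F) ∧
        4 ≤ Fintype.card F ∧ Nonempty (G ≃* PSL F)) ∨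
    ∃ N : Subgroup G, N.index = 2 ∧ ∃ (F : Type) (_ : Field F) (_ : Fintype F),
      Fintype.card F = 9 ∧ Nonempty (N ≃* PSL F) := by
  have key : ∀ (G : Type u) [Group G] [Finite G], CIT G → ¬ Group.IsSolvable G →
      ∀ {S : Subgroup G} {x z s : G}, Max2 S x z s → s * x * s = x⁻¹ →
      ∃ (F : Type) (_ : Field F) (_ : Fintype F) (k : ℕ),
      (Fintype.card F = 2 ^ k + 1 ∨ Fintype.card F + 1 = 2 ^ k) ∧ Odd (Fintype.card F) ∧
        4 ≤ Fintype.card F ∧ Nonempty (G ≃* PSL F) := by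
    intro G _ _ h hns S x z s hm hd
    obtain ⟨F, _, _, hF, ⟨e⟩⟩ := (hm.bsw (h.cent_eq hm.syl hm.z1 hm.zz hm.le_cent).le hd
      (h.dih hns hm hd)).exists_psl2
    obtain ⟨n, hn⟩ := exists_card_eq_pow Nat.prime_two (hm.syl.pgrp.to_le hm.X_le)
    have ho : Odd (Fintype.card F) := by rw [Nat.odd_iff]; omega
    refine ⟨F, inferInstance, inferInstance, n + 1, by rwa [pow_succ', ← hn], ho, ?_, ⟨e⟩⟩
    have h1 := two_mul_card_of_equiv e ho
    have h2 := Fintype.one_lt_card (α := F)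
    have h3 := card_ne_twelve hns
    by_contra h0
    have h4 := Nat.odd_iff.1 ho
    rw [show Fintype.card F = 3 by omega] at h1
    omega
  by_cases hd : s * x * s = x⁻¹
  · exact Or.inl (key G h hns hm hd)
  obtain ⟨h1, h2, N, hN, hx, hi⟩ := hm.sd (h.cent_eq hm.syl hm.z1 hm.zz hm.le_cent).le hd
  have hn := normal_of_index_eq_two hN
  have hnsN : ¬ Group.IsSolvable N := fun e => hns (solvable_of_index_two hN e)
  obtain ⟨hx2, hz, hm'⟩ := hm.sub hN hx (hi s hm.sS hm.ss) h1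
  obtain ⟨F, _, _, k, hF, ho, h4, ⟨e⟩⟩ := key N (h.subgroup N) hnsN hm' (Subtype.ext h2)
  refine Or.inr ⟨N, hN, F, inferInstance, inferInstance, ?_, ⟨e⟩⟩
  have hc := two_mul_card_of_equiv e ho
  have := Fact.mk Nat.prime_three
  obtain ⟨P⟩ : Nonempty (Sylow 3 N) := inferInstance
  have hP := isSyl_map_subtype Nat.prime_three P
  set Q := (P : Subgroup N).map N.subtype
  have h3 : 3 ∣ 𝐨(N) := by
    refine (by norm_num : Nat.Coprime 3 2).dvd_of_dvd_mul_left (hc ▸ ?_)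
    obtain ⟨m, hm⟩ : ∃ m, Fintype.card F = m + 1 := ⟨Fintype.card F - 1, by omega⟩
    rw [hm, Nat.add_sub_cancel, Nat.dvd_iff_mod_eq_zero, Nat.mul_mod, Nat.mul_mod (m + 1),
      Nat.add_mod (m + 1), Nat.add_mod m]
    have := Nat.mod_lt m (by norm_num : 0 < 3)
    generalize m % 3 = c at *
    interval_cases c <;> rfl
  have hP1 : (P : Subgroup N) ≠ ⊥ := P.ne_bot_of_dvd_card h3
  have hQ1 : Q ≠ ⊥ := by rwa [Ne, map_eq_bot_iff_of_injective _ N.subtype_injective]
  obtain ⟨R, hR, -, hRn, r, hr, hrN⟩ := exists_outer hN Nat.prime_three hP IsPGroup.of_bot bot_le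
  have hcyc : ¬ IsCyclic Q := fun hcyc => by
    have h5 := card_omegaOne_of_isCyclic Nat.prime_three hcyc
      (prime_dvd_card_of_isPGroup Nat.prime_three hP.pgrp hQ1)
    have h6 := (h.semiReg hR (by rw [h5]; decide)).symm.card_dvd
      (hRn.trans (norm_le_norm_omegaOne Q 3))
    have h7 := orderOf_dvd_iff_pow_eq_one.1 ((orderOf_dvd_card_of_mem hr).trans (h5 ▸ h6))
    have h8 : r * r = 1 := by simpa [sq] using h7
    obtain ⟨c, -, hc⟩ := hm.syl.exists_conj_le Nat.prime_two (isPGroup_zpowers_of_sq h8) le_top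
    exact hrN (by simpa [mul_assoc] using hn.conj_mem' _ (hi _ (hc (conj_mem_conj (mem_zpowers r) c))
      (conj_sq h8 c)) c)
  obtain ⟨⟨y, hy⟩, y1⟩ := ne_bot_iff_exists_ne_one.1 (center_ne_bot
    (isNilpotent_of_isPGroup Nat.prime_three P.isPGroup') hP1)
  have y1' : y ≠ 1 := fun e => y1 (Subtype.ext e)
  obtain ⟨a, ha⟩ := exists_card_eq_pow Nat.prime_three P.isPGroup'
  have hle : (P : Subgroup N).map e.toMonoidHom ≤ 𝐂[e y] := by
    rintro _ ⟨a, ha, rfl⟩
    exact mem_cent1.2 (by simpa using congrArg e (mem_cent.1 hy.2 a ha).symm)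
  rcases psl_cent (c := e y) (by simpa using y1') (Or.inl fun e' => y1' (eq_one_of_sq_of_odd
    (ha ▸ Odd.pow (by decide)) hy.1 (by simpa [← map_mul] using e'))) with ⟨h5, -⟩ | h5
  · exact (hcyc ((isCyclic_map_iff N.subtype_injective).2
      ((isCyclic_map_iff e.injective).1 (isCyclic_of_le hle h5)))).elim
  have h6 := FT.card_dvd_of_le hle
  rw [card_map_inj e.injective, h5, Nat.card_eq_fintype_card (α := F)] at h6
  have h7 := (prime_dvd_card_of_isPGroup Nat.prime_three P.isPGroup' hP1).trans h6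
  obtain ⟨p, _, f, hp, hf⟩ := FiniteField.card' F
  rw [hf] at hF h7 h4 ⊢
  refine (prime_or_nine hp f.pos hF).resolve_left fun e => ?_
  rw [e, pow_one] at h7 h4
  have := (Nat.prime_dvd_prime_iff_eq Nat.prime_three hp).1 h7
  omega

end Cfsg.Agent.P4
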