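/-
P4: fixed-point-free elements, in particular of order three.
-/
import Cfsg.Agent.P4.Basic
import Cfsg.Agent.FT.BG03a

set_option autoImplicit false
set_option linter.unusedSectionVars false

namespace Cfsg.Agent.P4

open Subgroup Cfsg Cfsg.Agent Cfsg.Agent.FT Cfsg.Agent.L
open scoped commutatorElement

universe u

variable {G : Type u} [Group G] [Finite G]

omit [Finite G] in
theorem conj_mem {W : Subgroup G} {g w : G} (hg : g ∈ 𝐍(W)) (hw : w ∈ W) : g * w * g⁻¹ ∈ W :=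
  (mem_normalizer_iff.1 hg w).1 hw

omit [Finite G] in
theorem conj_mem' {W : Subgroup G} {g w : G} (hg : g ∈ 𝐍(W)) (hw : w ∈ W) : g⁻¹ * w * g ∈ W := by
  simpa using conj_mem (inv_mem hg) hw

theorem surj_of_inj {W : Subgroup G} (f : G → G) (hf : ∀ w ∈ W, f w ∈ W)
    (hi : ∀ a ∈ W, ∀ b ∈ W, f a = f b → a = b) {w : G} (hw : w ∈ W) : ∃ u ∈ W, f u = w :=
  ((Set.toFinite (W : Set G)).injOn_iff_bijOn_of_mapsTo hf).1
    (fun a ha b hb => hi a ha b hb) |>.surjOn hw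

theorem free_act {W : Subgroup G} (hW : ∀ w ∈ W, w * w = 1) {τ y : G} (hτ : τ ∈ 𝐍(W))
    (hy : y ∈ 𝐍(W)) (hc : y * τ * y * τ⁻¹ ∈ 𝐂(W)) (hf : ∀ w ∈ W, Commute y w → w = 1) {w : G}
    (hw : w ∈ W) (h : Commute τ w) : ∃ u ∈ W, w = u * (τ * u * τ⁻¹) := by
  have hm : ∀ a ∈ W, ∀ b ∈ W, a * b = b * a := fun a ha b hb => commute_of_sq_eq_one hW ha hb
  have hi : ∀ a ∈ W, ∀ b ∈ W, a * (y * a * y⁻¹) = b * (y * b * y⁻¹) → a = b := by
    intro a ha b hb e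
    have h1 : y * (b * a⁻¹) * y⁻¹ = b * a⁻¹ := by
      calc y * (b * a⁻¹) * y⁻¹ = b⁻¹ * (b * (y * b * y⁻¹)) * (y * a * y⁻¹)⁻¹ := by group
        _ = b⁻¹ * a := by rw [← e]; group
        _ = _ := by rw [inv_eq_self_of_mul_self (hW a ha), inv_eq_self_of_mul_self (hW b hb)]
    exact (mul_inv_eq_one.1 (hf _ (mul_mem hb (inv_mem ha)) (mul_inv_eq_iff_eq_mul.1 h1))).symm
  obtain ⟨u, hu, e⟩ := surj_of_inj (fun a => a * (y * a * y⁻¹))
    (fun a ha => mul_mem ha (conj_mem hy ha)) hi hw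
  refine ⟨u, hu, ?_⟩
  have h1 := conj_mem hτ hu
  have h2 := mem_cent.1 hc _ (conj_mem' hy h1)
  have h3 : τ * (y * u * y⁻¹) * τ⁻¹ = y⁻¹ * (τ * u * τ⁻¹) * y := by
    have := mem_cent.1 hc _ h1
    calc τ * (y * u * y⁻¹) * τ⁻¹
        = y⁻¹ * (y * τ * y * τ⁻¹ * (τ * u * τ⁻¹) * (y * τ * y * τ⁻¹)⁻¹) * y := by group
      _ = _ := by rw [← this]; group
  have h4 := hi _ (conj_mem' hy h1) u hu (by
    rw [e, ← h3, hm _ (conj_mem hτ (conj_mem hy hu)) _ (conj_mem hy (h3 ▸ conj_mem' hy h1)), h3]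
    calc y * (y⁻¹ * (τ * u * τ⁻¹) * y) * y⁻¹ * (y⁻¹ * (τ * u * τ⁻¹) * y)
        = τ * (u * (y * u * y⁻¹)) * τ⁻¹ := by rw [← h3]; nth_rewrite 1 [h3]; group
      _ = w := by rw [e, h.eq, mul_inv_cancel_right])
  rw [← e]; nth_rewrite 2 [← h4]; group

theorem card_eq_sq {W : Subgroup G} (hW : ∀ w ∈ W, w * w = 1) {τ : G} (hτ : τ ∈ 𝐍(W))
    (h2 : τ * τ ∈ 𝐂(W)) (hf : ∀ w ∈ W, Commute τ w → ∃ u ∈ W, w = u * (τ * u * τ⁻¹)) :
    𝐨(W) = 𝐨((W ⊓ 𝐂[τ] : Subgroup G)) ^ 2 := by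
  have hm : ∀ a ∈ W, ∀ b ∈ W, a * b = b * a := fun a ha b hb => commute_of_sq_eq_one hW ha hb
  let f : W →* G := MonoidHom.mk' (fun u => u * (τ * u * τ⁻¹)) fun a b => by
    have := hm _ b.2 _ (conj_mem hτ a.2)
    calc (a : G) * b * (τ * (a * b) * τ⁻¹) = a * (b * (τ * a * τ⁻¹)) * (τ * b * τ⁻¹) := by group
      _ = _ := by rw [this]; group
  have h1 : f.range = W ⊓ 𝐂[τ] := by
    refine le_antisymm ?_ fun w hw => ?_
    · rintro _ ⟨u, rfl⟩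
      refine ⟨mul_mem u.2 (conj_mem hτ u.2), mem_cent1_iff_conj.2 ?_ |> mem_cent1_comm.1⟩
      change τ * (u * (τ * u * τ⁻¹)) * τ⁻¹ = u * (τ * u * τ⁻¹)
      nth_rewrite 2 [hm _ u.2 _ (conj_mem hτ u.2)]
      calc τ * (u * (τ * u * τ⁻¹)) * τ⁻¹ = τ * u * τ⁻¹ * (τ * τ * u) * (τ * τ)⁻¹ := by group
        _ = _ := by rw [← mem_cent.1 h2 u u.2]; group
    · obtain ⟨u, hu, e⟩ := hf w hw.1 (mem_cent1.1 hw.2)
      exact ⟨⟨u, hu⟩, e.symm⟩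
  have h3 : f.ker = (W ⊓ 𝐂[τ]).subgroupOf W := by
    ext u
    change (u : G) * (τ * u * τ⁻¹) = 1 ↔ (u : G) ∈ W ∧ (u : G) ∈ 𝐂[τ]
    rw [mem_cent1_comm, mem_cent1_iff_conj, mul_eq_one_iff_inv_eq,
      inv_eq_self_of_mul_self (hW u u.2), and_iff_right u.2, eq_comm]
  have h4 := f.ker.card_mul_index
  rw [index_ker, h1, h3, Nat.card_congr (subgroupOfEquivOfLe inf_le_left).toEquiv] at h4
  rw [← h4, sq]

theorem exists_inverted {M : Subgroup G} {a : G} (ha : a ∈ M) (aa : a * a = 1)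
    (h : a ∉ pCoreOf 2 M) : ∃ y ∈ M, (orderOf y).Prime ∧ Odd (orderOf y) ∧ a * y * a⁻¹ = y⁻¹ := by
  obtain ⟨y, h1, h2, h3, -⟩ := exists_inverted_of_not_mem_pCore (t := (⟨a, ha⟩ : M))
    (Subtype.ext aa) fun e => h ⟨_, e, rfl⟩
  exact ⟨y, y.2, by rwa [orderOf_coe], by rw [orderOf_coe]; exact h1.odd_of_ne_two h2,
    congrArg Subtype.val h3⟩

theorem CIT.free (h : CIT G) {W M : Subgroup G} (hW : ∀ w ∈ W, w * w = 1) (hM : M ≤ 𝐍(W)) {a : G}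
    (ha : a ∈ M) (aa : a * a = 1) (h0 : a ∉ pCoreOf 2 M) :
    ∀ w ∈ W, Commute a w → ∃ u ∈ W, w = u * (a * u * a⁻¹) := by
  obtain ⟨y, hy, h1, h2, h3⟩ := exists_inverted ha aa h0
  exact fun w hw hc => free_act hW (hM ha) (hM hy) (by
    rw [mul_assoc y, mul_assoc y, h3, mul_inv_cancel]; exact one_mem _)
    (fun w hw hc => (h w y (hW w hw) h2 hc.symm).resolve_right
      fun e => h1.ne_one (by rw [e, orderOf_one])) hw hc

theorem CIT.card_sq (h : CIT G) {W M : Subgroup G} (hW : ∀ w ∈ W, w * w = 1) (hM : M ≤ 𝐍(W))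
    {a : G} (ha : a ∈ M) (aa : a * a = 1) (h0 : a ∉ pCoreOf 2 M) :
    𝐨(W) = 𝐨((W ⊓ 𝐂[a] : Subgroup G)) ^ 2 :=
  card_eq_sq hW (hM ha) (aa ▸ one_mem _) (h.free hW hM ha aa h0)

theorem fpf_surj {D : Subgroup G} {x : G} (hn : x ∈ 𝐍(D)) (hf : ∀ d ∈ D, Commute x d → d = 1)
    {u : G} (hu : u ∈ D) : ∃ d ∈ D, d⁻¹ * (x * d * x⁻¹) = u :=
  surj_of_inj (fun d => d⁻¹ * (x * d * x⁻¹)) (fun d hd => mul_mem (inv_mem hd) (conj_mem hn hd))
    (fun a ha b hb e => mul_inv_eq_one.1 (hf _ (mul_mem ha (inv_mem hb)) (by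
      change x * (a * b⁻¹) = a * b⁻¹ * x
      calc x * (a * b⁻¹) = a * (a⁻¹ * (x * a * x⁻¹)) * x * b⁻¹ := by group
        _ = _ := by rw [e]; group))) hu

/-- `x` has order three and acts fixed-point-freely on `D`. -/
structure F3 (D : Subgroup G) (x : G) : Prop where
  norm : x ∈ 𝐍(D)
  cube : x * x * x = 1
  fpf : ∀ d ∈ D, Commute x d → d = 1

namespace F3

variable {D : Subgroup G} {x : G}

theorem inv_eq (h : F3 D x) : x⁻¹ = x * x := inv_eq_of_mul_eq_one_left h.cube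

theorem inv (h : F3 D x) : F3 D x⁻¹ :=
  ⟨inv_mem h.norm, by rw [← mul_inv_rev, ← mul_inv_rev, ← mul_assoc, h.cube, inv_one],
    fun d hd hc => h.fpf d hd (by simpa using hc.inv_left)⟩

theorem mul (h : F3 D x) {d : G} (hd : d ∈ D) : F3 D (d * x) := by
  obtain ⟨e, he, rfl⟩ := fpf_surj h.norm h.fpf hd
  refine ⟨mul_mem (le_normalizer hd) h.norm, ?_, fun a ha hc => ?_⟩
  · calc _ = e⁻¹ * (x * x * x) * e := by group
      _ = 1 := by rw [h.cube]; group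
  · have := h.fpf _ (mul_mem (mul_mem he ha) (inv_mem he)) (by
      change x * (e * a * e⁻¹) = e * a * e⁻¹ * x
      calc _ = e * (e⁻¹ * (x * e * x⁻¹) * x * a) * e⁻¹ := by group
        _ = _ := by rw [hc.eq]; group)
    simpa using this

theorem norm3 (h : F3 D x) {u : G} (hu : u ∈ D) : u * (x * u * x⁻¹) * (x⁻¹ * u * x) = 1 := by
  have := (h.mul hu).cube
  calc _ = u * x * (u * (x⁻¹ * x⁻¹)) * (u * x) := by group
    _ = 1 := by rw [← h.inv.inv_eq, inv_inv, this]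

theorem comm1 (h : F3 D x) {u : G} (hu : u ∈ D) : Commute u (x * u * x⁻¹) := by
  have h1 := h.norm3 hu
  change u * (x * u * x⁻¹) = x * u * x⁻¹ * u
  rw [eq_inv_of_mul_eq_one_left h1]
  calc _ = x * u * x⁻¹ * u * (u⁻¹ * (x * u⁻¹ * x⁻¹) * (x⁻¹ * u⁻¹ * x)) := by group
    _ = x * u * x⁻¹ * u := by
      rw [mul_eq_left]
      have h3 := h.norm3 (inv_mem hu)
      exact h3

theorem comm2 (h : F3 D x) {u d : G} (hu : u ∈ D) (hd : d ∈ D) :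
    Commute u (d * (x * u * x⁻¹) * d⁻¹) := by
  simpa [mul_assoc] using (h.mul hd).comm1 hu

theorem engel (h : F3 D x) {u d : G} (hu : u ∈ D) (hd : d ∈ D) : Commute u (d * u * d⁻¹) := by
  have h1 := h.inv.comm2 (conj_mem h.norm hu) hd
  have h2 := h.comm2 (conj_mem' h.norm hu) hd
  have h3 := h.norm3 hu
  rw [mul_assoc u] at h3
  simp only [inv_inv, mul_assoc, inv_mul_cancel_left, mul_inv_cancel_left, inv_mul_cancel,
    mul_inv_cancel, mul_one] at h1 h2 h3 ⊢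
  nth_rewrite 1 [eq_inv_of_mul_eq_one_left h3]
  simpa [mul_assoc] using (h1.mul_left h2).inv_left

theorem swap (h : F3 D x) {u v : G} (hu : u ∈ D) (hv : v ∈ D) :
    ⁅v, x * u * x⁻¹⁆ = ⁅x * v * x⁻¹, u⁆ := by
  have h1 := (h.comm1 (mul_mem hu hv)).eq
  have h2 := (h.comm2 hu hv).eq
  have h3 := (h.comm1 hv).eq
  have h4 := (h.engel (conj_mem h.norm hu) hv).inv_left.eq
  rw [← conj_mul] at h1
  generalize x * u * x⁻¹ = u' at *
  generalize x * v * x⁻¹ = v' at *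
  simp only [commutatorElement_def]
  calc _ = u'⁻¹ * (v * u' * v⁻¹ * u) * u⁻¹ := by rw [← h4]; group
    _ = u'⁻¹ * (u * (v * u') * (v' * v'⁻¹) * v⁻¹) * u⁻¹ := by rw [← h2]; group
    _ = u'⁻¹ * (u * v * (u' * v')) * (v * v')⁻¹ * u⁻¹ := by group
    _ = _ := by rw [h1, h3]; group

theorem key (h : F3 D x) {u v : G} (hu : u ∈ D) (hv : v ∈ D) :
    x⁻¹ * ⁅v, u⁆ * x = ⁅x * v * x⁻¹, u⁆ := by
  rw [← h.swap hu hv]
  have := h.swap (conj_mem h.norm hu) (conj_mem' h.norm hv)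
  rw [show x * (x⁻¹ * v * x) * x⁻¹ = v by group,
    show x * (x * u * x⁻¹) * x⁻¹ = x * x * u * (x * x)⁻¹ by group, ← h.inv_eq, inv_inv] at this
  rw [← this]
  simp only [commutatorElement_def]; group

theorem commute (h : F3 D x) {u v : G} (hu : u ∈ D) (hv : v ∈ D) (hc : Commute v u) :
    Commute (x * v * x⁻¹) u := by
  rw [← commutatorElement_eq_one_iff_commute, ← h.key hu hv,
    commutatorElement_eq_one_iff_commute.2 hc, mul_one, inv_mul_cancel]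

theorem class2 (h : F3 D x) {a b c : G} (ha : a ∈ D) (hb : b ∈ D) (hc : c ∈ D) :
    Commute a ⁅c, b⁆ := by
  obtain ⟨e, he, rfl⟩ := fpf_surj h.inv.norm h.inv.fpf ha
  have h1 := h.key hb (mul_mem (conj_mem h.norm he) (conj_mem' h.norm hc))
  have h2 := h.key hb (conj_mem h.norm he)
  have h3 := h.key hb (conj_mem' h.norm hc)
  have e1 : ∀ a c b : G, ⁅a * c, b⁆ = a * ⁅c, b⁆ * a⁻¹ * ⁅a, b⁆ := fun a c b => by
    simp only [commutatorElement_def]; group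
  rw [show x * (x⁻¹ * c * x) * x⁻¹ = c by group] at h3
  rw [← conj_mul, show x * (x⁻¹ * c * x) * x⁻¹ = c by group, e1, e1 _ c, ← h2, ← h3,
    show x * (x * e * x⁻¹) * x⁻¹ = x * x * e * (x * x)⁻¹ by group, ← h.inv_eq] at h1
  rw [← h3]
  generalize ⁅x⁻¹ * c * x, b⁆ = w at *
  generalize ⁅x * e * x⁻¹, b⁆ = w' at *
  change e⁻¹ * (x⁻¹ * e * x⁻¹⁻¹) * (x⁻¹ * w * x) = x⁻¹ * w * x * (e⁻¹ * (x⁻¹ * e * x⁻¹⁻¹))
  calc _ = e⁻¹ * (x⁻¹ * e * x⁻¹⁻¹ * (x⁻¹ * w * x) * (x⁻¹ * e * x⁻¹⁻¹)⁻¹ * (x⁻¹ * w' * x)) *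
        (x⁻¹ * w' * x)⁻¹ * (x⁻¹ * e * x⁻¹⁻¹) := by group
    _ = _ := by rw [← h1]; group

end F3

theorem CIT.f3 (h : CIT G) {D : Subgroup G} (hD : IsPGroup 2 D) {x : G} (hx : orderOf x = 3)
    (hn : x ∈ 𝐍(D)) : F3 D x :=
  ⟨hn, by rw [← pow_three', ← hx, pow_orderOf_eq_one], fun _ hd hc =>
    h.fpf hD (by rw [hx]; decide) (by rintro rfl; simp at hx) hd hc⟩

end Cfsg.Agent.P4
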