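/-
P4: G. Higman's theorem on elements of order three acting fixed-point-freely.
-/
import Cfsg.Agent.P4.Fpf

set_option autoImplicit false
set_option linter.unusedSectionVars false

namespace Cfsg.Agent.P4

open Subgroup Cfsg Cfsg.Agent Cfsg.Agent.FT Cfsg.Agent.L
open scoped commutatorElement

universe u

variable {G : Type u} [Group G]

theorem trace_central {R : Type*} [Ring R] (ρ : G →* R) {x y : G} (hx : x * x * x = 1)
    (hy : y * y * y = 1) (hx' : ρ x⁻¹ = -1 - ρ x) (hy' : ρ y⁻¹ = -1 - ρ y) {g : G}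
    (hg : g ∈ closure ({x, y} : Set G)) : Commute (ρ g + ρ g⁻¹) (ρ x) := by
  have hA : ρ x * ρ x = -1 - ρ x := by rw [← map_mul, ← inv_eq_of_mul_eq_one_left hx, hx']
  have hB : ρ y * ρ y = -1 - ρ y := by rw [← map_mul, ← inv_eq_of_mul_eq_one_left hy, hy']
  obtain ⟨c, hc⟩ : ∃ c, c = ρ x * ρ y + ρ y * ρ x + ρ x + ρ y + 1 := ⟨_, rfl⟩
  let C := Subring.centralizer ({ρ x, ρ y} : Set R)
  have hcA : ρ x * c = c * ρ x := by
    rw [hc]; linear_combination (norm := noncomm_ring) hA * ρ y - ρ y * hA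
  have hcB : ρ y * c = c * ρ y := by
    rw [hc]; linear_combination (norm := noncomm_ring) hB * ρ x - ρ x * hB
  have hC : c ∈ C := by
    rintro _ (rfl | rfl)
    exacts [hcA, hcB]
  let T : G → R := fun g => ρ g + ρ g⁻¹
  let P : G → Prop := fun g => ρ g⁻¹ * c = c * ρ g⁻¹ ∧ T g ∈ C ∧ T (x * g) ∈ C ∧ T (y * g) ∈ C ∧
    T (x * (y * g)) ∈ C
  have px : ∀ g, P g → P (x * g) := by
    rintro g ⟨h0, h1, h2, h3, h4⟩
    refine ⟨?_, h2, ?_, ?_, ?_⟩
    · rw [mul_inv_rev, map_mul, hx']
      linear_combination (norm := noncomm_ring) h0 * (-1 - ρ x) - ρ g⁻¹ * hcA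
    · convert C.sub_mem (C.neg_mem h1) h2 using 1
      simp only [T, mul_inv_rev, map_mul, hx']
      linear_combination (norm := noncomm_ring) hA * ρ g + ρ g⁻¹ * hA
    · convert C.sub_mem (C.sub_mem (C.sub_mem (C.sub_mem (C.mul_mem hC h1) h1) h2) h3) h4 using 1
      simp only [T, mul_inv_rev, map_mul, hx', hy']
      linear_combination (norm := noncomm_ring) h0 - hc * ρ g - ρ g⁻¹ * hc
    · convert C.add_mem (C.add_mem (C.mul_mem hC h2) h1) h3 using 1
      simp only [T, mul_inv_rev, map_mul, hx', hy']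
      linear_combination (norm := noncomm_ring) h0 * (-1 - ρ x) - ρ x * hc * ρ g + hcA * ρ g
        - hA * ρ y * ρ g - hA * ρ g + ρ g⁻¹ * hc * (1 + ρ x) + ρ g⁻¹ * ρ y * hA
  have py : ∀ g, P g → P (y * g) := by
    rintro g ⟨h0, h1, h2, h3, h4⟩
    refine ⟨?_, h3, h4, ?_, ?_⟩
    · rw [mul_inv_rev, map_mul, hy']
      linear_combination (norm := noncomm_ring) h0 * (-1 - ρ y) - ρ g⁻¹ * hcB
    · convert C.sub_mem (C.neg_mem h1) h3 using 1
      simp only [T, mul_inv_rev, map_mul, hy']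
      linear_combination (norm := noncomm_ring) hB * ρ g + ρ g⁻¹ * hB
    · convert C.sub_mem (C.neg_mem h2) h4 using 1
      simp only [T, mul_inv_rev, map_mul, hx', hy']
      linear_combination (norm := noncomm_ring) ρ x * hB * ρ g + ρ g⁻¹ * hB * (-1 - ρ x)
  have key : P g := by
    induction hg using closure_induction_left with
    | one =>
      refine ⟨by simp, ?_, ?_, ?_, ?_⟩
      · simpa [T] using C.add_mem C.one_mem C.one_mem
      · simp [T, hx']
      · simp [T, hy']
      · convert hC using 1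
        simp only [T, mul_inv_rev, map_mul, hx', hy', mul_one, hc]
        noncomm_ring
    | mul_left a ha g _ ih =>
      rcases ha with rfl | rfl
      exacts [px g ih, py g ih]
    | inv_mul_cancel a ha g _ ih =>
      rcases ha with rfl | rfl
      · rw [inv_eq_of_mul_eq_one_left hx, mul_assoc]; exact px _ (px g ih)
      · rw [inv_eq_of_mul_eq_one_left hy, mul_assoc]; exact py _ (py g ih)
  exact (key.2.1 _ (Or.inl rfl)).symm

variable [Finite G]

theorem CIT.cent_le_pCore (h : CIT G) {N : Subgroup G} (hn : N.Normal) (hN : IsPGroup 2 N)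
    (h1 : N ≠ ⊥) : 𝐂(N) ≤ pCore 2 G :=
  le_pCore inferInstance (h.isPGroup_centralizer hN h1)

open scoped IsMulCommutative in
theorem sq_commute_of_comm {D : Subgroup G} [D.Normal] [IsMulCommutative D] {x y : G}
    (hx : F3 D x) (hy : F3 D y) {g : G} (hg : g ∈ closure ({x, y} : Set G)) (h2 : g * g ∈ D)
    {u : G} (hu : u ∈ D) : Commute ⁅g⁻¹, x⁻¹⁆ (u * u) := by
  let ρ : G →* AddMonoid.End (Additive D) :=
    { toFun := fun g => MonoidHom.toAdditive (MulAut.conjNormal (H := D) g).toMonoidHom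
      map_one' := by ext; rw [map_one]; rfl
      map_mul' := fun a b => by ext; rw [map_mul]; rfl }
  have hρ : ∀ g (u : Additive D), ((Additive.toMul (ρ g u) : D) : G) =
      g * (Additive.toMul u : D) * g⁻¹ := fun g u => rfl
  have h3 : ∀ x, F3 D x → ρ x⁻¹ = -1 - ρ x := fun x hx => by
    have : 1 + ρ x + ρ x⁻¹ = 0 := by
      ext u
      have := hx.norm3 (Additive.toMul u).2
      nth_rewrite 4 [← inv_inv x] at this
      exact this
    linear_combination (norm := noncomm_ring) this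
  have h4 := trace_central ρ hx.cube hy.cube (h3 x hx) (h3 y hy) hg
  have h5 : ρ g⁻¹ = ρ g := by
    have : ρ (g * g) = 1 := by
      ext u
      have := setLike_mul_comm h2 (Additive.toMul u).2
      simp only [hρ, AddMonoid.End.coe_one, id, this, mul_inv_cancel_right]
    rw [← mul_one (ρ g⁻¹), ← this, ← map_mul, inv_mul_cancel_left]
  have h6 := congrArg (fun f : AddMonoid.End (Additive D) =>
    ((Additive.toMul (f (Additive.ofMul ⟨u, hu⟩)) : D) : G)) h4.eq
  rw [h5] at h6
  change g * (x * u * x⁻¹) * g⁻¹ * (g * (x * u * x⁻¹) * g⁻¹) =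
    x * (g * u * g⁻¹ * (g * u * g⁻¹)) * x⁻¹ at h6
  simp only [conj_mul] at h6
  change _ * _ = _ * _
  calc _ = g⁻¹ * x⁻¹ * (g * (x * (u * u) * x⁻¹) * g⁻¹) * (g * x) := by
        simp only [commutatorElement_def]; group
    _ = _ := by rw [h6]; simp only [commutatorElement_def]; group

theorem CIT.higman (h : CIT G) (hD : ∃ u ∈ pCore 2 G, u * u ≠ 1) {x y : G} (hx : orderOf x = 3)
    (hy : orderOf y = 3) : ⁅x, y⁆ ∈ pCore 2 G := by
  set D := pCore 2 G
  have hD2 : IsPGroup 2 D := isPGroup_pCore 2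
  have hn : ∀ g : G, g ∈ 𝐍(D) := fun g => normal_iff_top_le.1 inferInstance (mem_top g)
  have fx := h.f3 hD2 hx (hn x)
  have fy := h.f3 hD2 hy (hn y)
  by_cases hc : IsMulCommutative D
  swap
  · refine h.cent_le_pCore (N := ⁅D, D⁆) inferInstance (hD2.to_le (der_le D))
      (fun e => hc (isMulComm_iff_comm_eq_bot.2 e)) (mem_cent_iff_cent1.2 ?_)
    rw [commutator_le]
    intro a ha b hb
    have h1 := fx.key hb ha
    have h2 := fy.key hb ha
    have h3 := fx.key (conj_mem (hn y) hb) ha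
    have h4 := fy.key hb (conj_mem (hn x) ha)
    rw [← fy.swap hb ha] at h2
    rw [← fy.swap hb (conj_mem (hn x) ha), ← h1, ← h3, ← h2] at h4
    refine mem_cent1_comm.1 (mem_cent1_iff_conj.2 ?_)
    generalize ⁅a, b⁆ = w at h4
    rw [commutatorElement_def]
    calc _ = x * y * (x⁻¹ * (y⁻¹ * w * y) * x) * (x * y)⁻¹ := by group
      _ = _ := by rw [← h4]; group
  obtain ⟨u, hu, uu⟩ := hD
  have hL : closure ({x, y} : Set G) ≤ closure {x, y} ⊔ D := le_sup_left
  by_cases he : 2 ∣ D.relIndex (closure {x, y})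
  · rw [relIndex_eq_card_map_mk'] at he
    obtain ⟨_, ⟨g, hg, rfl⟩, g1, gg⟩ := exists_invol_of_even he
    have h2 : g * g ∈ D := (QuotientGroup.eq_one_iff _).1 gg
    let U := closure {v | ∃ u ∈ D, v = u * u}
    have hU : U ≤ D := (closure_le _).2 (by rintro _ ⟨u, hu, rfl⟩; exact mul_mem hu hu)
    have h3 := h.cent_le_pCore (N := U) (normal_iff_top_le.2 fun a _ =>
      mem_normalizer_closure_of_conj_mem (by
        rintro _ ⟨u, hu, rfl⟩
        exact ⟨_, conj_mem (hn a) hu, conj_mul.symm⟩)) (hD2.to_le hU)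
      (fun e => uu (mem_bot.1 (e ▸ subset_closure ⟨u, hu, rfl⟩))) (x := ⁅g⁻¹, x⁻¹⁆)
      (mem_cent_iff_cent1.2 ((closure_le _).2 (by
        rintro _ ⟨u, hu, rfl⟩
        exact mem_cent1.2 (sq_commute_of_comm fx fy hg h2 hu))))
    have h4 : Commute (g : G ⧸ D) (x : G ⧸ D) := by
      rw [← Commute.inv_inv_iff, ← commutatorElement_eq_one_iff_commute]
      exact (QuotientGroup.eq_one_iff _).2 h3
    have h5 := (h.quot D hD2 _ _ gg (Odd.of_dvd_nat (by rw [hx]; decide)
      (orderOf_map_dvd (QuotientGroup.mk' D) x)) h4).resolve_left g1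
    have h6 : x ∈ D := (QuotientGroup.eq_one_iff _).1 h5
    rw [commutatorElement_def, mul_assoc, mul_assoc, ← mul_assoc y]
    exact mul_mem h6 (conj_mem (hn y) (inv_mem h6))
  · set L := closure ({x, y} : Set G) ⊔ D
    have hL' : D.relIndex L = D.relIndex (closure {x, y}) := relIndex_sup_right _ _
    have hs : Group.IsSolvable L := isSolvable_of_normal_of_quotient (D.subgroupOf L)
      (solvable_of_two hD2.comap_subtype) (feit_thompson _ (odd_iff_not_dvd.2 (by rw [← hL'] at he; exact he)))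
    have hp : ∀ x : G, orderOf x = 3 → IsPiSubgroup {2}ᶜ (zpowers x) := fun x hx =>
      isPi_of_card_prime Nat.prime_three (by rwa [Nat.card_zpowers]) (by simp)
    obtain ⟨R, hR, hxR⟩ := exists_hall_ge hs (zpowers_le_of_mem (hL (subset_closure (by simp))))
      (hp x hx)
    obtain ⟨g, hg, hyR⟩ := exists_conj_le_hall hs hR
      (zpowers_le_of_mem (hL (subset_closure (by simp)))) (hp y hy)
    have hDL : IsPiHallOf {2} D L := (isSyl_iff_hall Nat.prime_two).1 ⟨le_sup_right, hD2, hL' ▸ he⟩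
    rw [← hall_sup_hall_compl hDL hR] at hg
    obtain ⟨r, hr, d, hd, rfl⟩ := (mem_sup_of_norm' fun a _ => hn a).1 hg
    have hy' : d * y * d⁻¹ ∈ R := by
      have := conj_mem' (le_normalizer hr) (hyR (conj_mem_conj (mem_zpowers y) (r * d)))
      simpa [mul_assoc] using this
    have ho : Odd 𝐨(R) := odd_iff_not_dvd.2 ((isPi_compl_singleton_iff' Nat.prime_two).1 (hall_isPi hR))
    have key : ∀ a ∈ R, orderOf a = 3 → 𝐨(zpowers a).Prime ∧ R ≤ 𝐍(zpowers a) := fun a ha h3 =>
      have h4 : 𝐨(zpowers a).Prime := by rw [Nat.card_zpowers, h3]; exact Nat.prime_three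
      ⟨h4, odd_regular_prime_normal ho (fun e => uu (by rw [show u = 1 from mem_bot.1 (e ▸ hu), mul_one]))
        (fun a _ => hn a) (h.semiReg hD2 ho) (zpowers_le_of_mem ha) h4⟩
    obtain ⟨h1, h2⟩ := key x (hxR (mem_zpowers x)) hx
    obtain ⟨h3, h4⟩ := key _ hy' (((MulAut.conj d).orderOf_eq y).trans hy)
    have h5 : Commute x (d * y * d⁻¹) := by
      rcases inf_eq_bot_or_le_of_card_prime h1 (zpowers (d * y * d⁻¹)) with e | e
      · exact mem_cent.1 (le_cent_of_norm_of_disj ((zpowers_le_of_mem hy').trans h2)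
          (hxR.trans h4) e (mem_zpowers _)) x (mem_zpowers x)
      · obtain ⟨k, hk⟩ := e (mem_zpowers x)
        rw [← hk]; exact Commute.zpow_self _ k
    rw [← QuotientGroup.eq_one_iff]
    have h6 := h5.map (QuotientGroup.mk' D)
    simp only [map_mul, map_inv, QuotientGroup.mk'_apply, (QuotientGroup.eq_one_iff d).2 hd,
      one_mul, inv_one, mul_one] at h6
    exact commutatorElement_eq_one_iff_commute.2 h6

end Cfsg.Agent.P4
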