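/-
P4: the amalgam generated by two `2`-local subgroups with a common Sylow subgroup.
-/
import Cfsg.Agent.P4.Higman
import Cfsg.Agent.P4.Dih2
import Cfsg.Agent.P2.Main

set_option autoImplicit false
set_option linter.unusedSectionVars false

namespace Cfsg.Agent.P4

open Subgroup Cfsg Cfsg.Agent Cfsg.Agent.FT Cfsg.Agent.L Cfsg.Agent.P2
open scoped commutatorElement

universe u

variable {G : Type u} [Group G] [Finite G]

/-- All elements have square one. -/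
def Elem (A : Subgroup G) : Prop := ∀ a ∈ A, a * a = 1

theorem Elem.comm {A : Subgroup G} (h : Elem A) {a b : G} (ha : a ∈ A) (hb : b ∈ A) :
    a * b = b * a := commute_of_sq_eq_one h ha hb

theorem Elem.le_cent {A : Subgroup G} (h : Elem A) : A ≤ 𝐂(A) :=
  fun _ ha => mem_cent.2 fun _ hb => h.comm hb ha

theorem Elem.pgrp {A : Subgroup G} (h : Elem A) : IsPGroup 2 A :=
  fun a => ⟨1, Subtype.ext (by simpa [sq] using h a a.2)⟩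

theorem Elem.mono {A B : Subgroup G} (h : Elem A) (hB : B ≤ A) : Elem B := fun b hb => h b (hB hb)

theorem Elem.sup {A B : Subgroup G} (hA : Elem A) (hB : Elem B) (h : B ≤ 𝐂(A)) : Elem (A ⊔ B) := by
  intro x hx
  obtain ⟨a, ha, b, hb, rfl⟩ := (mem_sup_of_norm (h.trans (cent_le_norm A))).1 hx
  rw [(show Commute b a from (mem_cent.1 (h hb) a ha).symm).mul_mul_mul_comm, hA a ha, hB b hb,
    one_mul]

theorem Elem.conj {A : Subgroup G} (h : Elem A) (g : G) : Elem (A ^ᵍ g) := by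
  rintro _ ⟨a, ha, rfl⟩
  exact conj_sq (h a ha) g

theorem elem_zpowers {a : G} (h : a * a = 1) : Elem (zpowers a) := by
  rintro _ ⟨k, rfl⟩
  simp only
  rw [← (Commute.refl a).mul_zpow, h, one_zpow]

/-- `Ω₁(Z(H))`. -/
def OZ (H : Subgroup G) : Subgroup G := omegaOne 2 𝐙(H)

theorem mem_OZ {H : Subgroup G} {x : G} : x ∈ OZ H ↔ x ∈ H ∧ x ∈ 𝐂(H) ∧ x * x = 1 := by
  rw [OZ, mem_omegaOne_iff_of_comm (isMulComm_center H), mem_inf, sq, and_assoc]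

theorem norm_le_norm_OZ (H : Subgroup G) : 𝐍(H) ≤ 𝐍(OZ H) :=
  (norm_le_norm_center H).trans (norm_le_norm_omegaOne _ 2)

theorem OZ_le (H : Subgroup G) : OZ H ≤ H := fun _ h => (mem_OZ.1 h).1

theorem OZ_le_cent (H : Subgroup G) : OZ H ≤ 𝐂(H) := fun _ h => (mem_OZ.1 h).2.1

theorem elem_OZ (H : Subgroup G) : Elem (OZ H) := fun _ h => (mem_OZ.1 h).2.2

theorem OZ_ne_bot {H : Subgroup G} (h : IsPGroup 2 H) (h1 : H ≠ ⊥) : OZ H ≠ ⊥ := by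
  obtain ⟨t, h2, h3, t1, tt⟩ := exists_invol_center h ⟨le_rfl, le_normalizer⟩ h1
  exact fun e => t1 (mem_bot.1 (e ▸ mem_OZ.2 ⟨h2, h3, tt⟩))

/-- Elementary abelian subgroups of maximal order. -/
structure MaxE (T A : Subgroup G) : Prop where
  le : A ≤ T
  elem : Elem A
  max : ∀ B ≤ T, Elem B → 𝐨(B) ≤ 𝐨(A)

theorem exists_maxE (T : Subgroup G) : ∃ A, MaxE T A := by
  obtain ⟨A, hA, h⟩ := Set.exists_max_image {A : Subgroup G | A ≤ T ∧ Elem A} (fun A => 𝐨(A))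
    (Set.toFinite _) ⟨⊥, bot_le, fun a ha => by simp [mem_bot.1 ha]⟩
  exact ⟨A, hA.1, hA.2, fun B h1 h2 => h B ⟨h1, h2⟩⟩

theorem MaxE.le_of_cent {T A B : Subgroup G} (h : MaxE T A) (hB : B ≤ T) (he : Elem B)
    (hc : B ≤ 𝐂(A)) : B ≤ A :=
  le_sup_right.trans (eq_of_le_of_card_ge le_sup_left
    (h.max _ (sup_le h.le hB) (h.elem.sup he hc))).ge

theorem MaxE.of_card {T A B : Subgroup G} (h : MaxE T A) (hB : B ≤ T) (he : Elem B)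
    (hc : 𝐨(A) ≤ 𝐨(B)) : MaxE T B := ⟨hB, he, fun C h1 h2 => (h.max C h1 h2).trans hc⟩

/-- The Thompson subgroup. -/
def Je (T : Subgroup G) : Subgroup G := sSup {A | MaxE T A}

theorem Je_le (T : Subgroup G) : Je T ≤ T := sSup_le fun _ h => h.le

theorem norm_le_norm_Je (T : Subgroup G) : 𝐍(T) ≤ 𝐍(Je T) := fun g hg =>
  mem_norm_of_conj_le (conj_le_iff.2 (sSup_le fun A hA => le_conj_iff.2 (le_sSup (by
    rw [inv_inv]
    exact hA.of_card (conj_le_of_mem_norm hA.le hg) (hA.elem.conj g) (card_conj A g).ge))))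

theorem Je_eq {T D : Subgroup G} (hD : D ≤ T) (h : Je T ≤ D) : Je T = Je D := by
  obtain ⟨A, hA⟩ := exists_maxE T
  have key : ∀ A, MaxE T A → MaxE D A := fun A hA =>
    ⟨(le_sSup hA).trans h, hA.elem, fun B h1 h2 => hA.max B (h1.trans hD) h2⟩
  refine congrArg sSup (Set.ext fun B => ⟨key B, fun hB => ?_⟩)
  exact hA.of_card (hB.le.trans hD) hB.elem (hB.max A (key A hA).le hA.elem)

theorem Je_ne_bot {T : Subgroup G} (h : IsPGroup 2 T) (h1 : T ≠ ⊥) : Je T ≠ ⊥ := fun e => by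
  obtain ⟨A, hA⟩ := exists_maxE T
  have h2 := hA.max _ (OZ_le T) (elem_OZ T)
  rw [eq_bot_iff.2 (e ▸ le_sSup hA : A ≤ ⊥), card_bot] at h2
  have := (one_lt_card_iff_ne_bot _).2 (OZ_ne_bot h h1)
  omega

theorem ZT.isSyl {Q H : Subgroup G} {t : G} (h : ZT Q H t) :
    IsSyl 2 Q ⊤ ∧ Q.index = 𝐨(H) * (𝐨(Q) + 1) := by
  have h1 := Q.card_mul_index
  rw [h.card_G, mul_assoc] at h1
  have h2 := Nat.eq_of_mul_eq_mul_left Nat.card_pos h1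
  exact ⟨⟨le_top, h.isPGroup, by
    rw [relIndex_top_right, h2, ← odd_iff_not_dvd]; exact h.odd.mul h.even.add_one⟩, h2⟩

theorem CIT.exists_odd_normal [Nontrivial G] (hs : Group.IsSolvable G) (hO : pCore 2 G = ⊥) :
    ∃ F : Subgroup G, F.Normal ∧ F ≠ ⊥ ∧ Odd 𝐨(F) := by
  obtain ⟨F, p, hF, hp, he⟩ := exists_isMinNormal_isElementaryAbelian (G := G)
  obtain ⟨n, hn⟩ := exists_card_eq_pow hp (elemAb_isPGroup he)
  refine ⟨F, hF.1, hF.2.1, hn ▸ (hp.odd_of_ne_two ?_).pow⟩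
  rintro rfl
  exact hF.2.1 (eq_bot_iff.2 (hO ▸ le_pCore hF.1 (elemAb_isPGroup he)))

theorem CIT.good (h : CIT G) (hO : pCore 2 G = ⊥)
    (hc : Group.IsSolvable G ∨ ∃ (Q H : Subgroup G) (t : G), ZT Q H t) {T A : Subgroup G}
    (hT : IsSyl 2 T ⊤) (hA : A ≤ T) (he : Elem A) (h1 : A ≠ ⊥) :
    𝐨(A) ^ 2 ≤ T.index + 1 ∧ (𝐨(A) ^ 2 = T.index + 1 → A = T) := by
  rcases hc with hs | ⟨Q, H, t, hz⟩
  · have : Nontrivial G := by
      obtain ⟨⟨a, ha⟩, a1⟩ := ne_bot_iff_exists_ne_one.1 h1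
      exact ⟨a, 1, fun e => a1 (Subtype.ext e)⟩
    obtain ⟨F, hn, F1, ho⟩ := CIT.exists_odd_normal hs hO
    have hn' : T ≤ 𝐍(F) := le_top.trans (normal_iff_top_le.1 hn)
    have hr := (h.semiReg hT.pgrp ho).symm
    obtain ⟨a, ha, a1, aa⟩ := exists_invol he.pgrp h1
    have h2 : 𝐨(A) = 2 := by
      rw [← orderOf_two a1 aa, ← Nat.card_zpowers]
      refine congrArg (fun X : Subgroup G => 𝐨(X)) (le_antisymm (fun b hb => ?_)
        (zpowers_le_of_mem ha))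
      by_cases b1 : b = 1
      · exact b1 ▸ one_mem _
      · exact invol_eq_of_semiReg F1 hn' hr (hA hb) b1 (he b hb) (hA ha) a1 aa ▸ mem_zpowers a
    have h3 : 𝐨(F) ∣ T.index := (coprime_of_odd hT.pgrp ho).dvd_of_dvd_mul_left
      (T.card_mul_index ▸ card_subgroup_dvd_card F)
    have h4 := Nat.le_of_dvd (Nat.pos_of_ne_zero T.index_ne_zero_of_finite) h3
    have h5 := (one_lt_card_iff_ne_bot F).2 F1
    have h6 := Nat.odd_iff.1 ho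
    have h7 := Nat.le_of_dvd (by omega) (hr.card_dvd hn')
    exact ⟨by rw [h2]; omega, fun e => eq_of_le_of_card_ge hA (by rw [h2] at e ⊢; omega)⟩
  · obtain ⟨hQ, hi⟩ := ZT.isSyl hz
    obtain ⟨g, -, rfl⟩ := hT.exists_conj_eq Nat.prime_two hQ
    have h2 : 𝐨(A) ≤ 𝐨(H) + 1 := by
      rw [← hz.card_Z, ← card_conj A g⁻¹]
      exact card_le_of_le fun x hx => hz.mem_Z.2 ⟨conj_le_iff.2 (by simpa using hA) hx,
        he.conj _ x hx⟩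
    have h3 : 𝐨(H) + 1 ≤ 𝐨(Q) := hz.card_Z ▸ card_le_of_le hz.Z_le
    have h4 := hz.three_le
    rw [index_conj, hi]
    exact ⟨by nlinarith, fun e => eq_of_le_of_card_ge hA (by rw [card_conj]; nlinarith)⟩

instance normal_pCoreOf (M : Subgroup G) : ((pCoreOf 2 M).subgroupOf M).Normal :=
  H1.normal_subgroupOf_of_le (pCoreOf_normal 2 M).2

/-- `M / O₂(M)`. -/
abbrev Bar (M : Subgroup G) := M ⧸ (pCoreOf 2 M).subgroupOf M

/-- `M` is solvable or `M / O₂(M)` is a Zassenhaus group of odd degree. -/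
def Loc (M : Subgroup G) : Prop :=
  Group.IsSolvable (Bar M) ∨ ∃ (Q H : Subgroup (Bar M)) (t : Bar M), ZT Q H t

theorem isPGroup_pCoreOf (M : Subgroup G) : IsPGroup 2 (pCoreOf 2 M) := (isPGroup_pCore 2).map _

theorem CIT.bar (h : CIT G) (M : Subgroup G) : CIT (Bar M) :=
  (h.subgroup M).quot _ (isPGroup_pCoreOf M).comap_subtype

theorem pCore_bar (M : Subgroup G) : pCore 2 (Bar M) = ⊥ := by
  have := pCoreOf_bar (Y := M) Nat.prime_two (pCoreOf_normal 2 M).1 le_rfl (isPGroup_pCoreOf M)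
  rw [H1.bar_self, H1.bar_top] at this
  exact eq_bot_iff.2 (this ▸ le_pCoreOf ⟨le_top, normal_iff_top_le.1 inferInstance⟩
    (isPGroup_pCore 2))

theorem elem_bar {Y N A : Subgroup G} [(N.subgroupOf Y).Normal] (h : ∀ a ∈ A, a * a ∈ N) :
    Elem (H1.bar Y N A) := by
  intro z hz
  obtain ⟨a, ha, rfl⟩ := H1.mem_bar.1 hz
  rw [← map_mul, H1.qmk_eq_one_iff]
  exact h a ha

theorem CIT.relIndex_dvd (h : CIT G) {M T V : Subgroup G} (hT : IsSyl 2 T M) (hV : IsPGroup 2 V)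
    (hn : M ≤ 𝐍(V)) : T.relIndex M ∣ 𝐨(V) - 1 := by
  refine (Nat.dvd_iff_prime_pow_dvd_dvd _ _).2 fun p k hp hd => ?_
  rcases k with _ | k
  · simp
  have hp2 : p ≠ 2 := by rintro rfl; exact hT.ndvd ((dvd_pow_self 2 (by omega)).trans hd)
  obtain ⟨P, hP⟩ := exists_isSyl hp M
  have h1 := hP.card_eq_pow_factorization hp
  refine (h1 ▸ pow_dvd_pow p ((hp.pow_dvd_iff_le_factorization (FT.card_ne_zero M)).1
    (hd.trans (relIndex_dvd_card' T M)))).trans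
    ((h.semiReg hV (h1 ▸ (hp.odd_of_ne_two hp2).pow)).card_dvd (hP.le.trans hn))

theorem CIT.trans (h : CIT G) {M T V : Subgroup G} (hT : IsSyl 2 T M) (hV : Elem V) (hn : V ⊲ M)
    (hc : T.relIndex M + 1 = 𝐨(V)) {v w : G} (hv : v ∈ V) (v1 : v ≠ 1) (hw : w ∈ V) (w1 : w ≠ 1) :
    ∃ g ∈ M, g * v * g⁻¹ = w := by
  have h1 := ncard_isConj_mul_card_centralizer (⟨v, hn.1 hv⟩ : M)
  have h2 : 𝐨(𝐂[(⟨v, hn.1 hv⟩ : M)]) ≤ 𝐨(T) := by
    rw [← card_map_inj M.subtype_injective]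
    refine Nat.le_of_dvd Nat.card_pos (hT.card_dvd Nat.prime_two ?_ (map_subtype_le _))
    exact ((h.subgroup M).isPGroup_cent (fun e => v1 (congrArg Subtype.val e))
      (Subtype.ext (hV v hv))).map _
  have h3 : Subtype.val '' {x | IsConj (⟨v, hn.1 hv⟩ : M) x} ⊆ sharp V := by
    rintro _ ⟨x, hx, rfl⟩
    obtain ⟨c, rfl⟩ := isConj_iff.1 hx
    exact ⟨conj_mem (hn.2 c.2) hv, conj_ne_one v1 c⟩
  have h4 := Set.eq_of_subset_of_ncard_le h3 (by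
    rw [ncard_sharp, Set.ncard_image_of_injective _ Subtype.val_injective, ← hc, Nat.add_sub_cancel]
    rw [← H1.card_mul_relIndex hT.le, mul_comm] at h1
    exact Nat.le_of_mul_le_mul_left (h1.ge.trans (Nat.mul_le_mul_right _ h2)) Nat.card_pos)
  have h5 : w ∈ sharp V := ⟨hw, w1⟩
  rw [← h4] at h5
  obtain ⟨x, hx, rfl⟩ := h5
  obtain ⟨c, rfl⟩ := isConj_iff.1 hx
  exact ⟨c, c.2, rfl⟩

theorem CIT.ff (h : CIT G) {M T V A : Subgroup G} (hl : Loc M) (hT : IsSyl 2 T M) (hV : Elem V)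
    (V1 : V ≠ ⊥) (hn : V ⊲ M) (hA : MaxE T A) (h0 : ¬ A ≤ pCoreOf 2 M)
    (hc : V ≤ 𝐂(A ⊓ pCoreOf 2 M)) {q : ℕ} (hq : q = (pCoreOf 2 M).relIndex A) :
    𝐨(V) = q ^ 2 ∧ A ⊔ pCoreOf 2 M = T ∧ T.relIndex M + 1 = q ^ 2 ∧
      𝐨((V ⊓ A : Subgroup G)) = q ∧ 𝐨((A ⊓ pCoreOf 2 M ⊔ V : Subgroup G)) = 𝐨(A) ∧ 2 ≤ q := by
  set D := pCoreOf 2 M
  have hAM := hA.le.trans hT.le
  have hDT : D ≤ T := hT.pCoreOf_le Nat.prime_two
  have hVD : V ≤ D := le_pCoreOf hn hV.pgrp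
  obtain ⟨a, ha, haD⟩ := SetLike.not_le_iff_exists.1 h0
  have h1 := h.card_sq hV hn.2 (hAM ha) (hA.elem a ha) haD
  have h2 := H1.card_inf_mul_relIndex D A
  have h3 := card_sup_mul_card_inf (hc.trans (cent_le_norm _))
  have h4 := hA.max _ (sup_le (inf_le_left.trans hA.le) (hVD.trans hDT))
    ((hA.elem.mono inf_le_left).sup hV hc)
  have h5 : 𝐨((V ⊓ A : Subgroup G)) ≤ 𝐨((V ⊓ 𝐂[a] : Subgroup G)) :=
    card_le_of_le (inf_le_inf_left V fun b hb => mem_cent1.2 (hA.elem.comm ha hb))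
  have h6 := (one_lt_card_iff_ne_bot V).2 V1
  have h7 := Nat.le_of_dvd (by omega) (h.relIndex_dvd hT hV.pgrp hn.2)
  have hTb := hT.bar (Y := M) (N := D) Nat.prime_two le_rfl
  rw [H1.bar_top] at hTb
  obtain ⟨h8, h9⟩ := (h.bar M).good (pCore_bar M) hl hTb (H1.bar_mono hA.le)
    (elem_bar fun a ha => hA.elem a ha ▸ one_mem _) (by rwa [Ne, H1.bar_eq_bot_iff hAM])
  rw [← relIndex_top_right, ← H1.bar_top, H1.relIndex_bar (pCoreOf_normal 2 M).1 hT.le le_rfl,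
    sup_eq_left.2 hDT, sup_eq_left.2 (pCoreOf_normal 2 M).1, H1.card_bar hAM, ← hq] at h8 h9
  rw [inf_assoc, inf_eq_right.2 hVD, inf_comm A V] at h3
  rw [inf_comm, ← hq] at h2
  have h10 : 0 < 𝐨((A ⊓ D : Subgroup G)) := Nat.card_pos
  have h11 : 0 < 𝐨((V ⊓ A : Subgroup G)) := Nat.card_pos
  generalize 𝐨((A ⊓ D : Subgroup G)) = a₀ at *
  generalize 𝐨((V ⊓ A : Subgroup G)) = i at *
  generalize 𝐨((V ⊓ 𝐂[a] : Subgroup G)) = c at *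
  generalize 𝐨((A ⊓ D ⊔ V : Subgroup G)) = e at *
  have h12 : c ^ 2 ≤ q * i := Nat.le_of_mul_le_mul_left (by nlinarith) h10
  have h13 : c ≤ q := by nlinarith
  have h14 : c = q := le_antisymm h13 (Nat.pow_le_pow_iff_left two_ne_zero |>.1 (by omega))
  subst h14
  have h15 : i = c := by nlinarith
  subst h15
  refine ⟨h1, ?_, by omega, rfl, Nat.eq_of_mul_eq_mul_right h11 (by nlinarith), by nlinarith⟩
  exact le_antisymm (sup_le hA.le hDT) ((H1.bar_le_bar_iff (pCoreOf_normal 2 M).1 hT.le hAM).1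
    (h9 (by omega)).ge)

theorem CIT.mem_of_comm_mem (h : CIT G) {M : Subgroup G} {a x : G} (ha : a ∈ M)
    (aa : a * a ∈ pCoreOf 2 M) (hx : x ∈ M) (x1 : x ≠ 1) (ho : Odd (orderOf x))
    (hc : ⁅a, x⁆ ∈ pCoreOf 2 M) : a ∈ pCoreOf 2 M := by
  rcases h.bar M (H1.qmk M _ ⟨a, ha⟩) (H1.qmk M _ ⟨x, hx⟩)
    (by rw [← map_mul, H1.qmk_eq_one_iff]; exact aa)
    (Odd.of_dvd_nat ho ((orderOf_map_dvd _ _).trans (orderOf_mk _ _).dvd))
    (by rw [← commutatorElement_eq_one_iff_commute, ← map_commutatorElement, H1.qmk_eq_one_iff]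
        exact hc) with e | e <;> rw [H1.qmk_eq_one_iff] at e
  · exact e
  · exact absurd (eq_one_of_odd_of_mem (isPGroup_pCoreOf M) ho e) x1

theorem three_dvd {m q : ℕ} (h : m + 1 = q ^ 2) (hq : ∃ k, q = 2 ^ k) : 3 ∣ m := by
  obtain ⟨k, rfl⟩ := hq
  have : (2 ^ k) ^ 2 % 3 = 1 := by rw [← pow_mul, mul_comm, pow_mul, Nat.pow_mod]; simp
  omega

theorem CIT.maxE_OZ (h : CIT G) {M T A : Subgroup G} (hl : Loc M) (hT : IsSyl 2 T M)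
    (D1 : pCoreOf 2 M ≠ ⊥) (hA : MaxE T A) (h0 : ¬ A ≤ pCoreOf 2 M) :
    MaxE T (OZ (pCoreOf 2 M)) := by
  set D := pCoreOf 2 M
  have hD : IsPGroup 2 D := isPGroup_pCoreOf M
  have hDM : D ⊲ M := pCoreOf_normal 2 M
  have hDT : D ≤ T := hT.pCoreOf_le Nat.prime_two
  have hc : OZ D ≤ 𝐂(A ⊓ D) := (OZ_le_cent D).trans (cent_anti inf_le_right)
  have hVM : M ≤ 𝐍(OZ D) := hDM.2.trans (norm_le_norm_OZ D)
  obtain ⟨h1, -, h3, -, h5, -⟩ := h.ff hl hT (elem_OZ D) (OZ_ne_bot hD D1)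
    ⟨(OZ_le D).trans hDM.1, hVM⟩ hA h0 hc rfl
  set E := A ⊓ D ⊔ OZ D
  have hED : E ≤ D := sup_le inf_le_right (OZ_le D)
  have hE : MaxE T E := hA.of_card (hED.trans hDT) ((hA.elem.mono inf_le_left).sup (elem_OZ D) hc)
    h5.ge
  let R := closure {x | x ∈ M ∧ orderOf x = 3}
  have hRM : R ⊲ M := ⟨(closure_le _).2 fun x hx => hx.1, fun g hg =>
    mem_normalizer_closure_of_conj_mem fun x hx =>
      ⟨conj_mem (le_normalizer hg) hx.1, ((MulAut.conj g).orderOf_eq x).trans hx.2⟩⟩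
  have hRE : R ≤ 𝐍(E) := (closure_le _).2 fun x hx => mem_norm_of_conj_le
    (hE.le_of_cent ((conj_le_of_mem_norm hED (hDM.2 hx.1)).trans hDT) (hE.elem.conj x) (by
      rintro _ ⟨v, hv, rfl⟩
      exact mem_cent.2 fun u hu => ((h.f3 hD hx.2 (hDM.2 hx.1)).commute (hED hu) (hED hv)
        (hE.elem.comm hv hu)).symm.eq))
  obtain ⟨a, ha, haD⟩ := SetLike.not_le_iff_exists.1 h0
  have haM := hT.le (hA.le ha)
  have haL : a ∈ M ⊓ 𝐍(E) := ⟨haM, H1.le_normalizer_sup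
    (((hA.elem.le_cent.trans (cent_anti inf_le_left))).trans (cent_le_norm _))
    ((hA.le.trans hT.le).trans hVM) ha⟩
  obtain ⟨x, hx, hx3⟩ := exists_mem_orderOf_eq_prime Nat.prime_three
    ((three_dvd h3 (by
      obtain ⟨k, hk⟩ := exists_card_eq_pow Nat.prime_two hA.elem.pgrp
      obtain ⟨j, -, hj⟩ := (Nat.dvd_prime_pow Nat.prime_two).1 (hk ▸ relIndex_dvd_card' D A)
      exact ⟨j, hj⟩)).trans (relIndex_dvd_card' T M))
  have hxR : x ∈ R := subset_closure ⟨hx, hx3⟩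
  have hRL : R ≤ M ⊓ 𝐍(E) := le_inf hRM.1 hRE
  have h6 := h.card_sq hE.elem inf_le_right haL (hA.elem a ha) fun e => haD
    (h.mem_of_comm_mem haM (hA.elem a ha ▸ one_mem _) hx (by rintro rfl; simp at hx3)
      (by rw [hx3]; decide) (by
        have h7 : pCoreOf 2 R ≤ D := le_pCoreOf ⟨(pCoreOf_normal 2 R).1.trans hRM.1, hRM.2.trans
          (by rw [pCoreOf_eq Nat.prime_two]; exact norm_le_norm_piCoreOf _ _)⟩ (isPGroup_pCoreOf R)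
        refine h7 (le_pCoreOf (inf_normal (pCoreOf_normal 2 _) hRL)
          ((isPGroup_pCoreOf _).to_le inf_le_left) ⟨?_, ?_⟩)
        · rw [commutatorElement_def, mul_assoc, mul_assoc, ← mul_assoc x]
          exact mul_mem e (conj_mem ((pCoreOf_normal 2 _).2 (hRL hxR)) (inv_mem e))
        · exact R.mul_mem (conj_mem (hRM.2 haM) hxR) (R.inv_mem hxR)))
  have h7 : 𝐨((A ⊓ D : Subgroup G)) ≤ 𝐨((E ⊓ 𝐂[a] : Subgroup G)) :=
    card_le_of_le (le_inf le_sup_left fun b hb => mem_cent1.2 (hA.elem.comm ha hb.1))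
  have h8 := H1.card_inf_mul_relIndex D A
  rw [inf_comm] at h8
  have h9 : 0 < 𝐨((A ⊓ D : Subgroup G)) := Nat.card_pos
  refine hA.of_card ((OZ_le D).trans hDT) (elem_OZ D) ?_
  rw [h1, ← h8, sq]
  exact Nat.mul_le_mul_right _ (by nlinarith)

/-- One half of the amalgam. -/
structure Half (M V T : Subgroup G) (q : ℕ) : Prop where
  syl : IsSyl 2 T M
  core : pCoreOf 2 M = V
  norm : 𝐍(V) = M
  elem : Elem V
  card : 𝐨(V) = q ^ 2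
  idx : T.relIndex M + 1 = q ^ 2
  loc : Loc M
  two_le : 2 ≤ q

/-- The amalgam of type `L₃(q)`. -/
structure Amal (M₁ M₂ V₁ V₂ T : Subgroup G) (q : ℕ) : Prop where
  h₁ : Half M₁ V₁ T q
  h₂ : Half M₂ V₂ T q
  sup : V₁ ⊔ V₂ = T
  inf : 𝐨((V₁ ⊓ V₂ : Subgroup G)) = q

theorem CIT.le_norm_of_cent (h : CIT G) {M T X : Subgroup G} (hT : IsSyl 2 T M)
    (hX : IsPGroup 2 X) (X1 : X ≠ ⊥) (hn : M ≤ 𝐍(X)) (hc : T ≤ 𝐂(X)) : M ≤ 𝐍(T) := by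
  rw [← hT.eq_of_le Nat.prime_two (le_inf hT.le hc) inf_le_left
    ((h.isPGroup_centralizer hX X1).to_le inf_le_right)]
  exact H1.le_normalizer_inf le_normalizer (H1.le_normalizer_centralizer hn)

theorem CIT.amalgam (h : CIT G) {M₁ M₂ T : Subgroup G} (l₁ : Loc M₁) (l₂ : Loc M₂)
    (s₁ : IsSyl 2 T M₁) (s₂ : IsSyl 2 T M₂) (d₁ : pCoreOf 2 M₁ ≠ ⊥) (d₂ : pCoreOf 2 M₂ ≠ ⊥)
    (n₁ : 𝐍(pCoreOf 2 M₁) = M₁) (n₂ : 𝐍(pCoreOf 2 M₂) = M₂) (c₁ : ¬ M₁ ≤ 𝐍(T))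
    (c₂ : ¬ M₂ ≤ 𝐍(T)) (hX : ∀ X ≤ T, M₁ ≤ 𝐍(X) → M₂ ≤ 𝐍(X) → X = ⊥) :
    ∃ V₁ V₂ q, Amal M₁ M₂ V₁ V₂ T q := by
  have T1 : T ≠ ⊥ := fun e => d₁ (eq_bot_iff.2 (e ▸ s₁.pCoreOf_le Nat.prime_two))
  have hJ : ∀ {M}, IsSyl 2 T M → Je T ≤ pCoreOf 2 M → M ≤ 𝐍(Je T) := fun {M} s e => by
    rw [Je_eq (s.pCoreOf_le Nat.prime_two) e]
    exact (pCoreOf_normal 2 M).2.trans (norm_le_norm_Je _)
  have ex : ∀ {M}, ¬ Je T ≤ pCoreOf 2 M → ∃ A, MaxE T A ∧ ¬ A ≤ pCoreOf 2 M := fun e => by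
    by_contra h0
    push Not at h0
    exact e (sSup_le h0)
  have nV : ∀ M : Subgroup G, OZ (pCoreOf 2 M) ⊲ M := fun M =>
    ⟨(OZ_le _).trans (pCoreOf_normal 2 M).1, (pCoreOf_normal 2 M).2.trans (norm_le_norm_OZ _)⟩
  have ff : ∀ {M A}, Loc M → IsSyl 2 T M → pCoreOf 2 M ≠ ⊥ → MaxE T A → ¬ A ≤ pCoreOf 2 M → _ :=
    fun {M A} l s d hA h0 => h.ff l s (elem_OZ _) (OZ_ne_bot (isPGroup_pCoreOf M) d) (nV M) hA h0
      ((OZ_le_cent _).trans (cent_anti inf_le_right)) rfl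
  have key : ∀ {M M'}, Loc M → IsSyl 2 T M → pCoreOf 2 M ≠ ⊥ → IsSyl 2 T M' → ¬ M' ≤ 𝐍(T) →
      ¬ Je T ≤ pCoreOf 2 M → ¬ Je T ≤ pCoreOf 2 M' := fun {M M'} l s d s' c e e' => by
    obtain ⟨A, hA, h0⟩ := ex e
    have hV := h.maxE_OZ l s d hA h0
    have h1 : ∀ B, MaxE T B → OZ (Je T) ≤ B := fun B hB => hB.le_of_cent
      ((OZ_le _).trans (Je_le T)) (elem_OZ _) ((OZ_le_cent _).trans (cent_anti (le_sSup hB)))
    refine c (h.le_norm_of_cent s' (elem_OZ _).pgrp (OZ_ne_bot (s.pgrp.to_le (Je_le T))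
      (Je_ne_bot s.pgrp T1)) ((hJ s' e').trans (norm_le_norm_OZ _)) ?_)
    exact (ff l s d hA h0).2.1.ge.trans (sup_le (cent_comm.1 ((h1 A hA).trans hA.elem.le_cent))
      (cent_comm.1 ((h1 _ hV).trans (OZ_le_cent _))))
  obtain ⟨e₁, e₂⟩ : ¬ Je T ≤ pCoreOf 2 M₁ ∧ ¬ Je T ≤ pCoreOf 2 M₂ := by
    by_cases e : Je T ≤ pCoreOf 2 M₁
    · have e' : ¬ Je T ≤ pCoreOf 2 M₂ := fun e' =>
        Je_ne_bot s₁.pgrp T1 (hX _ (Je_le T) (hJ s₁ e) (hJ s₂ e'))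
      exact absurd e (key l₂ s₂ d₂ s₁ c₁ e')
    · exact ⟨e, key l₁ s₁ d₁ s₂ c₂ e⟩
  obtain ⟨A₁, hA₁, a₁⟩ := ex e₁
  obtain ⟨A₂, hA₂, a₂⟩ := ex e₂
  have m₁ := h.maxE_OZ l₁ s₁ d₁ hA₁ a₁
  have m₂ := h.maxE_OZ l₂ s₂ d₂ hA₂ a₂
  have hne : ∀ {M M'}, MaxE T (OZ (pCoreOf 2 M)) → MaxE T (OZ (pCoreOf 2 M')) →
      OZ (pCoreOf 2 M') ≤ pCoreOf 2 M → OZ (pCoreOf 2 M) = OZ (pCoreOf 2 M') := fun m m' e =>
    eq_of_le_of_card_ge (m'.le_of_cent m.le m.elem ((OZ_le_cent _).trans (cent_anti e)))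
      (m.max _ m'.le m'.elem)
  have v₁ := OZ_ne_bot (isPGroup_pCoreOf M₁) d₁
  obtain ⟨p1, p2, p3, p4, -, p5⟩ := ff l₁ s₁ d₁ m₂ fun e =>
    v₁ (hX _ m₁.le (nV M₁).2 (hne m₁ m₂ e ▸ (nV M₂).2))
  obtain ⟨r1, r2, r3, r4, -, r5⟩ := ff l₂ s₂ d₂ m₁ fun e =>
    v₁ (hX _ m₁.le (nV M₁).2 (hne m₂ m₁ e ▸ (nV M₂).2))
  have sq : ∀ {M M'}, IsSyl 2 T M → IsSyl 2 T M' → OZ (pCoreOf 2 M) ⊔ pCoreOf 2 M' = T →
      ∀ d ∈ pCoreOf 2 M, ∃ e ∈ pCoreOf 2 M', d * d = e * e := fun {M M'} s s' e d hd => by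
    obtain ⟨v, hv, a, ha, rfl⟩ := (mem_sup_of_norm' (A := pCoreOf 2 M') (B := OZ (pCoreOf 2 M))
      (((le_sup_left.trans e.le).trans s'.le).trans (pCoreOf_normal 2 M').2)).1
      (by rw [sup_comm, e]; exact s.pCoreOf_le Nat.prime_two hd)
    refine ⟨a, ha, ?_⟩
    rw [(show Commute a v from mem_cent.1 (OZ_le_cent _ hv) a
      ((mul_mem_cancel_left (OZ_le _ hv)).1 hd)).mul_mul_mul_comm, elem_OZ _ v hv, one_mul]
  have hU : ∀ M : Subgroup G, M ≤ 𝐍(closure {v | ∃ u ∈ pCoreOf 2 M, v = u * u}) := fun M g hg =>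
    mem_normalizer_closure_of_conj_mem (by
      rintro _ ⟨u, hu, rfl⟩
      exact ⟨_, conj_mem ((pCoreOf_normal 2 M).2 hg) hu, conj_mul.symm⟩)
  have hU' : {v | ∃ u ∈ pCoreOf 2 M₁, v = u * u} = {v | ∃ u ∈ pCoreOf 2 M₂, v = u * u} :=
    Set.ext fun v => ⟨fun ⟨u, hu, e⟩ => e ▸ sq s₁ s₂ r2 u hu, fun ⟨u, hu, e⟩ => e ▸ sq s₂ s₁ p2 u hu⟩
  have h0 := hX _ ((closure_le _).2 (by
    rintro _ ⟨u, hu, rfl⟩
    exact s₁.pCoreOf_le Nat.prime_two (mul_mem hu hu))) (hU M₁) (hU' ▸ hU M₂)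
  have el : ∀ {M : Subgroup G}, closure {v | ∃ u ∈ pCoreOf 2 M, v = u * u} = ⊥ →
      pCoreOf 2 M = OZ (pCoreOf 2 M) := fun {M} e => by
    have : Elem (pCoreOf 2 M) := fun u hu => mem_bot.1 (e ▸ subset_closure ⟨u, hu, rfl⟩)
    exact le_antisymm (fun u hu => mem_OZ.2 ⟨hu, this.le_cent hu, this u hu⟩) (OZ_le _)
  have q₁ := el h0
  have q₂ := el (hU' ▸ h0)
  rw [inf_comm, p4] at r4
  rw [← r4] at r1 r3 r5
  exact ⟨_, _, _, ⟨s₁, q₁, q₁ ▸ n₁, elem_OZ _, p1, p3, l₁, p5⟩,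
    ⟨s₂, q₂, q₂ ▸ n₂, elem_OZ _, r1, r3, l₂, r5⟩, by rw [← r2, ← q₂], p4⟩

end Cfsg.Agent.P4
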