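/-
P4: a nonsolvable CIT-group with `O₂ = 1` is a Zassenhaus group or contains an amalgam.
-/
import Cfsg.Agent.P4.Amal
import Cfsg.Agent.H9.ZTB
import Cfsg.Agent.P1.B_2

set_option autoImplicit false
set_option linter.unusedSectionVars false

namespace Cfsg.Agent.P4

open Subgroup Cfsg Cfsg.Agent Cfsg.Agent.FT Cfsg.Agent.L Cfsg.Agent.P2
open scoped commutatorElement

universe u

variable {G : Type u} [Group G] [Finite G]

section lift

variable {K : Type*} [Group K] {p : G →* K}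

theorem exists_lift (hp : Function.Surjective p) (hk : IsPGroup 2 p.ker) {y : K}
    (hy : Odd (orderOf y)) : ∃ x, p x = y ∧ orderOf x = orderOf y := by
  let e := QuotientGroup.quotientKerEquivOfSurjective p hp
  obtain ⟨x, h1, h2⟩ := H5.exists_lift_orderOf_eq p.ker (e.symm y)
    (by rw [e.symm.orderOf_eq]; exact coprime_of_odd hk hy)
  exact ⟨x, (congrArg e h1).trans (e.apply_symm_apply y), h2.trans (e.symm.orderOf_eq y)⟩

theorem CIT.lift_invert' (h : CIT G) (hp : Function.Surjective p) (hk : IsPGroup 2 p.ker) {a : K}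
    {x : G} (aa : a * a = 1) (hy : Odd (orderOf x)) (x1 : x ≠ 1) (e : a * p x * a⁻¹ = (p x)⁻¹) :
    ∃ b, p b = a ∧ b * b = 1 ∧ b * x * b⁻¹ = x⁻¹ := by
  obtain ⟨b, rfl⟩ := hp a
  obtain ⟨d, hd, h1⟩ := fpf_surj (D := p.ker) (x := x⁻¹) (normal_iff_top_le.1 inferInstance trivial)
    (fun d hd hc => h.fpf hk hy x1 hd (Commute.inv_left_iff.1 hc)) (u := b * x * b⁻¹ * x)
    (by rw [MonoidHom.mem_ker]; simp [e])
  have h2 : d * b * x * (d * b)⁻¹ = x⁻¹ := by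
    calc _ = d * (b * x * b⁻¹ * x) * x⁻¹ * d⁻¹ := by group
      _ = _ := by rw [← h1]; group
  have h3 : p (d * b) = p b := by rw [map_mul, hd, one_mul]
  refine ⟨d * b, h3, h.fpf hk hy x1 (by rw [MonoidHom.mem_ker, map_mul, h3, aa]) ?_, h2⟩
  generalize d * b = c at h2
  calc x * (c * c) = (c * x * c⁻¹)⁻¹ * (c * c) := by rw [h2, inv_inv]
    _ = c * x⁻¹ * c := by group
    _ = _ := by rw [← h2]; group

theorem CIT.lift_invert (h : CIT G) (hp : Function.Surjective p) (hk : IsPGroup 2 p.ker) {a y : K}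
    (aa : a * a = 1) (hy : Odd (orderOf y)) (y1 : y ≠ 1) (e : a * y * a⁻¹ = y⁻¹) :
    ∃ b x, p b = a ∧ p x = y ∧ b * b = 1 ∧ orderOf x = orderOf y ∧ b * x * b⁻¹ = x⁻¹ := by
  obtain ⟨x, rfl, hx⟩ := exists_lift hp hk hy
  obtain ⟨b, h1, h2, h3⟩ := h.lift_invert' hp hk aa (hx ▸ hy) (fun e => y1 (by simp [e])) e
  exact ⟨b, x, h1, rfl, h2, hx, h3⟩

theorem Amal.not_le {M₁ M₂ V₁ V₂ T : Subgroup G} {q : ℕ} (a : Amal M₁ M₂ V₁ V₂ T q) :
    ¬ V₂ ≤ V₁ := fun e => by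
  have h1 := a.inf
  have h2 := a.h₁.two_le
  rw [inf_eq_right.2 e, a.h₂.card] at h1
  nlinarith

theorem Amal.symm {M₁ M₂ V₁ V₂ T : Subgroup G} {q : ℕ} (a : Amal M₁ M₂ V₁ V₂ T q) :
    Amal M₂ M₁ V₂ V₁ T q := ⟨a.h₂, a.h₁, by rw [sup_comm, a.sup], by rw [inf_comm, a.inf]⟩

theorem Half.exists_three {M V T : Subgroup G} {q : ℕ} (a : Half M V T q) :
    ∃ x ∈ M, orderOf x = 3 := by
  obtain ⟨k, hk⟩ := exists_card_eq_pow Nat.prime_two a.elem.pgrp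
  obtain ⟨j, -, hj⟩ := (Nat.dvd_prime_pow Nat.prime_two).1
    ((dvd_pow_self q two_ne_zero).trans (a.card ▸ hk).dvd)
  exact exists_mem_orderOf_eq_prime Nat.prime_three
    ((three_dvd a.idx ⟨j, hj⟩).trans (relIndex_dvd_card' T M))

theorem CIT.no_amal [Finite K] (h : CIT G) (hp : Function.Surjective p) (hk : IsPGroup 2 p.ker)
    (k1 : p.ker ≠ ⊥) (hO : pCore 2 K = ⊥) {M₁ M₂ V₁ V₂ T : Subgroup K} {q : ℕ}
    (a : Amal M₁ M₂ V₁ V₂ T q) : False := by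
  set W := OZ p.ker
  have hW : ∀ g, g ∈ 𝐍(W) := fun g => norm_le_norm_OZ _ (normal_iff_top_le.1 inferInstance trivial)
  obtain ⟨⟨_, z₁, z₂⟩, z1⟩ := ne_bot_iff_exists_ne_one.1 ((one_lt_card_iff_ne_bot (V₁ ⊓ V₂)).1
    (a.inf ▸ a.h₁.two_le))
  rename_i z'
  replace z1 : z' ≠ 1 := fun e => z1 (Subtype.ext e)
  obtain ⟨y', -, y1, y2, y3⟩ := exists_inverted (M := ⊤) trivial (a.h₁.elem _ z₁)
    (by rw [H2.pCoreOf_top, hO]; exact z1)
  replace y1 : y' ≠ 1 := fun e => by simp [e, Nat.not_prime_one] at y1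
  obtain ⟨z, y, rfl, rfl, zz, hy, e⟩ := h.lift_invert hp hk (a.h₁.elem _ z₁) y2 y1 y3
  have hP : ∀ {V : Subgroup K}, Elem V → IsPGroup 2 (V.comap p) := fun hV =>
    hV.pgrp.comap_of_ker_isPGroup p hk
  have hN : ∀ {V : Subgroup K} {x}, p x ∈ 𝐍(V) → x ∈ 𝐍(V.comap p) := fun hx =>
    le_normalizer_comap p hx
  have key : ∀ {M V : Subgroup K}, Half M V T q → p z ∈ V → W ⊓ 𝐂[z] ≤ 𝐂(V.comap p) := by
    intro M V b hz w hw
    obtain ⟨x', hx, x3⟩ := b.exists_three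
    obtain ⟨x, rfl, x4⟩ := exists_lift hp hk (y := x') (by rw [x3]; decide)
    obtain ⟨u, hu, rfl⟩ := free_act (elem_OZ _) (hW z) (hW y) (by rw [mul_assoc y, mul_assoc, e]; simp)
      (fun w hw hc => h.fpf (elem_OZ _).pgrp (hy ▸ y2) (fun e => y1 (by simp [e])) hw hc) hw.1
      (mem_cent1.1 hw.2)
    refine mem_cent.2 fun v hv => ?_
    have := (h.f3 (hP b.elem) (x4.trans x3) (hN (b.norm ▸ hx))).class2 hv hz (c := u)
      (by rw [mem_comap, show p u = 1 from OZ_le _ hu]; exact one_mem _)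
    rwa [commutatorElement_def, inv_eq_self_of_mul_self (elem_OZ _ u hu), mul_assoc u,
      mul_assoc u] at this
  have hWV : W ≤ V₁.comap p := fun w hw => by
    rw [mem_comap, show p w = 1 from OZ_le _ hw]; exact one_mem _
  obtain ⟨t, t1, t2, t3, -⟩ := exists_invol_center (hP a.h₁.elem) ⟨hWV, fun g _ => hW g⟩
    (OZ_ne_bot hk k1)
  set U := W ⊓ 𝐂(V₁.comap p)
  have hU : IsPGroup 2 𝐂(U) := h.isPGroup_centralizer ((elem_OZ _).pgrp.to_le inf_le_left)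
    fun e => t3 (mem_bot.1 (e ▸ ⟨t1, t2⟩))
  have hn : M₁.comap p ≤ 𝐍(𝐂(U)) := H1.le_normalizer_centralizer (H1.le_normalizer_inf
    (fun g _ => hW g) (H1.le_normalizer_centralizer fun g hg => hN (a.h₁.norm ▸ hg)))
  refine a.not_le (a.h₁.core ▸ le_trans ?_ (le_pCoreOf (N := (M₁.comap p ⊓ 𝐂(U)).map p)
    ⟨map_le_iff_le_comap.2 inf_le_left, ?_⟩ ((hU.to_le inf_le_right).map p)))
  · intro v hv
    obtain ⟨v, rfl⟩ := hp v
    exact ⟨v, ⟨a.h₁.syl.le (a.sup ▸ mem_sup_right hv), cent_comm.1 (le_trans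
      (inf_le_inf_left W fun c hc => mem_cent1.2 (mem_cent.1 hc z z₁)) (key a.h₂ z₂)) hv⟩, rfl⟩
  · intro g hg
    obtain ⟨g, rfl⟩ := hp g
    exact le_normalizer_map p ⟨g, H1.le_normalizer_inf le_normalizer hn hg, rfl⟩

end lift

/-- Maximal `2`-local subgroups. -/
structure MaxL (M : Subgroup G) : Prop where
  ne : pCoreOf 2 M ≠ ⊥
  max : ∀ M', M ≤ M' → pCoreOf 2 M' ≠ ⊥ → M' = M

theorem core_ne_bot {X L : Subgroup G} (hX : IsPGroup 2 X) (X1 : X ≠ ⊥) (h : X ⊲ L) :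
    pCoreOf 2 L ≠ ⊥ := fun e => X1 (eq_bot_iff.2 (e ▸ le_pCoreOf h hX))

theorem exists_maxL {X : Subgroup G} (hX : IsPGroup 2 X) (X1 : X ≠ ⊥) :
    ∃ M, MaxL M ∧ 𝐍(X) ≤ M := by
  obtain ⟨M, h1, h2⟩ := (Set.toFinite {M : Subgroup G | pCoreOf 2 M ≠ ⊥}).exists_le_maximal
    (core_ne_bot hX X1 ⟨le_normalizer, le_rfl⟩)
  exact ⟨M, ⟨h2.1, fun M' e h => (h2.eq_of_le h e).symm⟩, h1⟩

theorem MaxL.norm_eq {M X : Subgroup G} (h : MaxL M) (hX : IsPGroup 2 X) (X1 : X ≠ ⊥)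
    (hn : M ≤ 𝐍(X)) : 𝐍(X) = M := h.max _ hn (core_ne_bot hX X1 ⟨le_normalizer, le_rfl⟩)

theorem MaxL.norm {M : Subgroup G} (h : MaxL M) : 𝐍(pCoreOf 2 M) = M :=
  h.norm_eq (isPGroup_pCoreOf M) h.ne (pCoreOf_normal 2 M).2

theorem MaxL.conj {M : Subgroup G} (h : MaxL M) (g : G) : MaxL (M ^ᵍ g) :=
  ⟨by rw [pCoreOf_conj _ _ Nat.prime_two, Ne, conj_eq_bot_iff]; exact h.ne, fun M' e h' => by
    rw [← h.max (M' ^ᵍ g⁻¹) (conj_le_iff.1 e)
      (by rwa [pCoreOf_conj _ _ Nat.prime_two, Ne, conj_eq_bot_iff]), conj_inv_conj]⟩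

theorem MaxL.mem {M : Subgroup G} (h : MaxL M) {g : G} (e : M ^ᵍ g = M) : g ∈ M := by
  rw [← h.norm, ← conj_eq_self_iff, ← pCoreOf_conj _ _ Nat.prime_two, e]

theorem CIT.amal_of (h : CIT G) (hl : ∀ M : Subgroup G, pCoreOf 2 M ≠ ⊥ → Loc M)
    {M₁ M₂ T : Subgroup G} (m₁ : MaxL M₁) (m₂ : MaxL M₂) (hne : M₁ ≠ M₂) (s₁ : IsSyl 2 T M₁)
    (s₂ : IsSyl 2 T M₂) (c₁ : ¬ M₁ ≤ 𝐍(T)) (c₂ : ¬ M₂ ≤ 𝐍(T)) :
    ∃ (M₁ M₂ V₁ V₂ T : Subgroup G) (q : ℕ), Amal M₁ M₂ V₁ V₂ T q := by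
  obtain ⟨V₁, V₂, q, a⟩ := h.amalgam (hl _ m₁.ne) (hl _ m₂.ne) s₁ s₂ m₁.ne m₂.ne m₁.norm m₂.norm c₁ c₂
    fun X hX n₁ n₂ => by_contra fun X1 => hne ((m₁.norm_eq (s₁.pgrp.to_le hX) X1 n₁).symm.trans
      (m₂.norm_eq (s₁.pgrp.to_le hX) X1 n₂))
  exact ⟨_, _, _, _, _, _, a⟩

theorem CIT.exists_uniq (h : CIT G) (hl : ∀ M : Subgroup G, pCoreOf 2 M ≠ ⊥ → Loc M)
    (ha : ¬ ∃ (M₁ M₂ V₁ V₂ T : Subgroup G) (q : ℕ), Amal M₁ M₂ V₁ V₂ T q) {S : Subgroup G}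
    (hS : IsSyl 2 S ⊤) (S1 : S ≠ ⊥) : ∃ M, MaxL M ∧ S ≤ M ∧ ∀ L, MaxL L → S ≤ L → L = M := by
  by_cases e : ∃ M, MaxL M ∧ S ≤ M ∧ ¬ M ≤ 𝐍(S)
  · obtain ⟨M, m, hM, c⟩ := e
    have key : ∀ L, MaxL L → S ≤ L → ¬ L ≤ 𝐍(S) → L = M := fun L l hL c' => by_contra fun hne =>
      ha (h.amal_of hl l m hne (hS.of_le hL le_top) (hS.of_le hM le_top) c' c)
    refine ⟨M, m, hM, fun L l hL => by_contra fun hne => hne ?_⟩
    have h1 : L ≤ 𝐍(S) := by_contra fun c' => hne (key L l hL c')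
    refine (l.max M (fun n hn => m.mem (key _ (m.conj n) ?_ ?_)) m.ne).symm
    · rw [← conj_eq_of_mem_norm (h1 hn)]; exact conj_mono hM n
    · rw [← conj_eq_of_mem_norm (h1 hn), conj_le_norm_iff]; exact c
  · push Not at e
    obtain ⟨M, m, hM⟩ := exists_maxL hS.pgrp S1
    exact ⟨M, m, le_normalizer.trans hM, fun L l hL => (l.max M ((e L l hL).trans hM) m.ne).symm⟩

theorem CIT.strongly (h : CIT G) (hl : ∀ M : Subgroup G, pCoreOf 2 M ≠ ⊥ → Loc M)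
    (ha : ¬ ∃ (M₁ M₂ V₁ V₂ T : Subgroup G) (q : ℕ), Amal M₁ M₂ V₁ V₂ T q) {S M : Subgroup G}
    (hS : IsSyl 2 S ⊤) (m : MaxL M) (hM : S ≤ M) (hu : ∀ L, MaxL L → S ≤ L → L = M)
    {L : Subgroup G} (l : MaxL L) {t : G} (t1 : t ≠ 1) (tt : t * t = 1) (h1 : t ∈ L) (h2 : t ∈ M) :
    L = M := by
  by_contra hne
  obtain ⟨T, ⟨hT, T1, L, l, hne, hTL, hTM⟩, hm⟩ := Set.exists_max_image
    {T : Subgroup G | IsPGroup 2 T ∧ T ≠ ⊥ ∧ ∃ L, MaxL L ∧ L ≠ M ∧ T ≤ L ∧ T ≤ M}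
    (fun T => 𝐨(T)) (Set.toFinite _) ⟨zpowers t, isPGroup_zpowers_of_sq tt, by simpa using t1,
      L, l, hne, zpowers_le_of_mem h1, zpowers_le_of_mem h2⟩
  have max : ∀ L, MaxL L → L ≠ M → ∀ U : Subgroup G, IsPGroup 2 U → T ≤ U → U ≤ L → U ≤ M → U = T :=
    fun L l hne U hU h1 h2 h3 => (eq_of_le_of_card_ge h1 (hm U ⟨hU, fun e => T1 (eq_bot_iff.2
      (e ▸ h1)), L, l, hne, h2, h3⟩)).symm
  have hs : ¬ IsSyl 2 T (M ⊓ 𝐍(T)) := fun e => by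
    obtain ⟨g, hg, rfl⟩ := e.of_norm Nat.prime_two |>.exists_conj_eq Nat.prime_two
      (hS.of_le hM le_top)
    exact hne (by rw [← conj_eq_of_mem hg, ← hu _ (l.conj g⁻¹) (conj_le_iff.1 hTL), conj_inv_conj])
  obtain ⟨U, hU, hTU⟩ := exists_isSyl_ge Nat.prime_two hT (le_inf hTM le_normalizer)
  have hUT : U ≠ T := fun e => hs (e ▸ hU)
  have hN : 𝐍(T) ≤ M := by
    obtain ⟨L', l', h1⟩ := exists_maxL hT T1
    by_contra h0
    exact hUT (max L' l' (fun e => h0 (e ▸ h1)) U hU.pgrp hTU ((hU.le.trans inf_le_right).trans h1)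
      (hU.le.trans inf_le_left))
  have hL : IsSyl 2 T L := IsSyl.of_norm Nat.prime_two (isSyl_of_maximal Nat.prime_two
    (le_inf hTL le_normalizer) hT fun Q h1 h2 h3 => max L l hne Q h3 h1 (h2.trans inf_le_left)
      ((h2.trans inf_le_right).trans hN))
  obtain ⟨s, hs, hsT⟩ := SetLike.not_le_iff_exists.1 fun e : U ≤ T => hUT (le_antisymm e hTU)
  have hc : ¬ L ≤ 𝐍(T) := fun e => hne (l.max M (e.trans hN) m.ne).symm
  have e := conj_eq_of_mem_norm (hU.le hs).2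
  refine ha (h.amal_of hl l (l.conj s) (fun e => hsT ?_) hL (e ▸ hL.conj s)
    hc (by rw [← e, conj_le_norm_iff]; exact hc))
  exact (max L l hne (U ⊓ L) (hU.pgrp.to_le inf_le_left) (le_inf hTU hTL) inf_le_right
    (inf_le_left.trans (hU.le.trans inf_le_left))).le ⟨hs, l.mem e.symm⟩

theorem solvable_of_top (h : Group.IsSolvable (⊤ : Subgroup G)) : Group.IsSolvable G :=
  Group.isSolvable_of_surjective (f := (⊤ : Subgroup G).subtype) fun g => ⟨⟨g, trivial⟩, rfl⟩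

theorem solvable_of_uniq {t : G} (t1 : t ≠ 1) (tt : t * t = 1)
    (hu : ∀ s, s ≠ 1 → s * s = 1 → Commute t s → s = t) (hC : Group.IsSolvable 𝐂[t]) :
    Group.IsSolvable G := by
  have := (pPrimeCore_characteristic (G := G) Nat.prime_two).1
  set O := pPrimeCore 2 G
  have hO : Odd 𝐨(O) := odd_iff_not_dvd.2 (not_dvd_card_pPrimeCore Nat.prime_two)
  refine isSolvable_of_normal_of_quotient O (solvable_of_odd hO)
    (Group.isSolvable_of_surjective (f := (QuotientGroup.mk' O).comp 𝐂[t].subtype) fun g => ?_)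
  have h1 := H1.centralizer_map_mk' O (coprime_of_odd (isPGroup_zpowers_of_sq tt) hO).symm
    (Or.inr (solvable_of_odd hO))
  obtain ⟨c, hc, rfl⟩ : g ∈ 𝐂(zpowers t).map (QuotientGroup.mk' O) := by
    obtain ⟨g, rfl⟩ := QuotientGroup.mk'_surjective O g
    rw [← h1, MonoidHom.map_zpowers, cent_zpowers, mem_cent1, ← commute_iff_eq,
      ← commutatorElement_eq_one_iff_commute, ← map_commutatorElement]
    exact (QuotientGroup.eq_one_iff _).2 (P1.brauer_suzuki (orderOf_two t1 tt)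
      (fun s hs => hu s (invol_of_orderOf hs).1 (invol_of_orderOf hs).2) g)
  exact ⟨⟨c, cent_zpowers t ▸ hc⟩, rfl⟩

theorem CIT.zt_or_amal (h : CIT G) (hO : pCore 2 G = ⊥) (hns : ¬ Group.IsSolvable G)
    (hl : ∀ M : Subgroup G, pCoreOf 2 M ≠ ⊥ → Loc M) : (∃ (Q H : Subgroup G) (t : G), ZT Q H t) ∨
      ∃ (M₁ M₂ V₁ V₂ T : Subgroup G) (q : ℕ), Amal M₁ M₂ V₁ V₂ T q := by
  refine or_iff_not_imp_right.2 fun ha => ?_
  obtain ⟨S, hS⟩ := exists_isSyl Nat.prime_two (⊤ : Subgroup G)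
  have S1 : S ≠ ⊥ := hS.ne_bot Nat.prime_two (by_contra fun e => hns
    (solvable_of_top (solvable_of_odd (odd_iff_not_dvd.2 e))))
  obtain ⟨M, m, hM, hu⟩ := h.exists_uniq hl ha hS S1
  have se : ∀ {t g : G}, t ≠ 1 → t * t = 1 → t ∈ M → g * t * g⁻¹ ∈ M → g ∈ M :=
    fun {t g} t1 tt h1 h2 => m.mem (h.strongly hl ha hS m hM hu (m.conj g) (conj_ne_one t1 g)
      (conj_sq tt g) (conj_mem_conj h1 g) h2)
  have Mt : ¬ ∀ g, g ∈ M := fun e => m.ne (by rw [(eq_top_iff' M).2 e, H2.pCoreOf_top, hO])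
  obtain ⟨z, hz, zc, z1, zz⟩ := exists_invol_center hS.pgrp ⟨le_rfl, le_normalizer⟩ S1
  by_cases c : M ≤ 𝐍(S)
  · have hs : ∀ x ∈ S, x ≠ 1 → ∀ g : G, g * x * g⁻¹ ∈ S → g ∈ 𝐍(S) := fun x hx x1 g hg => by
      obtain ⟨_, ⟨k, rfl⟩, t1, tt⟩ := exists_invol (hS.pgrp.to_le (zpowers_le_of_mem hx))
        (by simpa using x1)
      exact c (se t1 tt (hM (zpow_mem hx k)) (by
        simp only; rw [← conj_zpow]; exact hM (zpow_mem hg k)))
    have hc : H9.CTI S := ⟨fun x hx x1 => hS.le_of_norm Nat.prime_two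
      (h.isPGroup_cent' hS.pgrp hx x1) le_top fun g hg => hs x hx x1 g
        (by rwa [mem_cent1_iff_conj.1 hg]), hs, even_iff_two_dvd.2
      (orderOf_two z1 zz ▸ S.orderOf_dvd_natCard hz)⟩
    obtain ⟨s, s1, ss, hc', hne⟩ : ∃ s, s ≠ 1 ∧ s * s = 1 ∧ Commute z s ∧ s ≠ z := by
      by_contra! h0
      exact hns (solvable_of_uniq z1 zz h0 (solvable_of_two (h.isPGroup_cent z1 zz)))
    obtain ⟨H, t, ht, -⟩ := hc.exists_ZT (fun e => S1 (eq_bot_iff.2 (hO ▸ le_pCore e hS.pgrp)))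
      hz z1 zz (hc.mem_of_commute hz z1 hc') s1 ss hne.symm
    exact ⟨S, H, t, ht⟩
  · exfalso
    have hSM := hS.of_le hM le_top
    obtain ⟨a', ha', a1, aa⟩ := exists_invol (hSM.bar (Y := M) (N := pCoreOf 2 M) Nat.prime_two
      le_rfl).pgrp (by
        rw [Ne, H1.bar_eq_bot_iff hM]
        exact fun e => c (le_antisymm e (hSM.pCoreOf_le Nat.prime_two) ▸ (pCoreOf_normal 2 M).2))
    obtain ⟨y', -, y1, y2, y3⟩ := exists_inverted (M := ⊤) trivial aa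
      (by rw [H2.pCoreOf_top, pCore_bar]; exact a1)
    obtain ⟨a, y, rfl, -, aa, -⟩ := (h.subgroup M).lift_invert (QuotientGroup.mk'_surjective _)
      (by rw [QuotientGroup.ker_mk']; exact (isPGroup_pCoreOf M).comap_subtype) aa y2
      (fun e => by simp [e, Nat.not_prime_one] at y1) y3
    obtain ⟨d, hd, d1, dd⟩ := exists_invol (isPGroup_pCoreOf M) m.ne
    have dM := (pCoreOf_normal 2 M).1 hd
    obtain ⟨g, hg⟩ := not_forall.1 Mt
    have a1' : (a : G) ≠ 1 := fun e => a1 (by rw [show a = 1 from Subtype.ext e, map_one])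
    have aa' : (a : G) * a = 1 := congrArg Subtype.val aa
    rcases Nat.even_or_odd (orderOf (g * d * g⁻¹ * a)) with he | ho
    · obtain ⟨k, h1, h2, h3, h4⟩ := exists_invol_commute_of_even (conj_sq dd g) aa' he
      have h5 := se a1' aa' a.2 (by rw [h4.eq, mul_inv_cancel_right]; exact a.2)
      exact hg (se d1 dd dM (se h1 h2 h5 (by rw [← h3.eq, mul_inv_cancel_right]; exact h5)))
    · obtain ⟨k, h1, h2⟩ := exists_invol_conj_of_odd (conj_sq dd g) aa' ho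
      generalize g * d * g⁻¹ * (g * d * g⁻¹ * a) ^ k = w at h1 h2
      have h3 : w * g * d * (w * g)⁻¹ = a := by
        rw [← h2, mul_inv_rev, inv_eq_self_of_mul_self h1]; group
      exact a1 ((QuotientGroup.eq_one_iff a).2 (mem_subgroupOf.2 (h3 ▸ conj_mem
        ((pCoreOf_normal 2 M).2 (se d1 dd dM (h3 ▸ a.2))) hd)))

/-- The basic dichotomy. -/
theorem CIT.glob (h : CIT G) (hO : pCore 2 G = ⊥) (hns : ¬ Group.IsSolvable G) :
    (∃ (Q H : Subgroup G) (t : G), ZT Q H t) ∨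
      ∃ (M₁ M₂ V₁ V₂ T : Subgroup G) (q : ℕ), Amal M₁ M₂ V₁ V₂ T q := by
  induction hn : Nat.card G using Nat.strong_induction_on generalizing G with
  | _ n ih =>
  refine h.zt_or_amal hO hns fun M M1 => or_iff_not_imp_left.2 fun hs => ?_
  have h1 : (pCoreOf 2 M).subgroupOf M ≠ ⊥ := by
    rwa [Ne, subgroupOf_eq_bot, disjoint_iff, inf_eq_left.2 (pCoreOf_normal 2 M).1]
  refine (ih _ ?_ (h.bar M) (pCore_bar M) hs rfl).resolve_right ?_
  · have h2 := ((pCoreOf 2 M).subgroupOf M).card_mul_index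
    have h3 := (one_lt_card_iff_ne_bot _).2 h1
    have h4 := M.card_le_card_group
    have h5 : 0 < Nat.card (Bar M) := Nat.card_pos
    change _ * Nat.card (Bar M) = _ at h2
    nlinarith
  · rintro ⟨_, _, _, _, _, _, a⟩
    exact (h.subgroup M).no_amal (QuotientGroup.mk'_surjective _)
      (by rw [QuotientGroup.ker_mk']; exact (isPGroup_pCoreOf M).comap_subtype)
      (by rwa [QuotientGroup.ker_mk']) (pCore_bar M) a

end Cfsg.Agent.P4
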