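/-
P4: consequences of the amalgam.
-/
import Cfsg.Agent.P4.Glob

set_option autoImplicit false
set_option linter.unusedSectionVars false

namespace Cfsg.Agent.P4

open Subgroup Cfsg Cfsg.Agent Cfsg.Agent.FT Cfsg.Agent.L Cfsg.Agent.P2
open scoped commutatorElement

universe u

variable {G : Type u} [Group G] [Finite G]

theorem CIT.odd_or_two (h : CIT G) (g : G) : Odd (orderOf g) ∨ IsPGroup 2 (zpowers g) := by
  refine (Nat.even_or_odd _).symm.imp_right fun e => ?_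
  obtain ⟨_, ⟨k, rfl⟩, t1, tt⟩ := exists_invol_of_even (H := zpowers g)
    (Nat.card_zpowers g ▸ e.two_dvd)
  exact (h.isPGroup_cent t1 tt).to_le (zpowers_le_of_mem (mem_cent1.2 (Commute.zpow_self g k).eq))

theorem mem_of_sq_mem {B : Subgroup G} {x : G} (ho : Odd (orderOf x)) (h : x * x ∈ B) : x ∈ B := by
  obtain ⟨k, hk⟩ := ho
  have : x = (x * x) ^ (k + 1) := by
    rw [← sq, ← pow_mul, show 2 * (k + 1) = 2 * k + 1 + 1 from rfl, ← hk, pow_succ,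
      pow_orderOf_eq_one, one_mul]
  exact this ▸ pow_mem h _

theorem braid_iff {s w : G} (ss : s * s = 1) (ww : w * w = 1) :
    w * s * w = s * w * s ↔ (s * w) ^ 3 = 1 := by
  have := conj_sq ww s
  rw [inv_eq_self_of_mul_self ss] at this
  rw [show (s * w) ^ 3 = s * w * s * (w * s * w) by simp only [pow_succ, pow_zero, one_mul, mul_assoc],
    mul_eq_one_iff_inv_eq, inv_eq_self_of_mul_self this, eq_comm]

theorem or_le_of_forall {B H K : Subgroup G} (h : ∀ b ∈ B, b ∈ H ∨ b ∈ K) : B ≤ H ∨ B ≤ K := by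
  by_contra! hc
  obtain ⟨a, ha, a1⟩ := SetLike.not_le_iff_exists.1 hc.1
  obtain ⟨b, hb, b1⟩ := SetLike.not_le_iff_exists.1 hc.2
  rcases h _ (mul_mem ha hb) with e | e
  · exact a1 ((mul_mem_cancel_right ((h b hb).resolve_right b1)).1 e)
  · exact b1 ((mul_mem_cancel_left ((h a ha).resolve_left a1)).1 e)

theorem ZT.conj {Q H : Subgroup G} {t : G} (h : ZT Q H t) (g : G) :
    ZT (Q ^ᵍ g) (H ^ᵍ g) (g * t * g⁻¹) where
  frob := h.frob.conj g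
  even := by rw [card_conj]; exact h.even
  tt := conj_sq h.tt g
  tH := by rw [norm_conj]; exact conj_mem_conj h.tH g
  bruhat x := by
    rw [← conj_sup]
    rcases h.bruhat (g⁻¹ * x * g) with e | ⟨a, ha, b, hb, e⟩
    · exact Or.inl (mem_conj.2 e)
    · exact Or.inr ⟨_, conj_mem_conj ha g, _, conj_mem_conj hb g, by
        rw [conj_mul, conj_mul, ← e]; group⟩
  inter x hx e := by
    rw [← conj_sup, mem_conj] at hx e
    exact mem_conj.2 (h.inter _ hx (by convert e using 1; group))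

theorem ZT.norm_le {Q H : Subgroup G} {t : G} (h : ZT Q H t) : 𝐍(Q) ≤ Q ⊔ H := fun _ hg => by
  obtain ⟨s, hs, s1, -⟩ := h.exists_invol
  exact h.ti hs s1 (mem_sup_left (conj_mem hg hs))

theorem ZT.weyl {Q H : Subgroup G} {t : G} (h : ZT Q H t) (he : Elem Q) {x s : G} (hx : x ∈ 𝐍(Q))
    (x1 : x ∉ Q) (hs : s ∈ Q) (s1 : s ≠ 1) :
    ∃ w, w * w = 1 ∧ w * x * w⁻¹ = x⁻¹ ∧ w * s * w = s * w * s ∧ w ∉ 𝐍(Q) := by
  obtain ⟨s₀, h1, h2, h3, ρ, h4, h5⟩ := h.exists_struct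
  have h6 := h.struct_three h1 h3 h4 h5 (he ρ h4)
  obtain ⟨k, hk, rfl⟩ := h.trans h1 h2 h3 hs s1 (he s hs)
  obtain ⟨u, hu, h7⟩ := h.frob.exists_conj_mem (ZT.norm_le h hx) x1
  have h8 := h.inverts _ (conj_mem' (le_normalizer hk) h7)
  refine ⟨u⁻¹ * (k * t * k⁻¹) * u⁻¹⁻¹, conj_sq (conj_sq h.tt k) _, ?_, ?_, fun e => ?_⟩
  · calc _ = u⁻¹ * k * (t * (k⁻¹ * (u * x * u⁻¹) * k) * t⁻¹) * k⁻¹ * u := by group
      _ = _ := by rw [h.t_inv, h8]; group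
  · have e : k * s₀ * k⁻¹ = u⁻¹ * (k * s₀ * k⁻¹) * u := by
      rw [mul_assoc u⁻¹, ← he.comm hu hs, inv_mul_cancel_left]
    rw [e]
    calc _ = u⁻¹ * k * (t * s₀ * t) * k⁻¹ * u := by group
      _ = _ := by rw [h6]; group
  · have hu' : u ∈ 𝐍(Q) := le_normalizer hu
    have hk' : k ∈ 𝐍(Q) := h.normQ (mem_sup_right hk)
    exact h.t_notMem (ZT.norm_le h (by
      simpa only [mul_mem_cancel_right, mul_mem_cancel_left, inv_mem_iff, hu', hk'] using e))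

namespace Half

variable {M V T : Subgroup G} {q : ℕ}

theorem normal (b : Half M V T q) : V ⊲ M := b.core ▸ pCoreOf_normal 2 M

theorem le (b : Half M V T q) : V ≤ T := b.core ▸ b.syl.pCoreOf_le Nat.prime_two

theorem ne_bot (b : Half M V T q) : V ≠ ⊥ := (one_lt_card_iff_ne_bot V).1 (by
  rw [b.card]; nlinarith [b.two_le])

theorem cent (b : Half M V T q) (h : CIT G) : 𝐂(V) ≤ V := by
  have := le_pCoreOf (H := M) ⟨b.norm ▸ cent_le_norm V, H1.le_normalizer_centralizer b.normal.2⟩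
    (h.isPGroup_centralizer b.elem.pgrp b.ne_bot)
  rwa [b.core] at this

theorem trans (b : Half M V T q) (h : CIT G) {v w : G} (hv : v ∈ V) (v1 : v ≠ 1) (hw : w ∈ V)
    (w1 : w ≠ 1) : ∃ g ∈ M, g * v * g⁻¹ = w :=
  h.trans b.syl b.elem b.normal (b.idx.trans b.card.symm) hv v1 hw w1

end Half

namespace Amal

variable {M₁ M₂ V₁ V₂ T : Subgroup G} {q : ℕ} (a : Amal M₁ M₂ V₁ V₂ T q)
include a

theorem mem {x : G} (hx : x ∈ T) : ∃ u ∈ V₁, ∃ v ∈ V₂, u * v = x :=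
  (mem_sup_of_norm ((a.h₂.le.trans a.h₁.syl.le).trans a.h₁.normal.2)).1 (a.sup ▸ hx)

theorem le_cent : T ≤ 𝐂((V₁ ⊓ V₂ : Subgroup G)) := a.sup ▸ sup_le
  (a.h₁.elem.le_cent.trans (cent_anti inf_le_left)) (a.h₂.elem.le_cent.trans (cent_anti inf_le_right))

theorem exists_z : ∃ z ∈ V₁ ⊓ V₂, z ≠ 1 := by
  obtain ⟨z, z1⟩ := ne_bot_iff_exists_ne_one.1 ((one_lt_card_iff_ne_bot (V₁ ⊓ V₂)).1
    (a.inf ▸ a.h₁.two_le))
  exact ⟨z, z.2, fun e => z1 (Subtype.ext e)⟩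

theorem sq_mem₁ {x : G} (hx : x ∈ T) : x * x ∈ V₁ := by
  obtain ⟨u, hu, v, hv, rfl⟩ := a.mem hx
  have := mul_mem hu (conj_mem (a.h₁.normal.2 (a.h₁.syl.le (a.h₂.le hv))) hu)
  rwa [inv_eq_self_of_mul_self (a.h₂.elem v hv), ← mul_assoc, ← mul_assoc, mul_assoc _ u] at this

theorem sq_mem {x : G} (hx : x ∈ T) : x * x ∈ V₁ ⊓ V₂ := ⟨a.sq_mem₁ hx, a.symm.sq_mem₁ hx⟩

theorem of_commute (h : CIT G) {u v : G} (hu : u ∈ V₁) (hv : v ∈ V₂) (hc : Commute v u) :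
    u ∈ V₂ ∨ v ∈ V₁ := by
  refine or_iff_not_imp_right.2 fun e => ?_
  have h1 := h.card_sq a.h₁.elem a.h₁.normal.2 (a.h₁.syl.le (a.h₂.le hv)) (a.h₂.elem v hv)
    (a.h₁.core ▸ e)
  rw [a.h₁.card, ← a.inf] at h1
  exact ((eq_of_le_of_card_ge (inf_le_inf_left V₁ fun b hb => mem_cent1.2 (a.h₂.elem.comm hv hb))
    (Nat.pow_left_injective two_ne_zero h1).ge).ge ⟨hu, mem_cent1.2 hc⟩).2

theorem invol_mem (h : CIT G) {x : G} (hx : x ∈ T) (xx : x * x = 1) : x ∈ V₁ ∨ x ∈ V₂ := by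
  obtain ⟨u, hu, v, hv, rfl⟩ := a.mem hx
  have : Commute v u := by
    rw [← inv_eq_self_of_mul_self (a.h₁.elem u hu), ← inv_eq_self_of_mul_self (a.h₂.elem v hv),
      Commute, SemiconjBy, ← mul_inv_rev, inv_eq_self_of_mul_self xx,
      inv_eq_self_of_mul_self (a.h₁.elem u hu), inv_eq_self_of_mul_self (a.h₂.elem v hv)]
  rcases a.of_commute h hu hv this with e | e
  · exact Or.inr (mul_mem e hv)
  · exact Or.inl (mul_mem hu e)

theorem eq_or (h : CIT G) {A : Subgroup G} (hA : A ≤ T) (he : Elem A) (hc : 𝐨(A) = q ^ 2) :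
    A = V₁ ∨ A = V₂ :=
  (or_le_of_forall fun x hx => a.invol_mem h (hA hx) (he x hx)).imp
    (fun e => eq_of_le_of_card_ge e (by rw [a.h₁.card, hc]))
    (fun e => eq_of_le_of_card_ge e (by rw [a.h₂.card, hc]))

theorem conj_eq (h : CIT G) {g : G} (hg : g ∈ 𝐍(T)) (g1 : g ∉ M₁) : V₁ ^ᵍ g = V₂ :=
  (a.eq_or h (conj_le_of_mem_norm a.h₁.le hg) (a.h₁.elem.conj g)
    (by rw [card_conj, a.h₁.card])).resolve_left fun e => g1 (a.h₁.norm ▸ conj_eq_self_iff.1 e)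

theorem mem₂ (h : CIT G) {g : G} (hg : g ∈ 𝐍(T)) (g1 : g ∈ M₁) : g ∈ M₂ := by_contra fun g2 =>
  a.not_le (conj_inj.1 ((a.symm.conj_eq h hg g2).trans
    (conj_eq_of_mem_norm (a.h₁.normal.2 g1)).symm)).le

theorem conj_eq' (h : CIT G) {g : G} (hg : g ∈ 𝐍(T)) (g1 : g ∉ M₁) : V₂ ^ᵍ g = V₁ :=
  a.symm.conj_eq h hg fun g2 => g1 (a.symm.mem₂ h hg g2)

theorem mul_mem₁ (h : CIT G) {g g' : G} (hg : g ∈ 𝐍(T)) (g1 : g ∉ M₁) (hg' : g' ∈ 𝐍(T))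
    (g2 : g' ∉ M₁) : g * g' ∈ M₁ := by
  rw [← a.h₁.norm, ← conj_eq_self_iff, ← conj_conj, a.conj_eq h hg' g2, a.conj_eq' h hg g1]

theorem mem_T {g : G} (hg : g ∈ 𝐍(T)) (g1 : g ∈ M₁) (h2 : IsPGroup 2 (zpowers g)) : g ∈ T :=
  a.h₁.syl.le_of_norm Nat.prime_two h2 (zpowers_le_of_mem g1) (zpowers_le_of_mem hg)
    (mem_zpowers g)

theorem norm_Z (h : CIT G) : 𝐍(T) ≤ 𝐍((V₁ ⊓ V₂ : Subgroup G)) := fun g hg => by
  by_cases g1 : g ∈ M₁
  · exact H1.le_normalizer_inf (inf_le_left.trans a.h₁.normal.2) (inf_le_right.trans a.h₂.normal.2)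
      (⟨g1, a.mem₂ h hg g1⟩ : g ∈ M₁ ⊓ M₂)
  · rw [← conj_eq_self_iff, conj_inf, a.conj_eq h hg g1, a.conj_eq' h hg g1, inf_comm]

theorem fixed_mem (h : CIT G) {g x : G} (hg : g ∈ 𝐍(T)) (g1 : g ∉ M₁) (hx : x ∈ T) (xx : x * x = 1)
    (hc : Commute g x) : x ∈ V₁ ⊓ V₂ := by
  have e : g * x * g⁻¹ = x := by rw [hc.eq, mul_inv_cancel_right]
  rcases a.invol_mem h hx xx with h1 | h1
  · exact ⟨h1, by rw [← a.conj_eq h hg g1, ← e]; exact conj_mem_conj h1 g⟩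
  · exact ⟨by rw [← a.conj_eq' h hg g1, ← e]; exact conj_mem_conj h1 g, h1⟩

theorem le_of_norm (h : CIT G) (hq : 3 ≤ q) {A : Subgroup G} (hA : A ≤ 𝐍(T)) (he : Elem A)
    (hc : 𝐨(A) = q ^ 2) : A ≤ T := fun g hg => by
  have key : ∀ x ∈ A, x ∈ M₁ → x ∈ T := fun x hx x1 =>
    a.mem_T (hA hx) x1 (isPGroup_zpowers_of_sq (he x hx))
  refine key g hg (by_contra fun g1 => ?_)
  have h1 : 𝐨((A ⊓ M₁ : Subgroup G)) ≤ q := a.inf ▸ card_le_of_le fun x hx =>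
    a.fixed_mem h (hA hg) g1 (key x hx.1 hx.2) (he x hx.1) (he.comm hg hx.1)
  have h2 : M₁.relIndex A = 2 := relIndex_eq_two_iff.2 ⟨g, hg, fun b hb => by
    by_cases b1 : b ∈ M₁
    · exact Or.inr ⟨b1, fun e => g1 ((mul_mem_cancel_left b1).1 e)⟩
    · exact Or.inl ⟨a.mul_mem₁ h (hA hb) b1 (hA hg) g1, b1⟩⟩
  have h3 := H1.card_inf_mul_relIndex M₁ A
  rw [h2, hc, inf_comm] at h3
  nlinarith

theorem le_norm (h : CIT G) (hq : 3 ≤ q) {U : Subgroup G} (hU : IsPGroup 2 U) (hT : T ≤ U) :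
    U ≤ 𝐍(T) := by
  have h1 : IsSyl 2 (U ⊓ 𝐍(T)) U := IsSyl.of_norm Nat.prime_two (isSyl_of_maximal Nat.prime_two
    (le_inf inf_le_left le_normalizer) (hU.to_le inf_le_left) fun Q h1 h2 _ =>
      le_antisymm (fun g hg => ⟨(h2 hg).1, mem_norm_of_conj_le (by
        have h3 : T ^ᵍ g ≤ 𝐍(T) :=
          (conj_le_of_mem_norm (le_inf hT le_normalizer) (h2 hg).2).trans inf_le_right
        conv_lhs => rw [← a.sup, conj_sup]
        exact sup_le (a.le_of_norm h hq ((conj_mono a.h₁.le g).trans h3) (a.h₁.elem.conj g)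
          (by rw [card_conj, a.h₁.card])) (a.le_of_norm h hq ((conj_mono a.h₂.le g).trans h3)
          (a.h₂.elem.conj g) (by rw [card_conj, a.h₂.card])))⟩) h1)
  exact (h1.eq_of_le Nat.prime_two inf_le_left le_rfl hU).le.trans inf_le_right

theorem conj_z (h : CIT G) {z w : G} (hz : z ∈ V₁ ⊓ V₂) (z1 : z ≠ 1) (hw : w ∈ M₁) (w1 : w ≠ 1)
    (ww : w * w = 1) : ∃ g, g * z * g⁻¹ = w := by
  obtain ⟨g, -, hg⟩ := a.h₁.syl.exists_conj_le Nat.prime_two (isPGroup_zpowers_of_sq ww)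
    (zpowers_le_of_mem hw)
  obtain ⟨k, hk⟩ : ∃ k, k * z * k⁻¹ = g * w * g⁻¹ := by
    rcases a.invol_mem h (hg (conj_mem_conj (mem_zpowers w) g)) (conj_sq ww g) with e | e
    · exact (a.h₁.trans h hz.1 z1 e (conj_ne_one w1 g)).imp fun _ e => e.2
    · exact (a.h₂.trans h hz.2 z1 e (conj_ne_one w1 g)).imp fun _ e => e.2
  exact ⟨g⁻¹ * k, by rw [mul_inv_rev, mul_assoc g⁻¹, mul_assoc g⁻¹, ← mul_assoc _ k⁻¹, hk]; group⟩

theorem selfCent (h : CIT G) (hq : q = 2) : ∃ t u : G, SelfCent t u := by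
  classical
  obtain ⟨z, hz, z1⟩ := a.exists_z
  obtain ⟨v, hv, v2⟩ := SetLike.not_le_iff_exists.1 a.symm.not_le
  have v1 : v ≠ 1 := fun e => v2 (e ▸ one_mem _)
  have zv : z ≠ v := fun e => v2 (e ▸ hz.2)
  have h1 : ({1, z, v, z * v} : Set G) = V₁ := Set.eq_of_subset_of_ncard_le
    (by
      rintro _ (rfl | rfl | rfl | rfl)
      exacts [V₁.one_mem, hz.1, hv, V₁.mul_mem hz.1 hv]) (by
      rw [← Nat.card_coe_set_eq, SetLike.coe_sort_coe, a.h₁.card, hq,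
        Set.ncard_insert_of_notMem, Set.ncard_insert_of_notMem, Set.ncard_pair]
      · rfl
      · simpa using z1
      · simp [zv, v1]
      · simp only [Set.mem_insert_iff, Set.mem_singleton_iff, not_or]
        exact ⟨z1.symm, v1.symm, fun e => v2 ((V₂.mul_mem_cancel_left hz.2).1 (e ▸ one_mem _))⟩)
  refine ⟨z, v, z1, v1, zv, a.h₁.elem z hz.1, a.h₁.elem v hv, a.h₁.elem.comm hz.1 hv,
    fun g h2 h3 => ?_⟩
  have h4 : g ∈ (V₁ : Set G) := a.h₁.cent h (mem_cent.2 fun x hx => by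
    change x ∈ (V₁ : Set G) at hx
    rw [← h1] at hx
    rcases hx with rfl | rfl | rfl | rfl
    exacts [by simp, h2, h3, h2.mul_left h3])
  rwa [← h1] at h4

theorem card_bar : 𝐨(H1.bar M₁ (pCoreOf 2 M₁) T) = q := by
  have h1 := card_sup_mul_card_inf ((a.h₂.le.trans a.h₁.syl.le).trans a.h₁.normal.2)
  have h2 := H1.card_mul_relIndex a.h₁.le
  rw [a.sup, a.inf, ← h2, a.h₂.card, mul_assoc, sq] at h1
  rw [H1.card_bar a.h₁.syl.le, a.h₁.core]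
  exact Nat.eq_of_mul_eq_mul_right (by linarith [a.h₁.two_le])
    (Nat.eq_of_mul_eq_mul_left Nat.card_pos h1)

theorem elem_bar : Elem (H1.bar M₁ (pCoreOf 2 M₁) T) :=
  P4.elem_bar fun _ hx => a.h₁.core ▸ a.sq_mem₁ hx

theorem zt (h : CIT G) (hq : 3 ≤ q) : ∃ H t, ZT (H1.bar M₁ (pCoreOf 2 M₁) T) H t := by
  have hT := a.h₁.syl.bar (Y := M₁) (N := pCoreOf 2 M₁) Nat.prime_two le_rfl
  rw [H1.bar_top] at hT
  rcases a.h₁.loc with hs | ⟨Q, H, t, hz⟩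
  · have h1 := (one_lt_card_iff_ne_bot _).1 (a.card_bar ▸ a.h₁.two_le)
    obtain ⟨x, hx, x1, xx⟩ := exists_invol hT.pgrp h1
    have : Nontrivial (Bar M₁) := ⟨x, 1, x1⟩
    obtain ⟨F, hn, F1, ho⟩ := CIT.exists_odd_normal hs (pCore_bar M₁)
    have h2 := card_le_of_le (K := zpowers x) fun b hb => (eq_or_ne b 1).elim
      (fun e => e ▸ one_mem _) fun b1 => invol_eq_of_semiReg F1
        (le_top.trans (normal_iff_top_le.1 hn)) ((h.bar M₁).semiReg hT.pgrp ho).symm hb b1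
        (a.elem_bar b hb) hx x1 xx ▸ mem_zpowers x
    rw [a.card_bar, Nat.card_zpowers, orderOf_two x1 xx] at h2
    omega
  · obtain ⟨g, -, e⟩ := hT.exists_conj_eq Nat.prime_two (ZT.isSyl hz).1
    exact ⟨_, _, e ▸ ZT.conj hz g⟩

theorem mem_norm_bar {x : M₁} :
    H1.qmk M₁ (pCoreOf 2 M₁) x ∈ 𝐍(H1.bar M₁ (pCoreOf 2 M₁) T) ↔ (x : G) ∈ 𝐍(T) := by
  refine ⟨fun e => ?_, fun e => H1.bar_le_normalizer le_rfl (H1.qmk_mem_bar e)⟩
  have := H1.le_normalizer_unbar (H := zpowers (x : G)) (zpowers_le_of_mem x.2)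
    (K := H1.bar M₁ (pCoreOf 2 M₁) T) (by rw [H1.bar_zpowers]; exact zpowers_le_of_mem e)
    (mem_zpowers _)
  rwa [H1.unbar_bar_of_le (a.h₁.syl.pCoreOf_le Nat.prime_two) a.h₁.syl.le] at this

theorem mem_bar {x : M₁} :
    H1.qmk M₁ (pCoreOf 2 M₁) x ∈ H1.bar M₁ (pCoreOf 2 M₁) T ↔ (x : G) ∈ T := by
  rw [H1.qmk_mem_bar_iff (pCoreOf_normal 2 _).1 a.h₁.syl.le,
    sup_eq_left.2 (a.h₁.syl.pCoreOf_le Nat.prime_two)]

theorem weyl (h : CIT G) (hq : 3 ≤ q) {x s : G} (hx : x ∈ M₁) (hx' : x ∈ 𝐍(T)) (x1 : x ≠ 1)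
    (ho : Odd (orderOf x)) (hs : s ∈ V₂) (s1 : s ∉ V₁) :
    ∃ w ∈ M₁, w * w = 1 ∧ w * x * w⁻¹ = x⁻¹ ∧ w * s * w = s * w * s ∧ w ∉ 𝐍(T) := by
  obtain ⟨H, t, hz⟩ := a.zt h hq
  have hsM := a.h₁.syl.le (a.h₂.le hs)
  obtain ⟨w', w1, w2, w3, w4⟩ := ZT.weyl hz a.elem_bar (a.mem_norm_bar (x := ⟨x, hx⟩).2 hx')
    (fun e => x1 (eq_one_of_odd_of_mem a.h₁.syl.pgrp ho (a.mem_bar.1 e)))
    (a.mem_bar (x := ⟨s, hsM⟩).2 (a.h₂.le hs)) (by rwa [Ne, H1.qmk_eq_one_iff, a.h₁.core])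
  obtain ⟨w, rfl, w5, w6⟩ := (h.subgroup M₁).lift_invert' H1.qmk_surjective
    (by rw [QuotientGroup.ker_mk']; exact (isPGroup_pCoreOf M₁).comap_subtype) (x := ⟨x, hx⟩) w1
    (by rwa [orderOf_mk]) (fun e => x1 (congrArg Subtype.val e)) w2
  have w7 : (w : G) * w = 1 := congrArg Subtype.val w5
  have w8 : (w : G) ∉ 𝐍(T) := fun e => w4 (a.mem_norm_bar.2 e)
  refine ⟨w, w.2, w7, congrArg Subtype.val w6, ?_, w8⟩
  have ss := a.h₂.elem s hs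
  have h1 : (s * w) ^ 3 ∈ pCoreOf 2 M₁ := by
    refine (H1.qmk_eq_one_iff (N := pCoreOf 2 M₁) (y := (⟨s, hsM⟩ * w) ^ 3)).1 ?_
    rw [map_pow, map_mul]
    exact (braid_iff (a.elem_bar _ (a.mem_bar (x := ⟨s, hsM⟩).2 (a.h₂.le hs))) w1).1 w3
  have h2 : (s * w) ^ 3 = 1 := by
    rcases h.odd_or_two (s * w) with e | e
    · exact eq_one_of_odd_of_mem (isPGroup_pCoreOf M₁) (e.of_dvd_nat (orderOf_pow_dvd 3)) h1
    · refine absurd ((mul_mem_cancel_left (le_normalizer (a.h₂.le hs))).1 (le_normalizer ?_)) w8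
      obtain ⟨k, hk⟩ := exists_card_eq_pow Nat.prime_two e
      rw [Nat.card_zpowers] at hk
      obtain ⟨m, hm⟩ := exists_pow_eq_self_of_coprime (x := s * w) (n := 3)
        (hk ▸ Nat.Coprime.pow_right k (by decide))
      exact hm ▸ pow_mem (a.h₁.syl.pCoreOf_le Nat.prime_two h1) m
  exact (braid_iff ss w7).2 h2

theorem exists_odd (h : CIT G) (hq : 3 ≤ q) :
    ∃ x ∈ M₁, x ∈ 𝐍(T) ∧ (orderOf x).Prime ∧ Odd (orderOf x) := by
  obtain ⟨H, t, hz⟩ := a.zt h hq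
  obtain ⟨p, hp, hd⟩ := Nat.exists_prime_and_dvd (n := 𝐨(H)) (by linarith [hz.three_le])
  obtain ⟨y, hy, e⟩ := exists_mem_orderOf_eq_prime hp hd
  have ho : Odd (orderOf y) := e ▸ hz.odd.of_dvd_nat hd
  obtain ⟨x, rfl, hx⟩ := exists_lift H1.qmk_surjective
    (by rw [QuotientGroup.ker_mk']; exact (isPGroup_pCoreOf M₁).comap_subtype) ho
  rw [← orderOf_coe] at hx
  exact ⟨x, x.2, a.mem_norm_bar.1 (hz.normQ (mem_sup_right hy)), hx ▸ e ▸ hp, hx ▸ ho⟩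

theorem norm_le (h : CIT G) (hq : 3 ≤ q) : 𝐍(T) ≤ M₁ := by
  by_contra h0
  obtain ⟨y, hy, hy', yp, yo⟩ := a.exists_odd h hq
  have y1 : y ≠ 1 := fun e => by simp [e, Nat.not_prime_one] at yp
  obtain ⟨P, hP, hyP⟩ := exists_isSyl_ge yp (M := M₁ ⊓ 𝐍(T))
    (IsPGroup.of_card ((Nat.card_zpowers y).trans (pow_one _).symm)) (zpowers_le_of_mem ⟨hy, hy'⟩)
  replace hyP := hyP (mem_zpowers y)
  have hB : M₁ ⊓ 𝐍(T) ⊲ 𝐍(T) := ⟨inf_le_right, fun g hg => mem_norm_of_conj_le (by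
    rintro _ ⟨b, hb, rfl⟩
    refine ⟨?_, conj_mem (le_normalizer hg) hb.2⟩
    by_cases g1 : g ∈ M₁
    · exact conj_mem (le_normalizer g1) hb.1
    · exact a.mul_mem₁ h (mul_mem hg hb.2) (fun e => g1 ((M₁.mul_mem_cancel_right hb.1).1 e)) (inv_mem hg)
        (by rwa [inv_mem_iff]))⟩
  obtain ⟨τ, ⟨τ1, τ2⟩, τ3⟩ := SetLike.not_le_iff_exists.1 fun e : 𝐍(T) ⊓ 𝐍(P) ≤ M₁ =>
    h0 (hP.frattini yp hB ▸ sup_le inf_le_left e)
  have hP2 : Odd 𝐨(P) := by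
    obtain ⟨n, hn⟩ := exists_card_eq_pow yp hP.pgrp
    exact hn ▸ yo.pow
  have h1 := a.mul_mem₁ h τ1 τ3 τ1 τ3
  have h2 := (h.odd_or_two τ).resolve_left fun e => τ3 (mem_of_sq_mem e h1)
  have h3 := a.mem_T (mul_mem τ1 τ1) h1 (h2.to_le (zpowers_le_of_mem
    (mul_mem (mem_zpowers τ) (mem_zpowers τ))))
  have ττ : τ * τ = 1 := h.fpf a.h₁.syl.pgrp yo y1 h3 (commutatorElement_eq_one_iff_commute.1
    (eq_one_of_odd_of_mem a.h₁.syl.pgrp (hP2.of_dvd_nat (P.orderOf_dvd_natCard (by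
      rw [commutatorElement_def, mul_assoc, mul_assoc, ← mul_assoc (τ * τ)]
      exact mul_mem hyP (conj_mem (mul_mem τ2 τ2) (inv_mem hyP)))))
      (mul_mem (conj_mem hy' h3) (inv_mem h3))))
  have τ4 : τ ≠ 1 := fun e => τ3 (e ▸ one_mem _)
  have h4 : τ * y * τ = y⁻¹ := inverts_of_fpf ττ τ2 (fun b hb hc =>
    (h τ b ττ (hP2.of_dvd_nat (P.orderOf_dvd_natCard hb)) hc).resolve_left τ4) y hyP
  obtain ⟨v, hv, v2⟩ := SetLike.not_le_iff_exists.1 a.symm.not_le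
  obtain ⟨s, hs, s1⟩ := SetLike.not_le_iff_exists.1 a.not_le
  obtain ⟨w, hw, ww, w1, -, w2⟩ := a.weyl h hq hy hy' y1 yo hs s1
  obtain ⟨z, hz, z1⟩ := a.exists_z
  obtain ⟨g, rfl⟩ : ∃ g, g * z * g⁻¹ = τ := by
    obtain ⟨g, rfl⟩ := a.conj_z h hz z1 hw (fun e => w2 (e ▸ one_mem _)) ww
    rw [inv_eq_self_of_mul_self ww] at w1
    obtain ⟨k, h5, h6⟩ := exists_invol_conj_of_odd ww ττ ((h.odd_cent y1 yo).of_dvd_nat
      (orderOf_dvd_natCard _ (EAC.mul_mem_cent_of_inverts ττ ww h4 w1)))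
    generalize g * z * g⁻¹ * (g * z * g⁻¹ * τ) ^ k = c at h5 h6
    exact ⟨c * g, by rw [← h6, mul_inv_rev, inv_eq_self_of_mul_self h5]; group⟩
  generalize hτ : g * z * g⁻¹ = τ at *
  have τi := inv_eq_self_of_mul_self ττ
  have vv := a.h₁.elem v hv
  have h5 : τ * v * τ⁻¹ ∈ V₂ := a.conj_eq h τ1 τ3 ▸ conj_mem_conj hv τ
  have h6 : v * (τ * v * τ⁻¹) ∈ T := mul_mem (a.h₁.le hv) (a.h₂.le h5)
  have h7 := a.sq_mem h6
  have h8 : v * (τ * v * τ⁻¹) * (v * (τ * v * τ⁻¹)) ≠ 1 := fun e => by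
    rcases a.invol_mem h h6 e with e | e
    · rw [mul_mem_cancel_left hv, ← a.conj_eq' h τ1 τ3, conj_mem_conj_iff] at e
      exact v2 e
    · exact v2 ((mul_mem_cancel_right h5).1 e)
  have h9 : τ * (v * (τ * v * τ⁻¹)) * τ⁻¹ = (v * (τ * v * τ⁻¹))⁻¹ := by
    rw [mul_inv_rev, inv_eq_self_of_mul_self vv, inv_eq_self_of_mul_self (conj_sq vv τ), τi]
    calc _ = τ * v * τ * v * (τ * τ) := by group
      _ = _ := by rw [ττ, mul_one]
  generalize v * (τ * v * τ⁻¹) = c at h6 h7 h8 h9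
  have hZ : Elem (V₁ ⊓ V₂) := a.h₁.elem.mono inf_le_left
  obtain ⟨u, hu, h10⟩ := free_act hZ (a.norm_Z h τ1) (a.norm_Z h hy')
    (by rw [τi, mul_assoc y, mul_assoc y, h4]; simp)
    (fun w hw hc => h.fpf hZ.pgrp yo y1 hw hc) h7 (by
      rw [Commute, SemiconjBy, ← mul_inv_eq_iff_eq_mul, ← conj_mul, h9, ← mul_inv_rev,
        inv_eq_self_of_mul_self (hZ _ h7)])
  have uc : u * c = c * u := mem_cent.1 (a.le_cent h6) u hu
  have uu := hZ u hu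
  have h11 : c * u * (c * u) = c * c := by
    rw [mul_assoc, ← mul_assoc u, uc, mul_assoc, uu, mul_one]
  have h12 : Commute τ (c * u) := by
    rw [Commute, SemiconjBy, ← mul_inv_eq_iff_eq_mul, ← conj_mul, h9, inv_mul_eq_iff_eq_mul,
      ← mul_assoc c, hZ.comm h7 hu, h10, ← mul_assoc u u, uu, one_mul]
  have h13 : 𝐂[z] ≤ 𝐍(T) := a.le_norm h hq (h.isPGroup_cent z1 (hZ z hz))
    fun t ht => mem_cent1.2 (mem_cent.1 (a.le_cent ht) z hz)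
  have h14 : g⁻¹ * (c * u) * g ∈ 𝐂[z] := by
    rw [← mem_conj, ← cent1_conj, hτ]; exact mem_cent1.2 h12
  have h15 : g⁻¹ * (c * c) * g ∈ V₁ ⊓ V₂ := by
    have e : g⁻¹ * (c * c) * g = g⁻¹ * (c * u) * g * (g⁻¹ * (c * u) * g) := by rw [← h11]; group
    have e' : g⁻¹ * (c * c) * g * (g⁻¹ * (c * c) * g) = 1 := by
      simpa using conj_sq (hZ _ h7) g⁻¹
    rw [e] at e' ⊢
    generalize g⁻¹ * (c * u) * g = d at h14 e'
    have h2 := (h.isPGroup_cent z1 (hZ z hz)).to_le (zpowers_le_of_mem h14)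
    by_cases d1 : d ∈ M₁
    · exact a.sq_mem (a.mem_T (h13 h14) d1 h2)
    · exact a.fixed_mem h (h13 h14) d1 (a.mem_T (mul_mem (h13 h14) (h13 h14))
        (a.mul_mem₁ h (h13 h14) d1 (h13 h14) d1) (isPGroup_zpowers_of_sq e')) e'
        ((Commute.refl d).mul_right (Commute.refl d))
  have h16 : 𝐂[c * c] ≤ 𝐍(T) := a.le_norm h hq (h.isPGroup_cent h8 (hZ _ h7))
    fun t ht => mem_cent1.2 (mem_cent.1 (a.le_cent ht) _ h7)
  refine τ3 (a.h₁.syl.le (a.le_of_norm h hq (A := V₁ ^ᵍ g) (le_trans ?_ h16) (a.h₁.elem.conj g)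
    (by rw [card_conj, a.h₁.card]) (hτ ▸ conj_mem_conj hz.1 g)))
  rw [← conj_inv_conj 𝐂[c * c] g, ← cent1_conj, inv_inv]
  exact conj_mono (fun t ht => mem_cent1.2 (a.h₁.elem.comm h15.1 ht)) g

theorem isSyl (h : CIT G) (hq : 3 ≤ q) : IsSyl 2 T ⊤ :=
  IsSyl.of_norm Nat.prime_two (a.h₁.syl.of_le (le_inf le_top le_normalizer)
    (inf_le_right.trans (a.norm_le h hq)))

theorem le_of_normal (h : CIT G) (hq : 3 ≤ q) {N : Subgroup G} (hN : N.Normal) {z : G}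
    (hz : z ∈ V₁ ⊓ V₂) (z1 : z ≠ 1) (zN : z ∈ N) : M₁ ≤ N := by
  have key : ∀ {M V : Subgroup G}, Half M V T q → z ∈ V → V ≤ N := fun b hz v hv => by
    by_cases v1 : v = 1
    · exact v1 ▸ one_mem _
    obtain ⟨g, -, rfl⟩ := b.trans h hz z1 hv v1
    exact hN.conj_mem z zN g
  obtain ⟨H, t, hz'⟩ := a.zt h hq
  obtain ⟨s, hs, s1, ss⟩ := hz'.exists_invol
  have h1 := hz'.eq_top_of_invol (H1.bar_normal (N := pCoreOf 2 M₁) (H := N ⊓ M₁)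
    (H1.le_normalizer_inf (le_top.trans (normal_iff_top_le.1 hN)) le_normalizer)) hs s1 ss
    (H1.bar_mono (le_inf (a.sup ▸ sup_le (key a.h₁ hz.1) (key a.h₂ hz.2)) a.h₁.syl.le) hs)
  rw [← H1.bar_top] at h1
  exact ((H1.bar_le_bar_iff (pCoreOf_normal 2 _).1 le_rfl inf_le_right).1 h1.ge).trans
    (sup_le inf_le_left (a.h₁.core ▸ key a.h₁ hz.1))

theorem simple (h : CIT G) (hq : 3 ≤ q) : IsSimpleGroup G := by
  obtain ⟨z, hz, z1⟩ := a.exists_z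
  have : Nontrivial G := ⟨z, 1, z1⟩
  refine ⟨fun N hN => or_iff_not_imp_left.2 fun N1 => ?_⟩
  have hT := a.isSyl h hq
  have hn : T ≤ 𝐍(N) := le_top.trans (normal_iff_top_le.1 hN)
  have h1 : 2 ∣ 𝐨(N) := by_contra fun e => by
    obtain ⟨v, hv, v2⟩ := SetLike.not_le_iff_exists.1 a.symm.not_le
    exact v2 (invol_eq_of_semiReg N1 hn (h.semiReg hT.pgrp (odd_iff_not_dvd.2 e)).symm
      (a.h₁.le hz.1) z1 (a.h₁.elem z hz.1) (a.h₁.le hv) (fun e => v2 (e ▸ one_mem _))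
      (a.h₁.elem v hv) ▸ hz.2)
  have h2 := hT.inf_normal Nat.prime_two ⟨le_top, normal_iff_top_le.1 hN⟩
  obtain ⟨t, t1, t2, t3, -⟩ := exists_invol_center hT.pgrp
    ⟨inf_le_left, H1.le_normalizer_inf le_normalizer hn⟩ (h2.ne_bot Nat.prime_two h1)
  have h3 := a.le_of_normal h hq hN ⟨a.h₁.cent h (cent_anti a.h₁.le t2),
    a.h₂.cent h (cent_anti a.h₂.le t2)⟩ t3 t1.2
  rw [inf_eq_left.2 (a.h₁.syl.le.trans h3)] at h2
  rw [← h2.frattini Nat.prime_two ⟨le_top, normal_iff_top_le.1 hN⟩, eq_comm, sup_eq_left]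
  exact inf_le_right.trans ((a.norm_le h hq).trans h3)

end Amal

end Cfsg.Agent.P4
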