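/-
P4: functions on a Suzuki group killed by the norms of the elements of odd order.
-/
import Cfsg.Agent.P2.Main
import Cfsg.Agent.P2.Lin

set_option autoImplicit false
set_option linter.unusedSectionVars false

namespace Cfsg.Agent.P4

open Cfsg Cfsg.Agent.P2 Finset

/-- `f` is killed by the norm of every nontrivial element of odd order. -/
def Ann {Γ A : Type*} [Group Γ] [AddCommMonoid A] (f : Γ → A) : Prop :=
  ∀ r : Γ, r ≠ 1 → Odd (orderOf r) → ∀ g g', ∑ i ∈ range (orderOf r), f (g * r ^ i * g') = 0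

theorem Ann.transl {Γ A : Type*} [Group Γ] [AddCommMonoid A] {f : Γ → A} (h : Ann f) (a b : Γ) :
    Ann fun g => f (a * g * b) := fun r r1 ho g g' => by
  simpa only [mul_assoc] using h r r1 ho (a * g) (g' * b)

theorem sum_pairs {α M : Type*} [DecidableEq α] [AddCommMonoid M] (e : α → ℕ)
    (he : Function.Injective e) (ι : α → α) (hι : ∀ a, ι (ι a) = a) (S : Finset α)
    (hS : ∀ a ∈ S, ι a ∈ S ∧ ι a ≠ a) (w : α → M) :
    ∑ a ∈ S, w a = ∑ a ∈ S.filter fun a => e a < e (ι a), (w a + w (ι a)) := by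
  rw [sum_add_distrib, ← sum_filter_add_sum_filter_not S fun a => e a < e (ι a)]
  congr 1
  refine sum_nbij' ι ι (fun a ha => ?_) (fun a ha => ?_) (fun a _ => hι a) (fun a _ => hι a)
    fun a _ => by rw [hι]
  · simp only [mem_filter, hι] at ha ⊢
    exact ⟨(hS a ha.1).1, lt_of_le_of_ne (not_lt.1 ha.2) (he.ne (hS a ha.1).2)⟩
  · simp only [mem_filter, hι] at ha ⊢
    exact ⟨(hS a ha.1).1, not_lt.2 ha.2.le⟩

theorem exists_fixed {Γ F V : Type*} [Group Γ] [Field F] [CharP F 2] [AddCommGroup V] [Module F V]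
    [Finite V] (ρ : Γ →* Module.End F V) {P : Subgroup Γ} (hP : IsPGroup 2 P) {X : Submodule F V}
    (hX : X ≠ ⊥) (hi : ∀ g ∈ P, ∀ v ∈ X, ρ g v ∈ X) : ∃ v ∈ X, v ≠ 0 ∧ ∀ g ∈ P, ρ g v = v := by
  let _ : MulAction P X :=
    { smul := fun g v => ⟨ρ g v, hi g g.2 v v.2⟩
      one_smul := fun v => Subtype.ext (by change ρ 1 v = v; simp)
      mul_smul := fun g h v => Subtype.ext (by
        change ρ (g * h) v = ρ g (ρ h v); simp) }
  have : Fact (Nat.Prime 2) := ⟨Nat.prime_two⟩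
  obtain ⟨v, hv, v0⟩ := Submodule.exists_mem_ne_zero_of_ne_bot hX
  obtain ⟨w, hw, w0⟩ := hP.exists_fixed_point_of_prime_dvd_card_of_fixed_point X (by
    rw [← addOrderOf_eq_prime (x := (⟨v, hv⟩ : X)) (p := 2) (by
      rw [← Nat.cast_smul_eq_nsmul F, CharP.cast_eq_zero, zero_smul])
      (fun e => v0 (congrArg Subtype.val e))]
    exact addOrderOf_dvd_natCard _) (a := 0) fun g => Subtype.ext (map_zero (ρ g))
  exact ⟨w, w.2, fun e => w0 (Subtype.ext e.symm), fun g hg => congrArg Subtype.val (hw ⟨g, hg⟩)⟩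

theorem exists_eigen {F V : Type*} [Field F] [Fintype F] [AddCommGroup V] [Module F V]
    (ρ : Fˣ →* Module.End F V) {X : Submodule F V} (hX : X ≠ ⊥) (hi : ∀ m, ∀ v ∈ X, ρ m v ∈ X) :
    ∃ v ∈ X, v ≠ 0 ∧ ∃ χ : Fˣ →* Fˣ, ∀ m, ρ m v = (χ m : F) • v := by
  classical
  obtain ⟨v, hv, v0⟩ := Submodule.exists_mem_ne_zero_of_ne_bot hX
  obtain ⟨j, -, hj⟩ : ∃ j ∈ range (Fintype.card Fˣ), ∑ b : Fˣ, (b : F) ^ j • ρ b v ≠ 0 := by
    refine exists_ne_zero_of_sum_ne_zero ?_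
    rw [sum_comm, sum_eq_single 1 (fun b _ b1 => ?_) (by simp)]
    · have h1 : ((Fintype.card Fˣ : ℕ) : F) = -1 := by
        rw [Fintype.card_units, Nat.cast_sub Fintype.card_pos, FiniteField.cast_card_eq_zero]; simp
      rw [← sum_smul]
      simp [h1, v0]
    · have := mul_geom_sum (b : F) (Fintype.card Fˣ)
      rw [← Units.val_pow_eq_pow_val, pow_card_eq_one, Units.val_one, sub_self, mul_eq_zero] at this
      rw [← sum_smul, this.resolve_left (by simpa [sub_eq_zero] using b1), zero_smul]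
  refine ⟨_, X.sum_mem fun b _ => X.smul_mem _ (hi b v hv), hj, (powMonoidHom j)⁻¹, fun m => ?_⟩
  rw [map_sum, smul_sum]
  refine Fintype.sum_equiv (Equiv.mulLeft m) _ _ fun b => ?_
  simp [smul_smul, mul_pow]

theorem ringHom_two {F : Type*} [Field F] {a b c d : F →+* F} (h : ∀ x, a x * b x = c x * d x) :
    a = c ∨ a = d := by
  by_contra! h0
  obtain ⟨x, hx⟩ := DFunLike.ne_iff.1 h0.1
  obtain ⟨y, hy⟩ := DFunLike.ne_iff.1 h0.2
  have key : ∀ x, a x = c x ∨ a x = d x := fun x => by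
    have h1 := h (x + 1)
    have h2 := h x
    simp only [map_add, map_one] at h1
    grind
  have h1 := key (x + y)
  have h2 := key x
  have h3 := key y
  simp only [map_add] at h1
  grind

namespace Mart

variable {F : Type*} [Field F] [Fintype F] [hc : CharP F 2] {θ : F ≃+* F}

/-- The matrix of a group element. -/
def ent (g : Model.S θ) : Matrix (Fin 4) (Fin 4) F := g.1.1

theorem ent_mul (g h : Model.S θ) : ent (g * h) = ent g * ent h := rfl

theorem ent_one : ent (1 : Model.S θ) = 1 := rfl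

theorem ent_inj {g h : Model.S θ} (e : ent g = ent h) : g = h := Subtype.ext (Units.ext e)

/-- The Weyl element. -/
def T (θ : F ≃+* F) : Model.S θ := ⟨Model.t F, Model.t_mem⟩

theorem ent_T : ent (T θ) = !![0,0,0,1; 0,0,1,0; 0,1,0,0; 1,0,0,0] := rfl

variable (h2 : ∀ x, θ (θ x) = x ^ 2)

/-- The unipotent elements. -/
def U (x y : F) : Model.S θ := ⟨Model.u θ x y, Model.u_mem h2 x y⟩

theorem ent_U (x y : F) : ent (U h2 x y) =
    !![1,0,0,0; x,1,0,0; y, θ x,1,0; θ y + x ^ 2 * θ x + x * y, x * θ x + y, x, 1] := rfl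

/-- The torus. -/
noncomputable def D : Fˣ →* Model.S θ :=
  MonoidHom.mk' (fun m => ⟨Model.k θ (θ m / m ^ 2), Model.k_mem h2 _⟩) fun a b => Subtype.ext (by
    refine Eq.trans ?_ ((Model.rel h2).kk _ _ (by simp) (by simp))
    change Model.k θ _ = _
    congr 1
    simp only [Units.val_mul, map_mul]
    field_simp)

theorem ent_D (m : Fˣ) : ent (D h2 m) =
    !![(m : F),0,0,0; 0,θ m / m,0,0; 0,0,m / θ m,0; 0,0,0,(m : F)⁻¹] := by
  have e : θ.symm (θ m / m ^ 2)⁻¹ = θ m / m := by rw [RingEquiv.symm_apply_eq]; simp [h2]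
  have : θ m ≠ 0 := by simp
  change (Model.k θ _).1 = _
  rw [Model.k, dif_neg (by simp)]
  ext i j
  fin_cases i <;> fin_cases j <;> simp [Model.d, Model.mk, -inv_div, e, h2] <;> field_simp

theorem U_mul (x y x' y' : F) : U h2 x y * U h2 x' y' = U h2 (x + x') (y + y' + θ x * x') :=
  Subtype.ext (Model.u_mul h2 x y x' y')

theorem U_zero : U h2 0 0 = 1 := Subtype.ext (Model.rel h2).z0

theorem D_U (m : Fˣ) (x y : F) : D h2 m * U h2 x y = U h2 (θ m / m ^ 2 * x) (y / θ m) * D h2 m := by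
  refine Subtype.ext ((Model.k_u h2 (by simp) x y).trans ?_)
  have : θ m ≠ 0 := by simp
  change _ = Model.u θ _ _ * Model.k θ _
  congr 2
  simp [h2]
  field_simp

theorem T_D (m : Fˣ) : T θ * D h2 m = D h2 m⁻¹ * T θ := by
  refine Subtype.ext (((Model.rel h2).tk _ (by simp)).trans ?_)
  change _ = Model.k θ _ * Model.t F
  congr 2
  simp
  field_simp

theorem D_T (m : Fˣ) : D h2 m * T θ = T θ * D h2 m⁻¹ := by rw [T_D, inv_inv]

theorem T_T : T θ * T θ = 1 := Subtype.ext (Units.ext Model.JJ)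

theorem bruhat (g : Model.S θ) : (∃ x y m, g = U h2 x y * D h2 m) ∨
    ∃ x y m x' y', g = U h2 x y * D h2 m * T θ * U h2 x' y' := by
  have key : ∀ b ∈ (Model.rel h2).B, ∃ x y m, b = (U h2 x y * D h2 m).1 := by
    rintro _ ⟨a, b, κ, hκ, rfl⟩
    rw [Model.u_mul h2]
    refine ⟨_, _, Units.mk0 (θ.symm κ⁻¹ * κ⁻¹) (by simpa using hκ),
      congrArg (Model.u θ (a + 0) (a * θ a + b + θ a * 0) * Model.k θ ·) ?_⟩
    have := h2 (θ.symm κ)
    have : θ.symm κ ≠ 0 := by simpa using hκ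
    simp only [RingEquiv.apply_symm_apply] at *
    simp [*]
    field_simp
  rcases (Model.S_eq h2).le g.2 with e | ⟨b, hb, c, d, e⟩
  · exact Or.inl ((key _ e).imp fun _ e => e.imp fun _ e => e.imp fun _ e => Subtype.ext e)
  · obtain ⟨x, y, m, rfl⟩ := key b hb
    rw [Model.u_mul h2] at e
    exact Or.inr ⟨x, y, m, _, _, Subtype.ext e⟩

/-- The Sylow `2`-subgroup. -/
def Q : Subgroup (Model.S θ) where
  carrier := {g | ∃ x y, g = U h2 x y}
  one_mem' := ⟨0, 0, (U_zero h2).symm⟩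
  mul_mem' := by
    rintro _ _ ⟨x, y, rfl⟩ ⟨x', y', rfl⟩
    exact ⟨_, _, U_mul h2 ..⟩
  inv_mem' := by
    rintro _ ⟨x, y, rfl⟩
    refine ⟨x, y + θ x * x, inv_eq_of_mul_eq_one_right ?_⟩
    rw [U_mul, ← U_zero h2]
    congr 1 <;> grind

theorem isPGroup_Q : IsPGroup 2 (Q h2) := by
  rintro ⟨_, x, y, rfl⟩
  refine ⟨2, Subtype.ext ?_⟩
  change U h2 x y ^ (2 * 2) = 1
  rw [pow_mul, sq, sq, U_mul, U_mul, ← U_zero h2, CharTwo.add_self_eq_zero]
  simp [CharTwo.add_self_eq_zero]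

theorem eigen {V : Type*} [AddCommGroup V] [Module F V] [Finite V]
    (ρ : Model.S θ →* Module.End F V) {X : Submodule F V} (hX : X ≠ ⊥)
    (hi : ∀ g, ∀ v ∈ X, ρ g v ∈ X) : ∃ v ∈ X, v ≠ 0 ∧ (∀ g ∈ Q h2, ρ g v = v) ∧
      ∃ χ : Fˣ →* Fˣ, ∀ m, ρ (D h2 m) v = (χ m : F) • v := by
  let Y : Submodule F V :=
    { carrier := {v | v ∈ X ∧ ∀ g ∈ Q h2, ρ g v = v}
      add_mem' := fun a b => ⟨add_mem a.1 b.1, fun g hg => by rw [map_add, a.2 g hg, b.2 g hg]⟩
      zero_mem' := ⟨zero_mem _, fun g _ => map_zero _⟩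
      smul_mem' := fun c v a => ⟨X.smul_mem c a.1, fun g hg => by rw [map_smul, a.2 g hg]⟩ }
  obtain ⟨v, hv, v0, e⟩ := exists_fixed ρ (isPGroup_Q h2) hX fun g _ => hi g
  obtain ⟨w, hw, w0, e⟩ := exists_eigen (ρ.comp (D h2)) (X := Y)
    ((Submodule.ne_bot_iff Y).2 ⟨v, ⟨hv, e⟩, v0⟩) fun m v hv => ⟨hi _ v hv.1, by
      rintro _ ⟨x, y, rfl⟩
      have := D_U h2 m⁻¹ x y
      rw [map_inv, inv_mul_eq_iff_eq_mul, ← mul_assoc, eq_mul_inv_iff_mul_eq] at this
      change (ρ _ * ρ _) v = ρ _ v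
      rw [← map_mul, this, map_mul, Module.End.mul_apply, hv.2 _ ⟨_, _, rfl⟩]⟩
  exact ⟨w, hw.1, w0, hw.2, e⟩

theorem five : U h2 0 1 * T θ ≠ 1 ∧ orderOf (U h2 0 1 * T θ) = 5 ∧
    (U h2 0 1 * T θ) ^ 2 = U h2 1 1 * T θ * U h2 1 1 ∧
    (U h2 0 1 * T θ) ^ 3 = U h2 1 0 * T θ * U h2 1 0 ∧ (U h2 0 1 * T θ) ^ 4 = T θ * U h2 0 1 := by
  have : Fact (Nat.Prime 5) := ⟨by decide⟩
  have h1 : U h2 0 1 * T θ ≠ 1 := fun e => by
    simpa [ent_mul, ent_U, ent_T, ent_one] using congrFun (congrFun (congrArg ent e) 0) 0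
  have e1 : U h2 1 1 * (T θ * U h2 0 1 * T θ) = T θ * U h2 1 1 :=
    Subtype.ext (by simpa [U, T] using (Model.rel h2).str)
  have e2 : U h2 0 1 = U h2 1 1 * U h2 1 1 := by simp [U_mul, CharTwo.add_self_eq_zero]
  have e3 : U h2 1 0 = (U h2 1 1)⁻¹ := eq_inv_of_mul_eq_one_right (by
    simp [U_mul, CharTwo.add_self_eq_zero, U_zero])
  have e4 : U h2 0 1 * U h2 0 1 = 1 := by simp [U_mul, CharTwo.add_self_eq_zero, U_zero]
  have e5 := T_T (θ := θ)
  rw [e3]
  generalize U h2 0 1 = z, U h2 1 1 = r, T θ = t at *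
  have f2 : (z * t) ^ 2 = r * t * r := by
    calc _ = r * (r * (t * z * t)) := by rw [sq]; nth_rw 1 [e2]; group
      _ = _ := by rw [e1, mul_assoc]
  have f4 : (z * t) ^ 4 = t * z := by
    calc _ = r * (t * (r * r) * t) * r := by rw [(pow_add (z * t) 2 2 :), f2]; group
      _ = _ := by rw [← e2, e1, mul_assoc, ← e2]
  have f5 : (z * t) ^ 5 = 1 := by rw [pow_succ, f4, mul_assoc, ← mul_assoc z, e4, one_mul, e5]
  refine ⟨h1, orderOf_eq_prime f5 h1, f2, ?_, f4⟩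
  rw [eq_inv_of_mul_eq_one_left (show (z * t) ^ 3 * (z * t) ^ 2 = 1 by rw [← pow_add, f5]), f2,
    mul_inv_rev, mul_inv_rev, inv_eq_of_mul_eq_one_right e5, mul_assoc]

variable {h2}

theorem ann5 {A : Type*} [AddCommMonoid A] {f : Model.S θ → A} (h : Ann f) (g : Model.S θ) :
    f g + f (g * U h2 0 1 * T θ) + f (g * U h2 1 1 * T θ * U h2 1 1) +
      f (g * U h2 1 0 * T θ * U h2 1 0) + f (g * T θ * U h2 0 1) = 0 := by
  obtain ⟨h1, h3, h4, h5, h6⟩ := five h2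
  have := h _ h1 (by rw [h3]; decide) g 1
  rw [h3] at this
  simpa [sum_range_succ, h4, h5, h6, mul_assoc] using this

/-- Right eigenfunctions of the Borel subgroup. -/
structure Eig (h2 : ∀ x, θ (θ x) = x ^ 2) (χ : Fˣ →* Fˣ) (f : Model.S θ → F) : Prop where
  ann : Ann f
  q : ∀ g x y, f (g * U h2 x y) = f g
  d : ∀ g m, f (g * D h2 m) = χ m * f g

variable {χ : Fˣ →* Fˣ} {f : Model.S θ → F}

theorem Eig.vanish (h : Eig h2 χ f) (h0 : ∀ x y, f (U h2 x y * T θ) = 0) : f = 0 := by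
  funext g
  rcases bruhat h2 g with ⟨x, y, m, rfl⟩ | ⟨x, y, m, x', y', rfl⟩
  · have := ann5 (h2 := h2) h.ann 1
    simp only [one_mul, h.q, h0] at this
    rw [← one_mul (T θ), ← U_zero h2, h0, U_zero] at this
    rw [h.d, ← one_mul (U h2 x y), h.q]
    simpa using this
  · rw [h.q, mul_assoc, D_T, ← mul_assoc, h.d, h0, mul_zero, Pi.zero_apply]

theorem Eig.hw (h : Eig h2 χ f) (hl : ∀ x y g, f (U h2 x y * g) = f g) (h0 : f ≠ 0) :
    f (T θ) ≠ 0 ∧ ∃ σ : F →+* F, (∀ m : Fˣ, σ m * χ m = 1) ∧ ∀ g, f g = σ (ent g 0 3) * f (T θ) := by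
  classical
  have h1 : f (T θ) ≠ 0 := fun e => h0 (h.vanish fun x y => by rw [hl, e])
  let σ : F →*₀ F :=
    { toFun := fun c => if e : c = 0 then 0 else (χ (Units.mk0 c e))⁻¹
      map_zero' := dif_pos rfl
      map_one' := by simp
      map_mul' := fun a b => by
        by_cases ha : a = 0
        · simp [ha]
        by_cases hb : b = 0
        · simp [hb]
        simp [ha, hb, mul_comm] }
  have hσ : ∀ m : Fˣ, σ m * χ m = 1 := fun m => by simp [σ]
  have key : ∀ g, f g = σ (ent g 0 3) * f (T θ) := fun g => by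
    rcases bruhat h2 g with ⟨x, y, m, rfl⟩ | ⟨x, y, m, x', y', rfl⟩
    · have := ann5 (h2 := h2) h.ann 1
      simp only [one_mul, h.q, hl, add_assoc, CharTwo.add_self_eq_zero, add_zero] at this
      rw [h.d, ← one_mul (U h2 x y), h.q]
      simp [this, ent_mul, ent_U, ent_D]
    · rw [h.q, mul_assoc (U h2 x y), hl, D_T, h.d, ← D_T]
      simp [ent_mul, ent_U, ent_D, ent_T, eq_inv_of_mul_eq_one_left (hσ m)]
  have h3 : ∀ c, σ (c + 1) = σ c + 1 := fun c => by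
    have := ann5 (h2 := h2) h.ann (T θ * U h2 0 (θ.symm c))
    simp only [h.q] at this
    rw [key (T θ * _ * U h2 0 1 * _), key (T θ * _ * U h2 1 1 * _), key (T θ * _ * U h2 1 0 * _),
      key (T θ * U h2 0 _ * T θ)] at this
    simp [ent_mul, ent_U, ent_T, CharTwo.add_self_eq_zero] at this
    clear * - hc this h1
    grind
  refine ⟨h1, ⟨σ, map_zero σ, fun a b => ?_⟩, hσ, key⟩
  change σ (a + b) = σ a + σ b
  rcases eq_or_ne b 0 with rfl | hb
  · simp
  rw [show a + b = (a / b + 1) * b by field_simp, map_mul, h3, add_mul, ← map_mul, one_mul,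
    div_mul_cancel₀ _ hb]

/-- Right translation. -/
def R (Γ F : Type*) [Group Γ] [Field F] : Γ →* Module.End F (Γ → F) where
  toFun g := LinearMap.funLeft F F (· * g)
  map_one' := by ext; simp
  map_mul' g h := by ext; simp [mul_assoc]

/-- Left translation. -/
def Lt (Γ F : Type*) [Group Γ] [Field F] : Γ →* Module.End F (Γ → F) where
  toFun g := LinearMap.funLeft F F (g⁻¹ * ·)
  map_one' := by ext; simp
  map_mul' g h := by ext; simp [mul_assoc]

theorem Eig.exists_hw {Y : Submodule F (Model.S θ → F)} (hY : ∀ f ∈ Y, Eig h2 χ f) (Y0 : Y ≠ ⊥)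
    (hi : ∀ g, ∀ f ∈ Y, (fun x => f (g * x)) ∈ Y) : ∃ f ∈ Y, f (T θ) ≠ 0 ∧ ∃ σ : F →+* F,
      (∀ m : Fˣ, σ m * χ m = 1) ∧ ∀ g, f g = σ (ent g 0 3) * f (T θ) := by
  obtain ⟨f, hf, f0, e⟩ := exists_fixed (Lt _ F) (isPGroup_Q h2) Y0 fun g _ f hf => hi g⁻¹ f hf
  exact ⟨f, hf, (hY f hf).hw (fun x y g => congrFun (e _ (inv_mem ⟨x, y, rfl⟩)) g) f0⟩

/-- The space of eigenfunctions. -/
def eigSub (h2 : ∀ x, θ (θ x) = x ^ 2) (χ : Fˣ →* Fˣ) : Submodule F (Model.S θ → F) where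
  carrier := {f | Eig h2 χ f}
  add_mem' a b := ⟨fun r r1 ho g g' => by
    simp [sum_add_distrib, a.ann r r1 ho g g', b.ann r r1 ho g g'], by simp [a.q, b.q],
    by simp [a.d, b.d, mul_add]⟩
  zero_mem' := ⟨fun r r1 ho g g' => by simp, by simp, by simp⟩
  smul_mem' c f a := ⟨fun r r1 ho g g' => by simp [← mul_sum, a.ann r r1 ho g g'], by simp [a.q],
    by simp [a.d, mul_left_comm]⟩

theorem Eig.left (h : Eig h2 χ f) (g : Model.S θ) : Eig h2 χ fun x => f (g * x) :=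
  ⟨by simpa using h.ann.transl g 1, fun a x y => by rw [← mul_assoc, h.q],
    fun a m => by rw [← mul_assoc, h.d]⟩

theorem Eig.exists_hom (h : Eig h2 χ f) (h0 : f ≠ 0) : ∃ σ : F →+* F, ∀ m : Fˣ, σ m * χ m = 1 := by
  obtain ⟨-, -, -, σ, h, -⟩ := Eig.exists_hw (Y := eigSub h2 χ) (fun _ h => h)
    ((Submodule.ne_bot_iff _).2 ⟨f, h, h0⟩) fun g f hf => Eig.left hf g
  exact ⟨σ, h⟩

theorem D_inj : Function.Injective (D h2) := fun a b e => by
  simpa [ent_D, Units.ext_iff] using congrFun (congrFun (congrArg ent e) 0) 0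

theorem odd_units : Odd (Nat.card Fˣ) := by
  obtain ⟨n, -, hn⟩ := FiniteField.card F 2
  rw [Nat.card_units, Nat.card_eq_fintype_card, hn]
  exact Nat.Even.sub_odd Nat.one_le_two_pow (Nat.even_pow.2 ⟨even_two, n.ne_zero⟩) odd_one

theorem eq_zero_of_left (h : Ann f) {m : Fˣ} (m1 : m ≠ 1) (hl : ∀ g, f (D h2 m * g) = f g) :
    f = 0 := by
  funext g
  have ho : Odd (orderOf (D h2 m)) := by
    rw [orderOf_injective _ D_inj]; exact odd_units.of_dvd_nat (orderOf_dvd_natCard m)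
  have h1 := h _ (by rwa [Ne, map_eq_one_iff _ D_inj]) ho 1 g
  have h3 : ∀ i, f (1 * D h2 m ^ i * g) = f g := fun i => by
    induction i with
    | zero => simp
    | succ i ih => rw [← ih, pow_succ', one_mul, one_mul, mul_assoc, hl]
  obtain ⟨k, hk⟩ := ho
  simp only [h3, hk] at h1
  simpa [CharTwo.two_eq_zero] using h1

/-- The relevant space of functions of three variables. -/
def tri (θ : F ≃+* F) : Submodule F (Model.S θ → Model.S θ → Model.S θ → F) where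
  carrier := {f | (∀ g a b c, f (g * a) (g * b) (g * c) = f a b c) ∧ (∀ b c, Ann fun a => f a b c) ∧
    (∀ a c, Ann fun b => f a b c) ∧ ∀ a b, Ann fun c => f a b c}
  add_mem' a b := ⟨by simp [a.1, b.1], fun _ _ r r1 ho g g' => by
    simp [sum_add_distrib, a.2.1 _ _ r r1 ho g g', b.2.1 _ _ r r1 ho g g'], fun _ _ r r1 ho g g' => by
    simp [sum_add_distrib, a.2.2.1 _ _ r r1 ho g g', b.2.2.1 _ _ r r1 ho g g'],
    fun _ _ r r1 ho g g' => by
    simp [sum_add_distrib, a.2.2.2 _ _ r r1 ho g g', b.2.2.2 _ _ r r1 ho g g']⟩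
  zero_mem' := ⟨by simp, fun _ _ r r1 ho g g' => by simp, fun _ _ r r1 ho g g' => by simp,
    fun _ _ r r1 ho g g' => by simp⟩
  smul_mem' c f a := ⟨by simp [a.1], fun _ _ r r1 ho g g' => by
    simp [← mul_sum, a.2.1 _ _ r r1 ho g g'], fun _ _ r r1 ho g g' => by
    simp [← mul_sum, a.2.2.1 _ _ r r1 ho g g'], fun _ _ r r1 ho g g' => by
    simp [← mul_sum, a.2.2.2 _ _ r r1 ho g g']⟩

/-- Right translation in three variables. -/
def R3 (Γ F : Type*) [Group Γ] [Field F] : Γ × Γ × Γ →* Module.End F (Γ → Γ → Γ → F) where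
  toFun g := ⟨⟨fun f a b c => f (a * g.1) (b * g.2.1) (c * g.2.2), fun _ _ => rfl⟩, fun _ _ => rfl⟩
  map_one' := by ext; simp
  map_mul' g h := by ext; simp [mul_assoc]

theorem R3_mem (g : Model.S θ × Model.S θ × Model.S θ) {f} (h : f ∈ tri θ) : R3 _ F g f ∈ tri θ :=
  ⟨fun e a b c => by simpa [R3, mul_assoc] using h.1 e _ _ _,
    fun b c => by simpa [R3] using (h.2.1 _ _).transl 1 g.1,
    fun b c => by simpa [R3] using (h.2.2.1 _ _).transl 1 g.2.1,
    fun b c => by simpa [R3] using (h.2.2.2 _ _).transl 1 g.2.2⟩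

/-- Simultaneous eigenfunctions. -/
def eig3 (h2 : ∀ x, θ (θ x) = x ^ 2) (ι : Model.S θ →* Model.S θ × Model.S θ × Model.S θ)
    (χ : Fˣ →* Fˣ) : Submodule F (Model.S θ → Model.S θ → Model.S θ → F) where
  carrier := {f | (∀ g ∈ Q h2, R3 _ F (ι g) f = f) ∧ ∀ m, R3 _ F (ι (D h2 m)) f = (χ m : F) • f}
  add_mem' a b := ⟨fun g hg => by rw [map_add, a.1 g hg, b.1 g hg],
    fun m => by rw [map_add, a.2, b.2, smul_add]⟩
  zero_mem' := by simp
  smul_mem' c f a := ⟨fun g hg => by rw [map_smul, a.1 g hg],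
    fun m => by rw [map_smul, a.2, smul_comm]⟩

theorem R3_mem_eig3 {ι : Model.S θ →* Model.S θ × Model.S θ × Model.S θ} {g} {f}
    (hc : ∀ x, ι x * g = g * ι x) (h : f ∈ eig3 h2 ι χ) : R3 _ F g f ∈ eig3 h2 ι χ :=
  ⟨fun x hx => by rw [← Module.End.mul_apply, ← map_mul, hc, map_mul, Module.End.mul_apply, h.1 x hx],
    fun m => by rw [← Module.End.mul_apply, ← map_mul, hc, map_mul, Module.End.mul_apply, h.2,
      map_smul]⟩

theorem indep {σ : F →+* F} {d : Fin 4 → F} (h : ∀ g : Model.S θ, ∑ i, σ (ent g i 3) * d i = 0)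
    (h2 : ∀ x, θ (θ x) = x ^ 2) (i : Fin 4) : d i = 0 := by
  have h1 := h 1
  have h3 := h (T θ)
  have h4 := h (U h2 0 1 * T θ)
  have h5 := h (U h2 1 0 * T θ)
  simp [Fin.sum_univ_four, ent_mul, ent_U, ent_T, ent_one] at h1 h3 h4 h5
  simp [h1, h3] at h4 h5
  fin_cases i <;> simp [*]

theorem tri_eq_bot (h2 : ∀ x, θ (θ x) = x ^ 2) (hF : 2 < Fintype.card F) : tri θ = ⊥ := by
  by_contra h0
  let ι₁ : Model.S θ →* Model.S θ × Model.S θ × Model.S θ := MonoidHom.inl _ _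
  let ι₂ : Model.S θ →* Model.S θ × Model.S θ × Model.S θ :=
    (MonoidHom.inr _ _).comp (MonoidHom.inl _ _)
  let ι₃ : Model.S θ →* Model.S θ × Model.S θ × Model.S θ :=
    (MonoidHom.inr _ _).comp (MonoidHom.inr _ _)
  obtain ⟨f₁, a1, a2, a3, χ₁, a4⟩ := eigen h2 ((R3 _ F).comp ι₁) h0 fun g f => R3_mem _
  obtain ⟨f₂, b1, b2, b3, χ₂, b4⟩ := eigen h2 ((R3 _ F).comp ι₂) (X := tri θ ⊓ eig3 h2 ι₁ χ₁)
    ((Submodule.ne_bot_iff _).2 ⟨f₁, ⟨a1, a3, a4⟩, a2⟩) fun g f hf =>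
      ⟨R3_mem _ hf.1, R3_mem_eig3 (by simp [ι₁, ι₂]) hf.2⟩
  obtain ⟨X, ⟨X0, hX, hi⟩, hm⟩ := WellFounded.has_min (wellFounded_lt (α := Submodule F _))
    {X | X ≠ ⊥ ∧ X ≤ tri θ ⊓ eig3 h2 ι₁ χ₁ ⊓ eig3 h2 ι₂ χ₂ ∧ ∀ g, ∀ f ∈ X, R3 _ F (ι₃ g) f ∈ X}
    ⟨tri θ ⊓ eig3 h2 ι₁ χ₁ ⊓ eig3 h2 ι₂ χ₂, (Submodule.ne_bot_iff _).2 ⟨f₂, ⟨b1, b3, b4⟩, b2⟩, le_rfl, fun g f hf =>
      ⟨⟨R3_mem _ hf.1.1, R3_mem_eig3 (by simp [ι₁, ι₃]) hf.1.2⟩,
        R3_mem_eig3 (by simp [ι₂, ι₃]) hf.2⟩⟩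
  obtain ⟨f, c1, c2, c3, χ₃, c4⟩ := eigen h2 ((R3 _ F).comp ι₃) X0 hi
  obtain ⟨⟨⟨inv, n1, n2, n3⟩, e1⟩, e2⟩ := hX c1
  have E1 : ∀ b c, Eig h2 χ₁ fun a => f a b c := fun b c => ⟨n1 b c,
    fun g x y => by simpa [R3, ι₁] using congrFun₃ (e1.1 _ ⟨x, y, rfl⟩) g b c,
    fun g m => by simpa [R3, ι₁] using congrFun₃ (e1.2 m) g b c⟩
  have E2 : ∀ a c, Eig h2 χ₂ fun b => f a b c := fun a c => ⟨n2 a c,
    fun g x y => by simpa [R3, ι₂] using congrFun₃ (e2.1 _ ⟨x, y, rfl⟩) a g c,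
    fun g m => by simpa [R3, ι₂] using congrFun₃ (e2.2 m) a g c⟩
  have E3 : ∀ a b, Eig h2 χ₃ (f a b) := fun a b => ⟨n3 a b,
    fun g x y => by simpa [R3, ι₃] using congrFun₃ (c3 _ ⟨x, y, rfl⟩) a b g,
    fun g m => by simpa [R3, ι₃] using congrFun₃ (c4 m) a b g⟩
  obtain ⟨m₀, m1⟩ : ∃ m : Fˣ, m ≠ 1 := by
    have : Nontrivial Fˣ := Finite.one_lt_card_iff_nontrivial.1 (by
      rw [Nat.card_units, Nat.card_eq_fintype_card]; omega)
    exact exists_ne 1
  have hQ : ∀ x y, ∃ x' y', (U h2 x y)⁻¹ * 1 = 1 * U h2 x' y' := fun x y => by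
    rw [mul_one]; simp only [one_mul]; exact (Q h2).inv_mem ⟨x, y, rfl⟩
  have d1 : ∀ m, (D h2 m)⁻¹ * 1 = 1 * D h2 m⁻¹ := by simp
  have d2 : ∀ m, (D h2 m)⁻¹ * T θ = T θ * D h2 m := fun m => by rw [T_D, map_inv]
  obtain ⟨g₀, hg₀⟩ : ∃ g, f 1 (T θ) g ≠ 0 := by
    by_contra! h
    refine c2 (funext₃ fun a b c => ?_)
    rw [← inv a⁻¹, inv_mul_cancel]
    refine congrFun ((E2 1 _).vanish fun x y => ?_) _
    obtain ⟨x', y', e⟩ := hQ x y
    rw [← inv (U h2 x y)⁻¹, e, (E1 _ _).q, inv_mul_cancel_left, h]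
  obtain ⟨σ₁, s1⟩ := (E1 (T θ) g₀).exists_hom fun e => hg₀ (congrFun e 1)
  obtain ⟨σ₂, s2⟩ := (E2 1 g₀).exists_hom fun e => hg₀ (congrFun e _)
  let Y : Submodule F (Model.S θ → F) :=
    { carrier := {ψ | ∃ Θ : (Model.S θ → Model.S θ → Model.S θ → F) →ₗ[F] Model.S θ → F,
        (∀ g y, Θ (R3 _ F (ι₃ g) y) = R _ F g (Θ y)) ∧ Θ f = ψ}
      add_mem' := by
        rintro _ _ ⟨A, hA, rfl⟩ ⟨B, hB, rfl⟩
        exact ⟨A + B, fun g y => by simp [hA, hB], rfl⟩
      zero_mem' := ⟨0, by simp, rfl⟩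
      smul_mem' := by
        rintro c _ ⟨A, hA, rfl⟩
        exact ⟨c • A, fun g y => by simp [hA], rfl⟩ }
  obtain ⟨_, ⟨Θ, hΘ, rfl⟩, t0, σ₃, s3, t1⟩ := Eig.exists_hw (h2 := h2) (χ := χ₃) (Y := Y) (by
      rintro _ ⟨Θ, hΘ, rfl⟩
      have key : ∀ g x, Θ f (x * g) = Θ (R3 _ F (ι₃ g) f) x := fun g x => by rw [hΘ]; rfl
      refine ⟨fun r r1 ho g g' => ?_, fun g x y => by rw [key]; exact congr(Θ $(c3 _ ⟨x, y, rfl⟩) g),
        fun g m => by rw [key]; simpa using congr(Θ $(c4 m) g)⟩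
      simp only [mul_assoc, key]
      rw [← Finset.sum_apply, ← map_sum, show ∑ i ∈ range (orderOf r), R3 _ F (ι₃ (r ^ i * g')) f = 0 from
        funext₃ fun a b c => by simpa [R3, ι₃, Finset.sum_apply, mul_assoc] using n3 a b r r1 ho c g']
      simp)
    ((Submodule.ne_bot_iff _).2 ⟨f 1 (T θ), ⟨⟨⟨fun y => y 1 (T θ), fun _ _ => rfl⟩, fun _ _ => rfl⟩,
      fun g y => by ext; simp [R3, R, ι₃], rfl⟩, fun e => hg₀ (congrFun e _)⟩) (by
      rintro g _ ⟨Θ, hΘ, rfl⟩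
      exact ⟨(LinearMap.funLeft F F (g * ·)).comp Θ, fun g y => by
        ext; simp [hΘ, R, mul_assoc], rfl⟩)
  obtain ⟨Λ, hΛ⟩ := (Θ.domRestrict X).exists_leftInverse_of_injective (by
    rw [LinearMap.ker_domRestrict, ← Submodule.disjoint_iff_comap_eq_bot]
    by_contra h
    refine hm (X ⊓ LinearMap.ker Θ) ⟨fun e => h (disjoint_iff.2 e), inf_le_left.trans hX,
      fun g y hy => ⟨hi g y hy.1, by
        rw [SetLike.mem_coe, LinearMap.mem_ker, hΘ, show Θ y = 0 from hy.2, map_zero]⟩⟩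
      (lt_of_le_of_ne inf_le_left fun e => t0 ?_)
    rw [show Θ f = 0 from (e.ge c1).2]; rfl)
  obtain ⟨c, hc'⟩ : ∃ c : Fin 4 → F, ∀ g, f 1 (T θ) g = ∑ i, σ₃ (ent g i 3) * c i := by
    refine ⟨fun i => (Λ fun x => σ₃ (ent x 0 i) * Θ f (T θ)).1 1 (T θ) 1, fun g => ?_⟩
    have h1 := congr(($hΛ ⟨_, hi g f c1⟩).1 1 (T θ) 1)
    have h3 : R _ F g (Θ f) = ∑ i, σ₃ (ent g i 3) • fun x => σ₃ (ent x 0 i) * Θ f (T θ) := by
      funext x
      change Θ f (x * g) = _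
      rw [t1, ent_mul, Matrix.mul_apply, map_sum, sum_mul, Finset.sum_apply]
      exact sum_congr rfl fun i _ => by simp; ring
    rw [LinearMap.comp_apply, LinearMap.domRestrict_apply, hΘ, h3] at h1
    simpa [Finset.sum_apply, R3, ι₃] using h1.symm
  obtain ⟨i, hi0⟩ : ∃ i, c i ≠ 0 := by
    by_contra! h
    simp [hc', h] at hg₀
  have w : ∀ m : Fˣ, σ₃ (ent (D h2 m) i i) * σ₂ m = σ₁ m := fun m => by
    have h1 := indep (σ := σ₃) (d := fun i => (σ₃ (ent (D h2 m) i i) * σ₂ m - σ₁ m) * c i)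
      (fun g => ?_) h2 i
    · exact sub_eq_zero.1 ((mul_eq_zero.1 h1).resolve_right hi0)
    have h3 := inv (D h2 m)⁻¹ 1 (T θ) (D h2 m * g)
    rw [d1, d2, (E1 _ _).d, (E2 _ _).d, inv_mul_cancel_left, hc', hc', map_inv,
      Units.val_inv_eq_inv_val, ← eq_inv_of_mul_eq_one_left (s1 m),
      eq_inv_of_mul_eq_one_right (s2 m)] at h3
    simp [Fin.sum_univ_four, ent_mul, ent_D, Matrix.mul_apply] at h3 ⊢
    have : σ₂ m ≠ 0 := by simp
    field_simp at h3 ⊢
    clear * - h3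
    grind
  have w' : σ₃ = σ₁ ∨ σ₃ = σ₂ := by
    have hθ : σ₃ ≠ σ₃.comp θ := fun e => m1 (Units.ext (by
      have e1 : ∀ x, θ x = x := fun x => (σ₃.injective (DFunLike.congr_fun e x)).symm
      have := h2 m₀
      rw [e1, e1, sq] at this
      simpa using this))
    have ext : ∀ {a b c d : F →+* F}, (∀ m : Fˣ, a m * b m = c m * d m) → a = c ∨ a = d :=
      fun h => ringHom_two fun x => (eq_or_ne x 0).elim (fun e => by simp [e])
        fun e => h (Units.mk0 x e)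
    have one : ∀ {a b c : F →+* F}, (∀ m : Fˣ, a m * b m = c m) → a = b := fun {a b c} h => by
      have h : ∀ x, a x * b x = c x := fun x => (eq_or_ne x 0).elim (fun e => by simp [e])
        fun e => h (Units.mk0 x e)
      ext x
      have h1 := h (x + 1)
      have h3 := h x
      simp only [map_add, map_one] at h1
      clear * - hc h1 h3
      grind
    fin_cases i
    · exact Or.inr (one (c := σ₁) fun m => by simpa [ent_D] using w m)
    · exact Or.inr ((ext (b := σ₁) fun m => by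
        have := w m
        simp [ent_D] at this ⊢
        field_simp at this
        rw [← this, mul_comm]).resolve_left hθ)
    · exact Or.inl ((ext (b := σ₂) fun m => by
        have := w m
        simp [ent_D] at this ⊢
        field_simp at this
        rw [this, mul_comm]).resolve_left hθ)
    · exact Or.inl (one (c := σ₂) fun m => by
        have := w m
        simp [ent_D] at this ⊢
        field_simp at this
        rw [this, mul_comm])
  refine hg₀ ?_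
  rcases w' with rfl | rfl
  · refine congrFun ((E3 1 _).vanish fun x y => ?_) _
    obtain ⟨x', y', e⟩ := hQ x y
    rw [← inv (U h2 x y)⁻¹, e, (E1 _ _).q, inv_mul_cancel_left]
    refine congrFun (eq_zero_of_left (h2 := h2) (n2 1 (T θ)) m1 fun g => ?_) _
    rw [← inv (D h2 m₀)⁻¹, d1, d2, (E1 _ _).d, (E3 _ _).d, inv_mul_cancel_left,
      ← mul_left_cancel₀ (by simp) ((s1 m₀).trans (s3 m₀).symm)]
    simp
  · rw [← inv (T θ)⁻¹, inv_mul_cancel]
    refine congrFun ((E3 _ 1).vanish fun x y => ?_) _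
    obtain ⟨x', y', e⟩ := hQ x y
    rw [← inv (U h2 x y)⁻¹, e, (E2 _ _).q, inv_mul_cancel_left]
    refine congrFun (eq_zero_of_left (h2 := h2) (n1 1 (T θ)) m1 fun g => ?_) _
    rw [← inv (D h2 m₀)⁻¹, d1, d2, (E2 _ _).d, (E3 _ _).d, inv_mul_cancel_left,
      ← mul_left_cancel₀ (by simp) ((s2 m₀).trans (s3 m₀).symm)]
    simp

theorem sum_D [DecidableEq F] {A : Type*} [AddCommMonoid A] {f : Model.S θ → A} (h : Ann f)
    (hF : 2 < Fintype.card F) (g g' : Model.S θ) : ∑ m : Fˣ, f (g * D h2 m * g') = 0 := by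
  classical
  obtain ⟨m, hm⟩ := IsCyclic.exists_generator (α := Fˣ)
  have h1 := orderOf_eq_card_of_forall_mem_zpowers hm
  have h3 := h (D h2 m) (fun e => by
    rw [(map_eq_one_iff _ D_inj).1 e, orderOf_one, Nat.card_units, Nat.card_eq_fintype_card] at h1
    omega) (by rw [orderOf_injective _ D_inj, h1]; exact odd_units) g g'
  rw [orderOf_injective _ D_inj] at h3
  rw [← IsCyclic.image_range_orderOf hm, sum_image fun i hi j hj e =>
    pow_injOn_Iio_orderOf (by simpa using hi) (by simpa using hj) e]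
  simpa only [map_pow] using h3

theorem abel (h2 : ∀ x, θ (θ x) = x ^ 2) (hF : 2 < Fintype.card F) {A : Type*} [AddCommGroup A]
    {φ : Model.S θ → A} (h : Ann φ) (W : AddSubgroup A) (hW : ∀ g, 2 • φ g ∈ W) (l : W →+ F)
    (g : Model.S θ) : l ⟨_, hW g⟩ = 0 := by
  classical
  let ι : Fˣ → Fˣ := fun a => a⁻¹
  have hS : ∀ a ∈ univ.erase (1 : Fˣ), ι a ∈ univ.erase (1 : Fˣ) ∧ ι a ≠ a := fun a ha => by
    have a1 : a ≠ 1 := by simpa using ha
    refine ⟨by simpa [ι] using a1, fun e => a1 (Units.ext ?_)⟩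
    have : (a : F) * a = 1 := by rw [← Units.val_mul]; nth_rw 1 [← e]; simp [ι]
    exact CharTwo.sq_injective (by simpa [sq] using this)
  have hne : ∀ a : Fˣ, a ≠ 1 → (a : F) + 1 ≠ 0 := fun a a1 e =>
    a1 (Units.ext (CharTwo.add_eq_zero.1 e))
  let c : Fˣ → Fˣ := fun a => if e : a = 1 then 1 else Units.mk0 ((a : F) + 1) (hne a e) ^ 2 / a
  have hc' : ∀ a, a ≠ 1 → (c a : F) = a + (a : F)⁻¹ := fun a a1 => by
    simp [c, a1, CharTwo.add_sq]; field_simp
  let e : Fˣ → ℕ := fun a => Fintype.equivFin Fˣ a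
  have he : Function.Injective e := Fin.val_injective.comp (Fintype.equivFin Fˣ).injective
  set P := (univ.erase (1 : Fˣ)).filter fun a => e a < e (ι a)
  have hP : ∀ a ∈ P, a ≠ 1 := fun a ha => by simpa using (mem_filter.1 ha).1
  have key : ∀ g g', ∑ j : Fˣ, ∑ a ∈ P, 2 • φ (g * (D h2 j * U h2 0 1 * D h2 (j * c a)) * g') = 0 := by
    intro g g'
    have h1 := sum_pairs e he ι inv_inv _ hS fun a =>
      ∑ j : Fˣ, φ (g * (D h2 j * U h2 0 1 * D h2 (j * c a)) * g')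
    rw [sum_comm]
    refine Eq.trans (sum_congr rfl fun a ha => ?_) (h1.symm.trans ?_)
    · rw [← smul_sum, two_smul, show c (ι a) = c a from Units.ext (by
        rw [hc' a (hP a ha), hc' _ (by simpa [ι] using hP a ha)]; simp [ι, add_comm])]
    have h3 : ∀ a ∈ univ.erase (1 : Fˣ), ∑ j : Fˣ, φ (g * (D h2 j * U h2 0 1 * D h2 (j * c a)) * g') =
        ∑ j : Fˣ, φ (g * D h2 j * U h2 0 1 * D h2 a * (U h2 0 1 * D h2 j * g')) := fun a ha => by
      have a1 : a ≠ 1 := by simpa using ha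
      set k := a / Units.mk0 ((a : F) + 1) (hne a a1)
      have h4 : U h2 0 1 * D h2 a * U h2 0 1 = D h2 k * U h2 0 1 * D h2 (k⁻¹ * a) := by
        rw [mul_assoc, D_U, ← mul_assoc, U_mul, D_U, mul_assoc, ← map_mul, mul_inv_cancel_left]
        have : θ a ≠ 0 := by simp
        congr 2 <;> simp [k]
        field_simp
      refine (Fintype.sum_equiv (Equiv.mulRight k) _ _ fun j => ?_).symm
      rw [show g * D h2 j * U h2 0 1 * D h2 a * (U h2 0 1 * D h2 j * g') =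
        g * (D h2 j * (U h2 0 1 * D h2 a * U h2 0 1) * D h2 j) * g' by group, h4,
        Equiv.coe_mulRight, show j * k * c a = k⁻¹ * a * j by
          simp only [c, k, dif_neg a1]; rw [mul_comm _ j, mul_assoc]; congr 1; ext; simp; field_simp]
      simp only [map_mul, mul_assoc]
    rw [sum_congr rfl h3, sum_comm]
    simp only [sum_erase_eq_sub (mem_univ _), sum_D h hF, map_one, mul_one, zero_sub, sum_neg_distrib,
      neg_eq_zero]
    rw [← sum_D (h2 := h2) h hF g g']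
    refine Fintype.sum_bijective (· ^ 2) (Finite.injective_iff_bijective.1 fun a b e =>
      Units.ext (CharTwo.sq_injective (by simpa using congrArg Units.val e))) _ _ fun j => ?_
    rw [sq, map_mul, mul_assoc (g * _), ← mul_assoc (U h2 0 1), ← mul_assoc (U h2 0 1), U_mul]
    simp [CharTwo.add_self_eq_zero, U_zero, mul_assoc]
  let Y : Submodule F (Model.S θ → F) :=
    { carrier := {f | Ann f ∧ ∀ g g',
        ∑ j : Fˣ, ∑ a ∈ P, f (g * (D h2 j * U h2 0 1 * D h2 (j * c a)) * g') = 0}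
      add_mem' := fun a b => ⟨fun r r1 ho g g' => by
        simp [sum_add_distrib, a.1 r r1 ho g g', b.1 r r1 ho g g'], fun g g' => by
        simp only [Pi.add_apply, sum_add_distrib, a.2, b.2, add_zero]⟩
      zero_mem' := ⟨fun r r1 ho g g' => by simp, by simp⟩
      smul_mem' := fun c f a => ⟨fun r r1 ho g g' => by simp [← mul_sum, a.1 r r1 ho g g'],
        fun g g' => by simp only [Pi.smul_apply, ← smul_sum, a.2, smul_zero]⟩ }
  by_contra h0
  obtain ⟨f, f1, f2, f3, χ, f4⟩ := eigen h2 (R _ F) (X := Y) ((Submodule.ne_bot_iff _).2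
    ⟨fun g => l ⟨_, hW g⟩, ⟨fun r r1 ho g g' => by
      rw [← map_sum, ← map_zero l]
      congr 1
      ext
      simp [← smul_sum, h r r1 ho g g'], fun g g' => by
      simp only [← map_sum]
      rw [← map_zero l]
      congr 1
      ext
      simpa using key g g'⟩, fun e => h0 (congrFun e g)⟩) fun g f hf =>
      ⟨by have := hf.1.transl 1 g; simp only [one_mul] at this; exact this, fun a b => by simpa [R, mul_assoc] using hf.2 a (b * g)⟩
  obtain ⟨f, ⟨-, f5⟩, t0, σ, -, t1⟩ := Eig.exists_hw (h2 := h2) (χ := χ) (Y := eigSub h2 χ ⊓ Y)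
    (fun f hf => hf.1) ((Submodule.ne_bot_iff _).2 ⟨f, ⟨⟨f1.1,
      fun g x y => congrFun (f3 _ ⟨x, y, rfl⟩) g, fun g m => congrFun (f4 m) g⟩, f1⟩, f2⟩)
    fun g f hf => ⟨Eig.left hf.1 g, by simpa using hf.2.1.transl g 1, fun a b => by
      simpa [mul_assoc] using hf.2.2 (g * a) b⟩
  have h1 := f5.2 (T θ) (T θ)
  have h3 : ∀ j : Fˣ, ∑ a ∈ P, f (T θ * (D h2 j * U h2 0 1 * D h2 (j * c a)) * T θ) = f (T θ) := by
    intro j
    have h4 : ∑ a ∈ P, (c a : F) = 1 := by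
      have h5 := sum_pairs e he ι inv_inv _ hS fun a : Fˣ => (a : F)
      have h6 := FiniteField.sum_pow_units F 1
      rw [if_neg fun e => by have := Nat.le_of_dvd one_pos e; omega] at h6
      simp only [pow_one] at h6
      rw [sum_erase_eq_sub (mem_univ _), h6, zero_sub, CharTwo.neg_eq, Units.val_one] at h5
      rw [h5]
      exact sum_congr rfl fun a ha => by simp [hc' a (hP a ha), ι]
    rw [sum_congr rfl fun a _ => show _ = σ (c a) * f (T θ) by
      rw [t1]; simp [ent_mul, ent_U, ent_D, ent_T], ← sum_mul, ← map_sum, h4, map_one, one_mul]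
  obtain ⟨k, hk⟩ := odd_units (F := F)
  simp only [h3, sum_const, card_univ, ← Nat.card_eq_fintype_card, hk] at h1
  simp [CharTwo.two_eq_zero, t0] at h1

end Mart

end Cfsg.Agent.P4
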