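/-
P4: Martineau's theorem: a `2`-group on which a Suzuki group acts with the elements of odd order
fixed-point-free is elementary abelian.
-/
import Cfsg.Agent.P4.Mart
import Cfsg.Agent.P4.Glob

set_option autoImplicit false
set_option linter.unusedSectionVars false

namespace Cfsg.Agent.P4

open Subgroup Cfsg Cfsg.Agent Cfsg.Agent.FT Cfsg.Agent.L Cfsg.Agent.P2
open scoped commutatorElement

universe u

variable {G : Type u} [Group G] [Finite G]

theorem CIT.sum_conj (h : CIT G) {D : Subgroup G} [hn : D.Normal] (hD : IsPGroup 2 D) {A : Type*}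
    [AddCommGroup A] {l : G → A} (hl : ∀ a ∈ D, ∀ b ∈ D, l (a * b) = l a + l b) {a : G}
    (ha : a ∈ D) : Ann fun g => l (g * a * g⁻¹) := fun r r1 ho g g' => by
  obtain ⟨d, hd, e⟩ := fpf_surj (D := D) (x := r) (normal_iff_top_le.1 hn trivial)
    (fun d hd hc => h.fpf hD ho r1 hd hc) (hn.conj_mem a ha g')
  have h1 := Finset.sum_range_sub (fun i => l (g * r ^ i * d * (g * r ^ i)⁻¹)) (orderOf r)
  rw [pow_orderOf_eq_one, pow_zero, sub_self] at h1
  rw [← h1]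
  refine Finset.sum_congr rfl fun i _ => eq_sub_of_add_eq' ?_
  rw [← hl _ (hn.conj_mem d hd _) _ (hn.conj_mem a ha _)]
  congr 1
  calc _ = g * r ^ i * (d * (g' * a * g'⁻¹)) * (g * r ^ i)⁻¹ := by group
    _ = _ := by rw [← e]; group

theorem Ann.descend {K A : Type*} [Group K] [AddCommMonoid A] {p : G →* K}
    (hp : Function.Surjective p) (hk : IsPGroup 2 p.ker) {φ : G → A} (h : Ann φ)
    (hφ : ∀ n ∈ p.ker, ∀ g, φ (n * g) = φ g) : Ann fun x => φ (Function.surjInv hp x) := by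
  intro r r1 ho g g'
  obtain ⟨r, rfl, e⟩ := exists_lift hp hk ho
  rw [← h r (fun e => r1 (by simp [e])) (e ▸ ho) (Function.surjInv hp g) (Function.surjInv hp g'), e]
  refine Finset.sum_congr rfl fun i _ => ?_
  rw [← hφ (_ * _⁻¹) _ (Function.surjInv hp g * r ^ i * Function.surjInv hp g'), inv_mul_cancel_right]
  simp [MonoidHom.mem_ker, Function.surjInv_eq]

theorem exists_relIndex_two {P D : Subgroup G} (hP : IsPGroup 2 P) (h : D < P) :
    ∃ B : Subgroup G, D ≤ B ∧ B ≤ P ∧ B.relIndex P = 2 := by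
  obtain ⟨k, hk⟩ := exists_card_eq_pow Nat.prime_two hP
  obtain ⟨n, hn⟩ := exists_card_eq_pow Nat.prime_two (hP.to_le h.le)
  have h1 : n < k := (Nat.pow_lt_pow_iff_right one_lt_two).1 (hk ▸ hn ▸ card_lt_of_lt h)
  obtain ⟨k, rfl⟩ : ∃ j, k = j + 1 := ⟨k - 1, by omega⟩
  obtain ⟨K, h2, h3⟩ := Sylow.exists_subgroup_card_pow_prime_le 2 (m := k) (G := P)
    (hk ▸ pow_dvd_pow 2 k.le_succ) (D.subgroupOf P)
    ((Nat.card_congr (subgroupOfEquivOfLe h.le).toEquiv).trans hn) (by omega)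
  refine ⟨K.map P.subtype, (map_subgroupOf_eq_of_le h.le).ge.trans (map_mono h3),
    map_subtype_le K, ?_⟩
  have h4 := K.card_mul_index
  rw [h2, hk, pow_succ] at h4
  rw [relIndex, subgroupOf, comap_map_eq_self_of_injective P.subtype_injective]
  exact Nat.eq_of_mul_eq_mul_left (by positivity) h4

variable {F : Type*} [Field F] [Fintype F] [CharP F 2] {θ : F ≃+* F} {p : G →* Model.S θ}

theorem CIT.comm_of_sz (h : CIT G) (h2 : ∀ x, θ (θ x) = x ^ 2) (hF : 2 < Fintype.card F)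
    (hp : Function.Surjective p) (hk : IsPGroup 2 p.ker) : ⁅p.ker, p.ker⁆ = ⊥ := by
  classical
  by_contra h0
  set N := p.ker
  have hN : IsPGroup 2 (⁅N, N⁆ : Subgroup G) := hk.to_le (commutator_le_right N N)
  have := hk.isNilpotent
  obtain ⟨B, h3, h4, h5⟩ := exists_relIndex_two hN (commutator_lt_of_isNilpotent
    (commutator_le_right N N) (le_top.trans (normal_iff_top_le.1 inferInstance)) h0)
  let l : G → F := fun x => if x ∈ B then 0 else 1
  have add : ∀ a ∈ ⁅N, N⁆, ∀ b ∈ ⁅N, N⁆, l (a * b) = l a + l b := fun a ha b hb => by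
    have := mul_mem_iff_of_index_two h5 (a := ⟨a, ha⟩) (b := ⟨b, hb⟩)
    simp only [mem_subgroupOf, coe_mul] at this
    by_cases e : a ∈ B <;> by_cases e' : b ∈ B <;> simp [l, this, e, e', CharTwo.add_self_eq_zero]
  have inv : ∀ g : G, ∀ n ∈ N, ∀ a ∈ ⁅N, N⁆, l (g * (n * a * n⁻¹) * g⁻¹) = l (g * a * g⁻¹) := by
    intro g n hn a ha
    have h6 : g * a * g⁻¹ ∈ ⁅N, N⁆ := Normal.conj_mem inferInstance a ha g
    have h7 := commutator_mem_commutator h6 (Normal.conj_mem inferInstance n hn g)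
    rw [show g * a * g⁻¹ = ⁅g * a * g⁻¹, g * n * g⁻¹⁆ * (g * (n * a * n⁻¹) * g⁻¹) by group,
      add _ (h4 (h3 h7)) _ (Normal.conj_mem inferInstance _ (Normal.conj_mem inferInstance a ha n) g),
      show l ⁅_, _⁆ = 0 from if_pos (h3 h7), zero_add]
  have add' : ∀ g : G, ∀ a ∈ ⁅N, N⁆, ∀ b ∈ ⁅N, N⁆,
      l (g * (a * b) * g⁻¹) = l (g * a * g⁻¹) + l (g * b * g⁻¹) := fun g a ha b hb => by
    rw [← conj_mul, add _ (Normal.conj_mem inferInstance a ha g) _
      (Normal.conj_mem inferInstance b hb g)]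
  have add₁ : ∀ g : G, ∀ c ∈ N, ∀ a ∈ N, ∀ b ∈ N,
      l (g * ⁅a * b, c⁆ * g⁻¹) = l (g * ⁅a, c⁆ * g⁻¹) + l (g * ⁅b, c⁆ * g⁻¹) := by
    intro g c hc a ha b hb
    rw [comm_mul_left, add' _ _ (Normal.conj_mem inferInstance _ (commutator_mem_commutator hb hc) a)
      _ (commutator_mem_commutator ha hc), inv _ _ ha _ (commutator_mem_commutator hb hc), add_comm]
  have add₂ : ∀ g : G, ∀ c ∈ N, ∀ a ∈ N, ∀ b ∈ N,
      l (g * ⁅c, a * b⁆ * g⁻¹) = l (g * ⁅c, a⁆ * g⁻¹) + l (g * ⁅c, b⁆ * g⁻¹) := by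
    intro g c hc a ha b hb
    rw [comm_mul_right, add' _ _ (commutator_mem_commutator hc ha) _
      (Normal.conj_mem inferInstance _ (commutator_mem_commutator hc hb) a),
      inv _ _ ha _ (commutator_mem_commutator hc hb)]
  have cj : ∀ {m : G → F}, (∀ a ∈ N, ∀ b ∈ N, m (a * b) = m a + m b) → ∀ a ∈ N, ∀ n ∈ N, ∀ g : G,
      m (n * g * a * (n * g)⁻¹) = m (g * a * g⁻¹) := fun {m} hm a ha n hn g => by
    have h6 : g * a * g⁻¹ ∈ N := Normal.conj_mem inferInstance a ha g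
    have h7 := hm _ (Normal.conj_mem inferInstance a ha (n * g)) n hn
    rw [show n * g * a * (n * g)⁻¹ * n = n * (g * a * g⁻¹) by group, hm _ hn _ h6, add_comm] at h7
    exact (add_right_cancel h7).symm
  obtain ⟨a, ha, b, hb, hab⟩ : ∃ a ∈ N, ∃ b ∈ N, ⁅a, b⁆ ∉ B := by
    by_contra! e
    rw [relIndex_eq_one.2 (commutator_le.2 e)] at h5
    omega
  let s := Function.surjInv hp
  have hs : ∀ x y, ∃ n ∈ N, s (x * y) = n * (s x * s y) := fun x y =>
    ⟨s (x * y) * (s x * s y)⁻¹, by simp [N, s, MonoidHom.mem_ker, Function.surjInv_eq], by group⟩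
  let φ : G → G → G → F := fun x y z => l (z⁻¹ * ⁅x * a * x⁻¹, y * b * y⁻¹⁆ * z⁻¹⁻¹)
  have c1 : ∀ y z, ∀ n ∈ N, ∀ x, φ (n * x) y z = φ x y z := fun y z =>
    cj (m := fun u => l (z⁻¹ * ⁅u, y * b * y⁻¹⁆ * z⁻¹⁻¹)) (add₁ z⁻¹ _ (Normal.conj_mem inferInstance b hb y)) a ha
  have c2 : ∀ x z, ∀ n ∈ N, ∀ y, φ x (n * y) z = φ x y z := fun x z =>
    cj (m := fun u => l (z⁻¹ * ⁅x * a * x⁻¹, u⁆ * z⁻¹⁻¹)) (add₂ z⁻¹ _ (Normal.conj_mem inferInstance a ha x)) b hb
  have cm : ∀ x y : G, ⁅x * a * x⁻¹, y * b * y⁻¹⁆ ∈ ⁅N, N⁆ := fun x y => commutator_mem_commutator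
    (Normal.conj_mem inferInstance a ha x) (Normal.conj_mem inferInstance b hb y)
  have c3 : ∀ x y, ∀ n ∈ N, ∀ z, φ x y (n * z) = φ x y z := fun x y n hn z =>
    Eq.trans (congrArg l (by group)) (inv z⁻¹ n⁻¹ (inv_mem hn) _ (cm x y))
  have key : (fun x y z => φ (s x) (s y) (s z)) ∈ Mart.tri θ := by
    refine ⟨fun g x y z => ?_, fun y z => Ann.descend hp hk (h.sum_conj hk
      (l := fun u => l ((s z)⁻¹ * ⁅u, s y * b * (s y)⁻¹⁆ * (s z)⁻¹⁻¹)) (add₁ (s z)⁻¹ _ (Normal.conj_mem inferInstance b hb (s y))) ha) (c1 _ _),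
      fun x z => Ann.descend hp hk (h.sum_conj hk
      (l := fun u => l ((s z)⁻¹ * ⁅s x * a * (s x)⁻¹, u⁆ * (s z)⁻¹⁻¹)) (add₂ (s z)⁻¹ _ (Normal.conj_mem inferInstance a ha (s x))) hb) (c2 _ _),
      fun x y => Ann.descend hp hk (fun r r1 ho g g' => ?_) (c3 _ _)⟩
    · obtain ⟨n₁, h1, e1⟩ := hs g x
      obtain ⟨n₂, h2, e2⟩ := hs g y
      obtain ⟨n₃, h3, e3⟩ := hs g z
      simp only [e1, e2, e3, c1 _ _ _ h1, c2 _ _ _ h2, c3 _ _ _ h3]
      exact congrArg l (by group)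
    · have := h.sum_conj hN add (cm (s x) (s y)) r⁻¹ (by simpa) (by simpa) g'⁻¹ g⁻¹
      rw [orderOf_inv] at this
      rw [← this]
      exact Finset.sum_congr rfl fun i _ => congrArg l (by group)
  rw [Mart.tri_eq_bot h2 hF, Submodule.mem_bot] at key
  have h6 := congrFun₃ key 1 1 1
  have h7 : s 1 ∈ N := Function.surjInv_eq hp 1
  rw [← mul_one (s 1), c1 _ _ _ h7, c2 _ _ _ h7, c3 _ _ _ h7] at h6
  simp [φ, l, hab] at h6

theorem CIT.elem_of_sz (h : CIT G) (h2 : ∀ x, θ (θ x) = x ^ 2) (hF : 2 < Fintype.card F)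
    (hp : Function.Surjective p) (hk : IsPGroup 2 p.ker) : Elem p.ker := by
  classical
  set N := p.ker
  have hc : N ≤ 𝐂(N) := commutator_eq_bot_iff_le_centralizer.1 (h.comm_of_sz h2 hF hp hk)
  let _ : CommGroup N := ⟨fun a b => Subtype.ext (mem_cent.1 (hc b.2) a a.2)⟩
  by_contra h0
  obtain ⟨a, ha, a2, a4⟩ : ∃ a ∈ N, a * a ≠ 1 ∧ a * a * (a * a) = 1 := by
    obtain ⟨b, hb, b2⟩ : ∃ b ∈ N, b * b ≠ 1 := by simpa [Elem] using h0
    have : ∃ k, b ^ 2 ^ (k + 2) = 1 := by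
      obtain ⟨k, hk⟩ := hk ⟨b, hb⟩
      exact ⟨k, by rw [pow_add, pow_mul, show b ^ 2 ^ k = 1 from congrArg Subtype.val hk, one_pow]⟩
    refine ⟨b ^ 2 ^ Nat.find this, pow_mem hb _, ?_, by
      refine Eq.trans ?_ (Nat.find_spec this)
      rw [pow_add, pow_mul]; simp only [pow_succ, pow_zero]; group⟩
    rcases e : Nat.find this with _ | k
    · simpa using b2
    · rw [← pow_add, ← two_mul, ← pow_succ']
      exact Nat.find_min this (by omega)
  let l : G → Additive N := fun x => if e : x ∈ N then Additive.ofMul ⟨x, e⟩ else 0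
  have hl : ∀ x : N, l x = Additive.ofMul x := fun x => dif_pos x.2
  let W : AddSubgroup (Additive N) := (nsmulAddMonoidHom 2).ker
  let _ : Module (ZMod 2) W := AddCommGroup.zmodModule fun x => Subtype.ext x.2
  let _ : Algebra (ZMod 2) F := ZMod.algebra F 2
  have hW : ∀ g : G, 2 • l (g * a * g⁻¹) ∈ W := fun g => by
    rw [hl ⟨_, Normal.conj_mem inferInstance a ha g⟩]
    change Additive.ofMul (((_ : N) ^ 2) ^ 2) = Additive.ofMul 1
    congr 1
    ext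
    simp [sq, a4]
  obtain ⟨ψ, hψ⟩ : ∃ ψ : Module.Dual (ZMod 2) W, ψ ⟨_, hW 1⟩ ≠ 0 := by
    by_contra! e
    have := congrArg Subtype.val ((Module.forall_dual_apply_eq_zero_iff _ _).1 e)
    simp only [hl ⟨_, Normal.conj_mem inferInstance a ha 1⟩] at this
    exact a2 (by simpa [sq] using congrArg Subtype.val (show (_ : N) ^ 2 = 1 from this))
  have c1 : ∀ n ∈ N, ∀ g, l (n * g * a * (n * g)⁻¹) = l (g * a * g⁻¹) := fun n hn g => by
    rw [show n * g * a * (n * g)⁻¹ = n * (g * a * g⁻¹) * n⁻¹ by group,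
      mem_cent.1 (hc (Normal.conj_mem inferInstance a ha g)) n hn, mul_inv_cancel_right]
  have := Mart.abel h2 hF (Ann.descend hp hk (h.sum_conj hk (l := l) (fun a ha b hb => by
    rw [hl ⟨_, mul_mem ha hb⟩, hl ⟨a, ha⟩, hl ⟨b, hb⟩]; rfl) ha) c1) W (fun g => hW _)
    ((algebraMap (ZMod 2) F).toAddMonoidHom.comp ψ.toAddMonoidHom) 1
  refine hψ ((algebraMap (ZMod 2) F).injective (Eq.trans ?_ (this.trans (map_zero _).symm)))
  refine congrArg (fun x => algebraMap (ZMod 2) F (ψ x)) (Subtype.ext ?_)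
  simpa using congrArg (2 • ·) (c1 _ (Function.surjInv_eq hp 1) 1).symm

end Cfsg.Agent.P4
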