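/-
P4: the structure of nonsolvable CIT-groups and CN-groups.
-/
import Cfsg.Agent.P4.Mart2
import Cfsg.Agent.P4.Amal2
import Cfsg.Agent.H5.Part1
import Cfsg.Agent.H8.PComplement

set_option autoImplicit false
set_option linter.unusedSectionVars false

namespace Cfsg.Agent.P4

open Subgroup Cfsg Cfsg.Agent Cfsg.Agent.FT Cfsg.Agent.L Cfsg.Agent.P2
open scoped commutatorElement

universe u

variable {G : Type u} [Group G] [Finite G]

/-- Nonsolvable CN-groups are CIT-groups. -/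
theorem cit_of_cn (hns : ¬ Group.IsSolvable G) (hCN : ∀ x : G, x ≠ 1 → Group.IsNilpotent 𝐂[x]) :
    CIT G := by
  intro t x tt xo hc
  by_contra! h0
  obtain ⟨S, hS, htS⟩ := exists_isSyl_ge Nat.prime_two (isPGroup_zpowers_of_sq tt) le_top
  obtain ⟨z, hz, zc, z1, zz⟩ := exists_invol_center hS.pgrp ⟨le_rfl, le_normalizer⟩
    fun e => h0.1 (mem_bot.1 (e ▸ htS (mem_zpowers t)))
  have cm : ∀ {y a b : G}, y ≠ 1 → Commute y a → Commute y b → (∃ k, orderOf a = 2 ^ k) →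
      Odd (orderOf b) → Commute a b := fun {y a b} y1 ha hb ⟨k, hk⟩ ho =>
    H5.commute_of_coprime_of_isNilpotent (hCN y y1) (mem_cent1.2 ha) (mem_cent1.2 hb)
      (hk ▸ (Nat.coprime_two_left.2 ho).pow_left k)
  have z2 : ∃ k, orderOf z = 2 ^ k := ⟨1, orderOf_two z1 zz⟩
  have two : ∀ {o u : G}, o ≠ 1 → Odd (orderOf o) → Commute z o → Commute o u →
      (∃ k, orderOf u = 2 ^ k) → Commute z u := fun {o u} o1 ho h1 h2 ⟨k, hk⟩ => by
    have h3 : IsSyl 2 S 𝐂[o] := hS.of_le (fun s hs => mem_cent1.2 (cm z1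
      (mem_cent.1 zc s hs).symm h1 (H8.exists_orderOf_eq_pow_of_mem hS.pgrp hs) ho).symm) le_top
    exact (mem_cent.1 zc u (h3.le_of_normal Nat.prime_two (le_normalizer.trans
      (h3.norm_le_of_isNilpotent Nat.prime_two (hCN o o1))) (IsPGroup.of_card
      ((Nat.card_zpowers u).trans hk)) (zpowers_le_of_mem (mem_cent1.2 h2)) (mem_zpowers u))).symm
  have hx : Commute z x := cm h0.1 (mem_cent.1 zc t (htS (mem_zpowers t))) hc z2 xo
  have cent : ∀ y ∈ 𝐂[z], y ≠ 1 → 𝐂[y] ≤ 𝐂[z] := fun y hy y1 g hg => by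
    obtain ⟨a, b, ⟨i, rfl⟩, ⟨j, rfl⟩, e, -, ha, hb⟩ := H8.exists_pPart_pPrimePart Nat.prime_two g
    obtain ⟨c, d, ⟨k, rfl⟩, ⟨l, rfl⟩, e', -, hc, hd⟩ := H8.exists_pPart_pPrimePart Nat.prime_two y
    have h1 : Commute y g := mem_cent1.1 hg
    have h2 : Commute z y := mem_cent1.1 hy
    rw [Nat.coprime_two_right] at hb hd
    rw [e]
    refine mul_mem (mem_cent1.2 ?_) (mem_cent1.2 (cm y1 h2.symm (h1.zpow_right j) z2 hb))
    by_cases d1 : y ^ l = 1
    · simp only [d1, mul_one] at e'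
      exact two h0.2 xo hx (cm y1 (h1.zpow_right i) (cm z1 h2 hx (e' ▸ hc) xo) ha xo).symm ha
    · exact two d1 hd (h2.zpow_right l) (h1.zpow_zpow l i) ha
  have hz' : z ∈ 𝐂[z] := mem_cent1.2 rfl
  have hC : H9.CTI 𝐂[z] := ⟨cent, fun y hy y1 g hg => by
    have h1 := cent _ hg (conj_ne_one y1 g) (show g * z * g⁻¹ ∈ _ by
      rw [cent1_conj, conj_mem_conj_iff]; exact mem_cent1.2 (mem_cent1.1 hy).symm)
    exact mem_norm_of_conj_le (cent1_conj z g ▸ cent _ h1 (conj_ne_one z1 g)),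
    even_iff_two_dvd.2 (orderOf_two z1 zz ▸ orderOf_dvd_natCard _ hz')⟩
  have hs : Group.IsSolvable 𝐂[z] := have := hCN z z1; inferInstance
  obtain ⟨s, s1, ss, hc', hne⟩ : ∃ s, s ≠ 1 ∧ s * s = 1 ∧ Commute z s ∧ s ≠ z := by
    by_contra! h0
    exact hns (solvable_of_uniq z1 zz h0 hs)
  obtain ⟨H, w, hw, -⟩ := hC.exists_ZT (fun e => hns (isSolvable_of_normal_of_quotient _ hs
    (feit_thompson _ (odd_iff_not_dvd.2 fun e => hS.ndvd (relIndex_top_right S ▸ e.trans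
      (index_dvd_of_le fun s hs => mem_cent1.2 (mem_cent.1 zc s hs).symm))))))
    hz' z1 zz (mem_cent1.2 hc') s1 ss hne.symm
  exact h0.2 (eq_one_of_odd_of_mem hw.isPGroup xo (mem_cent1.2 hx))

theorem ZT.map {K : Type u} [Group K] [Finite K] {Q H : Subgroup G} {t : G} (h : ZT Q H t)
    (e : G ≃* K) : ZT (Q.map e.toMonoidHom) (H.map e.toMonoidHom) (e t) where
  frob := h.frob.map e.injective
  even := by rw [card_map_inj e.injective]; exact h.even
  tt := by rw [← map_mul, h.tt, map_one]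
  tH := le_normalizer_map _ ⟨t, h.tH, rfl⟩
  bruhat x := by
    obtain ⟨x, rfl⟩ := e.surjective x
    rw [← Subgroup.map_sup]
    rcases h.bruhat x with e | ⟨a, ha, b, hb, rfl⟩
    · exact Or.inl ⟨x, e, rfl⟩
    · exact Or.inr ⟨_, ⟨a, ha, rfl⟩, _, ⟨b, hb, rfl⟩, by simp⟩
  inter x hx h1 := by
    rw [← Subgroup.map_sup] at hx h1
    obtain ⟨x, hx, rfl⟩ := hx
    obtain ⟨y, hy, h1⟩ := h1
    exact ⟨x, h.inter x hx (e.injective (show e y = e (t * x * t) by simpa using h1) ▸ hy), rfl⟩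

theorem CIT.cases (h : CIT G) (hns : ¬ Group.IsSolvable G) :
    (pCore 2 G = ⊥ ∧ ∃ (M₁ M₂ V₁ V₂ T : Subgroup G) (q : ℕ), Amal M₁ M₂ V₁ V₂ T q) ∨
      ∃ (Q H : Subgroup (G ⧸ pCore 2 G)) (t : G ⧸ pCore 2 G), ZT Q H t := by
  by_cases h0 : pCore 2 G = ⊥
  · refine (h.glob h0 hns).symm.imp (fun a => ⟨h0, a⟩) fun ⟨Q, H, t, hz⟩ => ⟨_, _, _, ZT.map hz
      ((QuotientGroup.quotientMulEquivOfEq h0).trans QuotientGroup.quotientBot).symm⟩
  · refine Or.inr (((h.quot _ (isPGroup_pCore 2)).glob (pCore_quotient_pCore Nat.prime_two)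
      fun e => hns (isSolvable_of_normal_of_quotient _ (solvable_of_two (isPGroup_pCore 2))
        e)).resolve_right fun ⟨_, _, _, _, _, _, a⟩ => ?_)
    exact h.no_amal (QuotientGroup.mk'_surjective _)
      (by rw [QuotientGroup.ker_mk']; exact isPGroup_pCore 2) (by rwa [QuotientGroup.ker_mk'])
      (pCore_quotient_pCore Nat.prime_two) a

theorem CIT.elem_of_zt (h : CIT G) {Q H : Subgroup (G ⧸ pCore 2 G)} {t : G ⧸ pCore 2 G}
    (hz : ZT Q H t) : Elem (pCore 2 G) := by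
  have hk : IsPGroup 2 (QuotientGroup.mk' (pCore 2 G)).ker := by
    rw [QuotientGroup.ker_mk']; exact isPGroup_pCore 2
  rcases hz.main with ⟨n, -, h1, h2, -⟩ | ⟨m, hm, -, -, ⟨e⟩⟩
  · by_contra h0
    have := hz.simple
    obtain ⟨x, x3⟩ := exists_prime_orderOf_dvd_card' (G := G ⧸ pCore 2 G) 3 (hp := ⟨Nat.prime_three⟩)
      (by
        rw [hz.card_G, mul_assoc, h1, h2]
        refine (three_dvd (q := 2 ^ n) ?_ ⟨n, rfl⟩).mul_left _
        obtain ⟨k, hk⟩ : ∃ k, 2 ^ n = k + 1 := ⟨2 ^ n - 1, (Nat.sub_add_cancel Nat.one_le_two_pow).symm⟩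
        rw [hk, Nat.add_sub_cancel]; ring)
    have x1 : x ≠ 1 := fun e => by simp [e] at x3
    have h3 : normalClosure {x} ≤ 𝐂[x] := (closure_le _).2 fun y hy => by
      obtain ⟨_, ⟨⟩, hy⟩ := Group.mem_conjugatesOfSet_iff.1 hy
      obtain ⟨a, rfl, a3⟩ := exists_lift (QuotientGroup.mk'_surjective _) hk
        (y := x) (by rw [x3]; decide)
      obtain ⟨c, rfl⟩ := isConj_iff.1 hy
      obtain ⟨c, rfl⟩ := QuotientGroup.mk'_surjective _ c
      refine mem_cent1.2 (commutatorElement_eq_one_iff_mul_comm.1 ?_)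
      rw [← map_inv, ← map_mul, ← map_mul, ← map_commutatorElement]
      exact (QuotientGroup.eq_one_iff _).2 (h.higman (by simpa [Elem] using h0) (a3.trans x3)
        (((MulAut.conj c).orderOf_eq a).trans (a3.trans x3)))
    rw [(normalClosure_normal (s := {x})).eq_bot_or_eq_top.resolve_left fun e =>
      x1 (mem_bot.1 (e ▸ subset_normalClosure rfl))] at h3
    obtain ⟨s, hs, s1, ss⟩ := hz.exists_invol
    exact (h.quot _ (isPGroup_pCore 2) s x ss (by rw [x3]; decide)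
      (mem_cent1.1 (h3 trivial)).symm).elim s1 x1
  · let _ := Fintype.ofFinite (GaloisField 2 (2 * m + 1))
    have hF : Fintype.card (GaloisField 2 (2 * m + 1)) = 2 ^ (2 * m + 1) := by
      rw [← Nat.card_eq_fintype_card, GaloisField.card _ _ (by omega)]
    obtain ⟨_, θ, h1, h2⟩ := exists_theta hF
    have := h.elem_of_sz h2 (hF ▸ Nat.pow_lt_pow_right (a := 2) (m := 1) one_lt_two (by omega))
      (p := (e.trans (MulEquiv.subgroupCongr (Model.Sz_eq h1))).toMonoidHom.comp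
        (QuotientGroup.mk' _)) ((e.trans (MulEquiv.subgroupCongr (Model.Sz_eq h1))).surjective.comp
        (QuotientGroup.mk'_surjective _))
      (by rwa [MonoidHom.ker_comp_of_injective _ _ (MulEquiv.injective _)])
    rwa [MonoidHom.ker_comp_of_injective _ _ (MulEquiv.injective _), QuotientGroup.ker_mk'] at this

end Cfsg.Agent.P4
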