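/-
P4: a presentation of `PSL₃(4)`.
-/
import Cfsg.Agent.P8.Pres

set_option autoImplicit false

namespace Cfsg.Agent.P4.L34

open Subgroup Cfsg.Agent.P8 Cfsg.Agent.P8.TC Matrix

theorem cert21 : checkIndex 5 id
    [[2, 1, 2, 1, 2, 1], [3, 2, 1, 3, 2, 1], [4, 2, 1, 4, 2, 1, 4, 2, 1], [1, 4, 1, 3, 1, 4, 1, 3, 1, 4, 1, 3], [4, 3, 4, 3, 1, 4, 3, 4, 3, 1, 4, 3, 4, 3, 1], [2, 1, 4, 1, 2, 3, 4, 3, 1, 2, 1, 4, 1, 2, 3, 4, 3, 1, 2, 1, 4, 1, 2, 3, 4, 3, 1], [4, 1, 4, 1, 3, 4, 1, 4, 1, 3, 4, 1, 4, 1, 3], [2, 1, 4, 1, 2, 1, 4, 1, 3, 2, 1, 4, 1, 2, 1, 4, 1, 3, 2, 1, 4, 1, 2, 1, 4, 1, 3], [1, 3, 1, 3, 1, 3]]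
    [[1], [2], [4], [3, 4, 3]]
    0x1003001002001001000f04000f01000e02000e01000d04000c02000b04000803000704000702000603000601000502000403000402000401000304000201000103000000000000 23
    [0x170603001705040015ff030015ff01000f040500170400001402020015030b0013060400130502001300000012010000120005001107040011030b000d0000000d0105000c0601000c0401000b010000060203000a0702000a0000000a01050008020300070800000506000005030b000308050003010100008301000082000000810000008000]
    0x9ffffe 21 = true := by
  decide +kernel

theorem cert160 : checkIndex 5 id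
    [[4, 2, 1, 4, 2, 1, 4, 2, 1], [3, 2, 1, 3, 2, 1, 3, 2, 1], [4, 3, 4, 3], [4, 2, 1, 3, 1, 2, 4, 2, 1, 3, 1, 2], [4, 1, 2, 3, 2, 1, 4, 1, 2, 3, 2, 1], [3, 1, 3, 1, 3, 1], [4, 3, 1, 4, 3, 1, 4, 3, 1], [2, 1, 4, 1, 2, 3, 1, 2, 1, 4, 1, 2, 3, 1, 2, 1, 4, 1, 2, 3, 1]]
    [[1], [2]]
    0xb30300a001009004008d01008603007f01007e02007c01007a03007804007803007702007402007203007101006b04006b01006a04006a03006204006202006103005f02005d02005c03005c02005b02005a04005a01005904005903005704005603005602005502005501005404005402005401005304005302005204005102005101005004005002005001004f04004f03004e04004e03004e02004d02004d01004c04004c03004c01004b04004b02004a04004a03004a01004704004703004602004601004504004502004404004302004202004101004004004003004001003f02003e02003e01003d04003c02003c01003b04003a04003a03003802003801003704003702003701003603003602003504003503003501003404003304003303003202003201003001002f04002f03002f02002e02002e01002d04002d03002d01002c04002c02002b02002904002903002901002804002803002801002701002604002603002502002501002404002402002401002202002104002103002101002004002003002001001f04001f03001f02001e02001e01001d04001d01001c04001b02001b01001a01001904001903001901001802001702001701001604001602001502001501001404001402001401001303001302001202001102001003001001000f04000f03000f01000e03000e02000d02000d01000c04000c02000c01000b04000b02000a02000a01000904000901000804000803000801000704000703000702000602000601000504000503000501000404000402000302000301000204000202000201000104000103000000000000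 199
    [0x800101007e0505007d03030079ff04007b0007007c0200007c0403007b0500007b0304007902030077020000770500007506080074050500710203006c000800690203006805050068020300670600006502000065060100610000005a01000059030400520101004d0203004b05000047010100490203004900080048000000480402004505050044030300410000001d0103003c0203002aff0200100108001aff020039ff0100170006003a04040034050000340304002e0203002b02000022060000220505001e0203001c0101001c0500001b02030012050100180200001806010010000300090103000a020300060203000405000000810000008000,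
    0x6fff0100a3ff0400a3ff03006e060500adff02001f0409009dff02004fff020058ff040058ff010098ff040098ff030044030a0068010400acff03005a000600610701005c040400aaff04005d0203005d060600a8ff030057ff040097ff030012040400af02020096ff0400af0601005d0503006701040075ff040075ff030075ff01002e000700af07030099010100ac020300ab050000a9050500a80203006f010100a4000100a3020300a1010100720001009cff01002f0600009e0505009e020300580002009b0608009b0203008b0102009906000099050000950505009400000092020000920601008e0203008d0100008502030065000100830203,
    0xba0004005d04080054040a00c1030400c1010000c1000000c000010093060000bfff0300bf050500bf010800be020300bd060000bd040200bd0108007f0201007e0606009101010091000200bc040300bc00000090010200ba020000b9000100b8020300b8000800b7020000b7050000b7010100b6020300b600080061030600b1000800b1000300b5040200b5010800ab00030073ff0200b4060800b4040b00b4020300b30000006b0712006dff0200350008009e010400b2040200b2020000b20108006300010064ff010063040600920307008c0201008b0300009fff02004a0108008b04080089ff040089ff030089ff0100a7ff0300a4ff02006fff02,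
    0xbe030500c7050500c7040200c7020000c6040000c6030300c6000100c5060800c5020300c4030300c4000100c3060000c3040200c3010800c2040000c2030300c20001]
    0xff7ffe8a234e3ffd4dfdd75fefbe7f7fffddfcfbfffbfffffe 160 = true := by
  decide +kernel

theorem cert6 : checkIndex 3 id
    [[2, 1, 2, 1, 2, 1]]
    []
    0x401000301000202000102000101000000000000 6
    [0x60000]
    0x7e 6 = true := by
  decide +kernel


variable {X : Type*} [Group X]

/-- Defining relations; `c * a` has order three. -/
structure Rel (a c b z : X) : Prop where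
  aa : a * a = 1
  cc : c * c = 1
  bb : b * b = 1
  zz : z * z = 1
  r1 : (c * a) ^ 3 = 1
  r2 : (b * (c * a)) ^ 2 = 1
  r3 : (z * (c * a)) ^ 3 = 1
  r4 : (b * z * b * (c * a)) ^ 3 = 1
  r5 : (a * b) ^ 3 = 1
  r6 : (z * (b * z * b)) ^ 2 = 1
  r7 : (z * (c * a * (b * z * b) * (a * c))) ^ 2 = 1
  r8 : (z * (a * c * (b * z * b) * (c * a))) ^ 2 = 1
  r9 : (b * z * b * a) ^ 3 = 1
  r10 : (z * (b * z * b * a)) ^ 3 = 1
  r11 : (c * a * z * (a * c) * (b * z * b * a)) ^ 3 = 1
  r12 : (a * z * a * b) ^ 3 = 1
  r13 : (z * (a * z * a * b)) ^ 3 = 1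
  r14 : (c * a * z * (a * c) * (a * z * a * b)) ^ 3 = 1

theorem Rel.card_le [Finite X] {a c b z : X} (h : Rel a c b z) :
    Nat.card (closure {x | x ∈ [a, c, b, z]}) ≤ 20160 := by
  obtain ⟨aa, cc, bb, zz, r1, r2, r3, r4, r5, r6, r7, r8, r9, r10, r11, r12, r13, r14⟩ := h
  have ss : b * z * b * (b * z * b) = 1 := by
    rw [mul_assoc, ← mul_assoc b (b * z), ← mul_assoc b b, bb, one_mul, mul_assoc, ← mul_assoc z, zz,
      one_mul, bb]
  simp only [pow_succ, pow_zero, one_mul, mul_assoc] at *
  have h1 := (relIndex_le_of_checkIndex (closure {x | x ∈ [a, c, b * (z * b), z]})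
    (g := gen [a, c, b, z]) rfl (gen_iv _ (by simp [*]) _) (by simp [gen, *]) (by
      simp only [List.mem_cons, List.not_mem_nil, or_false, forall_eq_or_imp, forall_eq, gen,
        List.map_cons, List.map_nil, List.prod_cons, List.prod_nil, List.getD_cons_succ,
        List.getD_cons_zero, mul_one]
      exact ⟨subset_closure (by simp), subset_closure (by simp), subset_closure (by simp),
        subset_closure (by simp)⟩) cert21 _ (closure_le_gen [a, c, b, z])).2
  have h2 := (relIndex_le_of_checkIndex (closure {x | x ∈ [a, c]})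
    (g := gen [a, c, b * (z * b), z]) rfl (gen_iv _ (by simp [mul_assoc, *]) _)
    (by simp [gen, mul_assoc, *]) (by
      simp only [List.mem_cons, List.not_mem_nil, or_false, forall_eq_or_imp, forall_eq, gen,
        List.map_cons, List.map_nil, List.prod_cons, List.prod_nil, List.getD_cons_succ,
        List.getD_cons_zero, mul_one]
      exact ⟨subset_closure (by simp), subset_closure (by simp)⟩) cert160 _
    (closure_le_gen [a, c, b * (z * b), z])).2
  have h3 := (relIndex_le_of_checkIndex ⊥ (g := gen [a, c]) rfl (gen_iv _ (by simp [*]) _)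
    (by simp [gen, *]) (by simp) cert6 _ (closure_le_gen [a, c])).2
  rw [relIndex_bot_left] at h3
  have key : ∀ K H : Subgroup X, Nat.card H ≤ Nat.card K * K.relIndex H := fun K H =>
    H1.card_inf_mul_relIndex K H ▸ Nat.mul_le_mul_right _ (card_le_of_le inf_le_left)
  exact (key _ _).trans (Nat.mul_le_mul ((key _ _).trans (Nat.mul_le_mul h3 h2)) h1)

theorem Rel.prod {Y : Type*} [Group Y] {a c b z : X} {a' c' b' z' : Y} (h : Rel a c b z)
    (h' : Rel a' c' b' z') : Rel (a, a') (c, c') (b, b') (z, z') :=
  ⟨Prod.ext h.aa h'.aa, Prod.ext h.cc h'.cc, Prod.ext h.bb h'.bb, Prod.ext h.zz h'.zz,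
    Prod.ext h.r1 h'.r1, Prod.ext h.r2 h'.r2, Prod.ext h.r3 h'.r3, Prod.ext h.r4 h'.r4,
    Prod.ext h.r5 h'.r5, Prod.ext h.r6 h'.r6, Prod.ext h.r7 h'.r7, Prod.ext h.r8 h'.r8,
    Prod.ext h.r9 h'.r9, Prod.ext h.r10 h'.r10, Prod.ext h.r11 h'.r11, Prod.ext h.r12 h'.r12,
    Prod.ext h.r13 h'.r13, Prod.ext h.r14 h'.r14⟩

instance : Fact (∀ r : ZMod 2, r ^ 2 ≠ 1 + 1 * r) := ⟨by decide⟩

/-- The field with four elements. -/
abbrev F4 := QuadraticAlgebra (ZMod 2) 1 1

instance : Fintype F4 := Fintype.ofEquiv _ (QuadraticAlgebra.equivProd 1 1).symm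

theorem card_F4 : Fintype.card F4 = 4 := by simp [Fintype.ofEquiv_card]

/-- A primitive element. -/
def w : F4 := ⟨0, 1⟩

theorem mk_eq_one {M : SpecialLinearGroup (Fin 3) F4}
    (h : M.1 = scalar _ 1 ∨ M.1 = scalar _ w ∨ M.1 = scalar _ (w * w)) :
    QuotientGroup.mk' (center _) M = 1 := by
  refine (QuotientGroup.eq_one_iff M).2 (Matrix.SpecialLinearGroup.mem_center_iff.2 ?_)
  rcases h with h | h | h <;> exact ⟨_, by decide, h.symm⟩

/-- The generating matrices. -/
def mA : SpecialLinearGroup (Fin 3) F4 := ⟨!![1, 0, 0; 0, 0, 1; 0, 1, 0], by decide +kernel⟩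
/-- The generating matrices. -/
def mC : SpecialLinearGroup (Fin 3) F4 := ⟨!![1, 0, 0; 0, 0, w; 0, w * w, 0], by decide +kernel⟩
/-- The generating matrices. -/
def mB : SpecialLinearGroup (Fin 3) F4 := ⟨!![0, 1, 0; 1, 0, 0; 0, 0, 1], by decide +kernel⟩
/-- The generating matrices. -/
def mZ : SpecialLinearGroup (Fin 3) F4 := ⟨!![1, 0, 1; 0, 1, 0; 0, 0, 1], by decide +kernel⟩

theorem rel_psl : Rel (QuotientGroup.mk' (center _) mA) (QuotientGroup.mk' (center _) mC)
    (QuotientGroup.mk' (center _) mB) (QuotientGroup.mk' (center _) mZ) := by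
  constructor <;> simp only [← map_mul, ← map_pow] <;> exact mk_eq_one (by decide +kernel)

theorem card_psl : Nat.card (ProjectiveSpecialLinearGroup (Fin 3) F4) ≤ 20160 := by
  classical
  have h1 := card_GL_field (𝔽 := F4) 3
  have h2 := (GeneralLinearGroup.det : GL (Fin 3) F4 →* F4ˣ).ker.card_mul_index
  have h0 : (Matrix.SpecialLinearGroup.toGL : SpecialLinearGroup (Fin 3) F4 →* GL (Fin 3) F4).range =
      (GeneralLinearGroup.det : GL (Fin 3) F4 →* F4ˣ).ker :=
    SetLike.coe_injective Matrix.SpecialLinearGroup.range_toGL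
  rw [index_ker, MonoidHom.range_eq_top.2 GeneralLinearGroup.det_surjective, card_top,
    Nat.card_units, h1, ← h0,
    ← Nat.card_congr (MonoidHom.ofInjective Matrix.SpecialLinearGroup.toGL_injective).toEquiv,
    Nat.card_eq_fintype_card (α := F4), card_F4] at h2
  simp only [Fin.prod_univ_three, Fin.val_zero, Fin.val_one, Fin.val_two] at h2
  have h3 := (center (SpecialLinearGroup (Fin 3) F4)).card_mul_index
  have : Fact (Nat.Prime 3) := ⟨Nat.prime_three⟩
  let m : SpecialLinearGroup (Fin 3) F4 := ⟨scalar _ w, by decide +kernel⟩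
  have h4 := Nat.le_of_dvd Nat.card_pos (orderOf_dvd_natCard (center _)
    (Matrix.SpecialLinearGroup.mem_center_iff (A := m).2 ⟨w, by decide, rfl⟩))
  rw [orderOf_eq_prime (p := 3) (x := m) (Subtype.ext (by decide +kernel))
    fun e => absurd (congrArg Subtype.val e) (by decide +kernel)] at h4
  change (center (SpecialLinearGroup (Fin 3) F4)).index ≤ _
  have := Nat.mul_le_mul_right (center (SpecialLinearGroup (Fin 3) F4)).index h4
  omega

theorem Rel.equiv [Finite X] [IsSimpleGroup X] {a c b z : X} (h : Rel a c b z)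
    (hX : closure {x | x ∈ [a, c, b, z]} = ⊤) (hc : 20160 ≤ Nat.card X) :
    Nonempty (X ≃* ProjectiveSpecialLinearGroup (Fin 3) F4) := by
  have h1 := (h.prod rel_psl).card_le
  set D := closure {x | x ∈ [(a, QuotientGroup.mk' (center _) mA),
    (c, QuotientGroup.mk' (center _) mC), (b, QuotientGroup.mk' (center _) mB),
    (z, QuotientGroup.mk' (center _) mZ)]} with hD
  let p : D →* X := (MonoidHom.fst _ _).comp D.subtype
  have hp : Function.Surjective p := by
    rw [← MonoidHom.range_eq_top, MonoidHom.range_comp, range_subtype, hD, MonoidHom.map_closure,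
      ← hX]
    congr 1
    ext x
    simp [eq_comm]
  let f := MulEquiv.ofBijective p ((Nat.bijective_iff_surjective_and_card p).2
    ⟨hp, le_antisymm (h1.trans hc) (Nat.card_le_card_of_surjective p hp)⟩)
  let q := ((MonoidHom.snd _ _).comp D.subtype).comp f.symm.toMonoidHom
  have hq : Function.Injective q := (MonoidHom.ker_eq_bot_iff q).1
    ((q.normal_ker.eq_bot_or_eq_top).resolve_right fun e => by
      have h2 : q (f ⟨(z, QuotientGroup.mk' (center _) mZ), subset_closure (by simp)⟩) = 1 :=
        e.ge trivial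
      simp only [q, MonoidHom.comp_apply, MulEquiv.coe_toMonoidHom, f.symm_apply_apply] at h2
      obtain ⟨r, -, hr⟩ := Matrix.SpecialLinearGroup.mem_center_iff.1
        ((QuotientGroup.eq_one_iff mZ).1 h2)
      simpa [mZ] using congrFun (congrFun hr 0) 2)
  exact ⟨MulEquiv.ofBijective q ((Nat.bijective_iff_injective_and_card q).2
    ⟨hq, le_antisymm (Nat.card_le_card_of_injective q hq) (card_psl.trans hc)⟩)⟩

end Cfsg.Agent.P4.L34
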