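/-
P4: identification of `PSL₃(4)`.
-/
import Cfsg.Agent.P4.Class
import Cfsg.Agent.P4.L34

set_option autoImplicit false
set_option linter.unusedSectionVars false

namespace Cfsg.Agent.P4

open Subgroup Cfsg Cfsg.Agent Cfsg.Agent.FT Cfsg.Agent.L Cfsg.Agent.P2
open scoped commutatorElement

universe u

variable {G : Type u} [Group G] [Finite G]

/-- All elements have prime power order. -/
def EPPO (G : Type u) [Group G] : Prop := ∀ g : G, g ≠ 1 → IsPrimePow (orderOf g)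

theorem EPPO.eq_one (h : EPPO G) {x y : G} (hc : Commute x y)
    (ho : (orderOf x).Coprime (orderOf y)) : x = 1 ∨ y = 1 := by
  have e := hc.orderOf_mul_eq_mul_orderOf_of_coprime ho
  by_cases h1 : x * y = 1
  · rw [h1, orderOf_one, eq_comm, mul_eq_one] at e
    exact Or.inl (orderOf_eq_one_iff.1 e.1)
  · rcases (ho.isPrimePow_dvd_mul (h _ h1)).1 e.dvd with d | d <;> rw [e] at d
    · exact Or.inr (orderOf_eq_one_iff.1 (ho.symm.eq_one_of_dvd ((dvd_mul_left _ _).trans d)))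
    · exact Or.inl (orderOf_eq_one_iff.1 (ho.eq_one_of_dvd ((dvd_mul_right _ _).trans d)))

theorem EPPO.cit (h : EPPO G) : CIT G := fun t _ tt ho hc => (eq_or_ne t 1).elim Or.inl fun t1 =>
  h.eq_one hc (orderOf_two t1 tt ▸ Nat.coprime_two_left.2 ho)

theorem EPPO.isPGroup_cent (h : EPPO G) {x : G} {p : ℕ} (hp : p.Prime) (hx : orderOf x = p) :
    IsPGroup p 𝐂[x] := fun g => by
  obtain ⟨a, b, -, ⟨j, rfl⟩, e, hc, ⟨k, hk⟩, hb⟩ := H8.exists_pPart_pPrimePart hp (g : G)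
  rcases h.eq_one ((show Commute x g from mem_cent1.1 g.2).zpow_right j) (hx ▸ hb.symm) with e' | e'
  · simp [e', eq_comm, hp.ne_one] at hx
  · simp only [e', mul_one] at e
    exact ⟨k, Subtype.ext (by rw [coe_pow, e, ← hk, pow_orderOf_eq_one, coe_one])⟩

theorem ZT.comm_mem {Q H : Subgroup G} {t : G} (h : ZT Q H t) {g x : G} (hg : g ∈ 𝐍(Q))
    (hx : x ∈ 𝐍(Q)) : ⁅g, x⁆ ∈ Q := by
  obtain ⟨y, hy, k, hk, rfl⟩ := h.mem_B.1 (ZT.norm_le h hg)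
  obtain ⟨y', hy', k', hk', rfl⟩ := h.mem_B.1 (ZT.norm_le h hx)
  have e : k * k' = k' * k := congrArg Subtype.val (h.commH.is_comm.comm ⟨k, hk⟩ ⟨k', hk'⟩)
  rw [show ⁅y * k, y' * k'⁆ = y * (k * y' * k⁻¹) * (k * k' * k⁻¹ * y⁻¹ * k'⁻¹) * y'⁻¹ by group, e,
    mul_inv_cancel_right]
  exact mul_mem (mul_mem (mul_mem hy (conj_mem (h.normQ (mem_sup_right hk)) hy'))
    (conj_mem (h.normQ (mem_sup_right hk')) (inv_mem hy))) (inv_mem hy')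

open scoped IsMulCommutative in
theorem six {K Z : Type*} [Group K] [Group Z] [IsMulCommutative K] [IsMulCommutative Z]
    (e : K → Z) (ee : ∀ g, e g * e g = 1) (k l : K)
    (A : ∀ g, e (l⁻¹ * l⁻¹ * g) = e g * e (k * k * g)) (B : ∀ g, e (l * g) = e g * e (k⁻¹ * g)) :
    e (k ^ 6) = e 1 := by
  have B2 : ∀ g, e (l * (l * g)) = e g * e (k⁻¹ * k⁻¹ * g) := fun g => by
    rw [B, B, mul_left_comm, B, mul_assoc, ← mul_assoc (e (k⁻¹ * g)), ee, one_mul, mul_assoc]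
  have C : ∀ g, e g = e (k⁻¹ * k⁻¹ * g) * e (k * k * g) := fun g => by
    have := A (l * (l * g))
    rw [show k * k * (l * (l * g)) = l * (l * (k * k * g)) by simp only [mul_left_comm], B2, B2,
      show k⁻¹ * k⁻¹ * (k * k * g) = g by group, show l⁻¹ * l⁻¹ * (l * (l * g)) = g by group,
      mul_comm (e (k * k * g)), mul_mul_mul_comm, ee, one_mul] at this
    exact this
  have h1 := C (k ^ 2)
  have h2 := C (k ^ 4)
  rw [show k⁻¹ * k⁻¹ * k ^ 2 = 1 by group, show k * k * k ^ 2 = k ^ 4 by group] at h1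
  rw [show k⁻¹ * k⁻¹ * k ^ 4 = k ^ 2 by group, show k * k * k ^ 4 = k ^ 6 by group, h1,
    mul_right_comm, right_eq_mul] at h2
  rw [← mul_left_cancel_iff (a := e 1), h2, ee]

namespace Amal

variable {M₁ M₂ V₁ V₂ T : Subgroup G} {q : ℕ} (a : Amal M₁ M₂ V₁ V₂ T q) (h : CIT G) (hq : 3 ≤ q)
include a h hq

theorem cent_z {z : G} (hz : z ∈ V₁ ⊓ V₂) (z1 : z ≠ 1) : 𝐂[z] = T :=
  h.cent_eq (a.isSyl h hq) z1 (a.h₁.elem z hz.1)
    fun _ ht => mem_cent1.2 (mem_cent.1 (a.le_cent ht) z hz)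

theorem norm_of_conj {z g : G} (hz : z ∈ V₁ ⊓ V₂) (z1 : z ≠ 1) (hg : g * z * g⁻¹ ∈ V₁ ⊓ V₂) :
    g ∈ 𝐍(T) := by
  rw [← conj_eq_self_iff]
  conv_lhs => rw [← a.cent_z h hq hz z1, ← cent1_conj, a.cent_z h hq hg (conj_ne_one z1 g)]

theorem ti {v g : G} (hv : v ∈ V₁) (v1 : v ≠ 1) (hg : g * v * g⁻¹ ∈ V₁) : g ∈ M₁ := by
  obtain ⟨z, hz, z1⟩ := a.exists_z
  obtain ⟨m, hm, rfl⟩ := a.h₁.trans h hz.1 z1 hv v1
  obtain ⟨n, hn, e⟩ := a.h₁.trans h hg (conj_ne_one v1 g) hz.1 z1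
  have : n * g * m ∈ T := a.cent_z h hq hz z1 ▸ mem_cent1_iff_conj.2
    (by refine Eq.trans ?_ e; group)
  exact (mul_mem_cancel_left hn).1 ((mul_mem_cancel_right hm).1 (a.h₁.syl.le this))

theorem conj_invol {z c : G} (hz : z ∈ V₁ ⊓ V₂) (z1 : z ≠ 1) (c1 : c ≠ 1) (cc : c * c = 1) :
    ∃ g, g * z * g⁻¹ = c := by
  obtain ⟨g, -, hg⟩ := (a.isSyl h hq).exists_conj_le Nat.prime_two (isPGroup_zpowers_of_sq cc) le_top
  obtain ⟨k, hk⟩ := a.conj_z h hz z1 (a.h₁.syl.le (hg (conj_mem_conj (mem_zpowers c) g)))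
    (conj_ne_one c1 g) (conj_sq cc g)
  exact ⟨g⁻¹ * k, by rw [mul_inv_rev, mul_assoc g⁻¹, mul_assoc g⁻¹, ← mul_assoc _ k⁻¹, hk]; group⟩

theorem exists_cent {x g : G} (hx : x ∈ 𝐍(T)) (x1 : x ≠ 1) (ho : Odd (orderOf x)) (hg : g ∈ 𝐍(T)) :
    ∃ t ∈ T, Commute x (t * g) := by
  obtain ⟨H, t, hz⟩ := a.zt h hq
  have h1 := ZT.comm_mem hz (a.mem_norm_bar (x := ⟨g, a.norm_le h hq hg⟩).2 hg)
    (a.mem_norm_bar (x := ⟨x, a.norm_le h hq hx⟩).2 hx)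
  rw [← map_commutatorElement, a.mem_bar] at h1
  obtain ⟨d, hd, e⟩ := fpf_surj hx (fun d hd hc => h.fpf a.h₁.syl.pgrp ho x1 hd hc) h1
  refine ⟨d, hd, ?_⟩
  change d⁻¹ * _ = g * x * g⁻¹ * x⁻¹ at e
  calc x * (d * g) = d * (d⁻¹ * (x * d * x⁻¹)) * x * g := by group
    _ = _ := by rw [e]; group

theorem key {s w z : G} (ss : s * s = 1) (hs : s ∈ T) (hw : w ∈ M₁) (ww : w * w = 1)
    (e : w * s * w = s * w * s) (w1 : w ∉ 𝐍(T)) :
    F3 V₁ (s * w) ∧ (z ∈ V₁ ⊓ V₂ → ⁅s, w * z * w⁆ = z) := by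
  have : Fact (Nat.Prime 3) := ⟨Nat.prime_three⟩
  have f := h.f3 a.h₁.elem.pgrp (orderOf_eq_prime ((braid_iff ss ww).1 e) fun e => w1
    ((mul_mem_cancel_left (le_normalizer hs)).1 (e ▸ one_mem _)))
    (a.h₁.normal.2 (mul_mem (a.h₁.syl.le hs) hw))
  refine ⟨f, fun hz => ?_⟩
  have h1 := f.norm3 hz.1
  have h2 : z * s = s * z := mem_cent.1 (a.le_cent hs) z hz
  have zz := a.h₁.elem z hz.1
  rw [mul_assoc, mul_eq_one_iff_inv_eq, inv_eq_self_of_mul_self zz, mul_inv_rev,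
    inv_eq_self_of_mul_self ww, inv_eq_self_of_mul_self ss, mul_assoc w s z, ← h2, mul_assoc w (z * s),
    mul_assoc z s, ← mul_assoc s s, ss, one_mul] at h1
  rw [commutatorElement_def, mul_inv_rev, mul_inv_rev, inv_eq_self_of_mul_self ww,
    inv_eq_self_of_mul_self ss, inv_eq_self_of_mul_self zz]
  nth_rw 3 [h1]
  group

theorem conj_notMem {w z : G} (hw : w ∈ M₂) (ww : w * w = 1) (w1 : w ∉ 𝐍(T)) (hz : z ∈ V₁ ⊓ V₂)
    (z1 : z ≠ 1) : w * z * w ∈ V₂ ∧ w * z * w ∉ V₁ := by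
  have e : w * z * w = w * z * w⁻¹ := by rw [inv_eq_self_of_mul_self ww]
  have h1 := conj_mem (a.h₂.normal.2 hw) hz.2
  exact e ▸ ⟨h1, fun h2 => w1 (a.norm_of_conj h hq hz z1 ⟨h2, h1⟩)⟩

theorem eq_four : q = 4 := by
  obtain ⟨x, -, hx, xp, xo⟩ := a.exists_odd h hq
  have x1 : x ≠ 1 := fun e => by simp [e, Nat.not_prime_one] at xp
  obtain ⟨z, hz, z1⟩ := a.exists_z
  obtain ⟨v, hv, v2⟩ := SetLike.not_le_iff_exists.1 a.symm.not_le
  obtain ⟨b, hb, bb, b1, -, b2⟩ := a.symm.weyl h hq (a.symm.norm_le h hq hx) hx x1 xo hv v2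
  obtain ⟨s1, s2⟩ := a.conj_notMem h hq hb bb b2 hz z1
  obtain ⟨w, hw, ww, w1, w2, w3⟩ := a.weyl h hq (a.norm_le h hq hx) hx x1 xo s1 s2
  have hC := h.odd_cent x1 xo
  have inv : ∀ {c : G}, c * c = 1 → c ∉ 𝐍(T) → c * x * c⁻¹ = x⁻¹ → ∀ k ∈ 𝐂[x], c * k * c = k⁻¹ :=
    fun {c} cc c1 e => inverts_of_fpf cc (by rw [← conj_eq_self_iff, ← cent1_conj, e, cent1_inv])
      fun k hk hc => (h c k cc (hC.of_dvd_nat (orderOf_dvd_natCard _ hk)) hc).resolve_left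
        fun e => c1 (e ▸ one_mem _)
  set K := 𝐂[x] ⊓ 𝐍(T)
  have hZ : Elem (V₁ ⊓ V₂) := a.h₁.elem.mono inf_le_left
  have cm : ∀ k ∈ K, ∀ l ∈ K, k * l = l * k := fun k hk l hl => inv_injective (by
    rw [← inv bb b2 b1 _ (mul_mem hk.1 hl.1), mul_inv_rev, ← inv bb b2 b1 _ hk.1,
      ← inv bb b2 b1 _ hl.1, mul_assoc (b * k), ← mul_assoc b (b * l), ← mul_assoc b b, bb]
    group)
  have tr : ∀ y ∈ V₁ ⊓ V₂, y ≠ 1 → ∃ k ∈ K, k * z * k⁻¹ = y := fun y hy y1 => by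
    obtain ⟨g, -, rfl⟩ := a.h₁.trans h hz.1 z1 hy.1 y1
    have hg := a.norm_of_conj h hq hz z1 hy
    obtain ⟨t, ht, e⟩ := a.exists_cent h hq hx x1 xo hg
    refine ⟨_, ⟨mem_cent1.2 e, mul_mem (le_normalizer ht) hg⟩, ?_⟩
    rw [← mul_inv_cancel_right (g * z * g⁻¹) t, mem_cent.1 (a.le_cent ht) _ hy]; group
  have ko : ∀ k ∈ K, Odd (orderOf k) := fun k hk => hC.of_dvd_nat (orderOf_dvd_natCard _ hk.1)
  have mZ : ∀ k ∈ K, k * z * k⁻¹ ∈ V₁ ⊓ V₂ := fun k hk => conj_mem (a.norm_Z h hk.2) hz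
  have fp : ∀ k ∈ K, k * z * k⁻¹ = z → k = 1 := fun k hk e => by_contra fun k1 =>
    z1 (h.fpf hZ.pgrp (ko k hk) k1 hz (mul_inv_eq_iff_eq_mul.1 e))
  have kf : ∀ k ∈ K, ∀ g ∈ K, ⁅b * (k⁻¹ * z * k⁻¹⁻¹) * b, w * (g * z * g⁻¹) * w⁆ =
      k * k * g * z * (k * k * g)⁻¹ := fun k hk g hg => by
    have h1 := (a.key h hq (a.h₂.elem _ s1) (a.h₂.le s1) hw ww w2 w3).2 (mZ _ (mul_mem hk hg))
    have i : ∀ {c : G}, c * c = 1 → c * k * c = k⁻¹ → ∀ y, k * (c * y * c) * k⁻¹ =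
        c * (k⁻¹ * y * k) * c := fun {c} cc e y => by
      calc _ = c * (c * k * c) * y * (c * k * c)⁻¹ * c⁻¹ * (c * c)⁻¹ * (c * c) := by
            rw [← mul_assoc c, ← mul_assoc c, cc, mul_inv_rev (c * k), inv_eq_self_of_mul_self cc,
              mul_inv_rev, inv_eq_self_of_mul_self cc]
            simp [mul_assoc, cc]
        _ = _ := by rw [e, cc, inv_eq_self_of_mul_self cc]; group
    have h2 := conj_comm k (b * z * b) (w * (k * g * z * (k * g)⁻¹) * w)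
    rw [h1, i bb (inv bb b2 b1 k hk.1), i ww (inv ww w3 w1 k hk.1)] at h2
    rw [show k⁻¹ * (k * g * z * (k * g)⁻¹) * k = g * z * g⁻¹ by group] at h2
    rw [inv_inv, h2]; group
  have three : ∀ k ∈ K, k ^ 3 = 1 := fun k hk => by
    by_cases k1 : k = 1
    · simp [k1]
    obtain ⟨l, hl, e⟩ := tr (z * (k⁻¹ * z * k⁻¹⁻¹)) (mul_mem hz (mZ _ (inv_mem hk))) fun e =>
      k1 (inv_eq_one.1 (fp _ (inv_mem hk) ((eq_inv_of_mul_eq_one_right e).trans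
        (inv_eq_self_of_mul_self (hZ z hz)))))
    have : IsMulCommutative K := ⟨⟨fun x y => Subtype.ext (cm _ x.2 _ y.2)⟩⟩
    have : IsMulCommutative (V₁ ⊓ V₂ : Subgroup G) := ⟨⟨fun x y => Subtype.ext (hZ.comm x.2 y.2)⟩⟩
    have := six (fun g : K => (⟨_, mZ g g.2⟩ : (V₁ ⊓ V₂ : Subgroup G)))
      (fun g => Subtype.ext (hZ _ (mZ g g.2))) ⟨k, hk⟩ ⟨l, hl⟩ (fun ⟨g, hg⟩ => Subtype.ext ?_)
      fun ⟨g, hg⟩ => Subtype.ext ?_
    · have h6 := fp _ (pow_mem hk 6) (by simpa using congrArg Subtype.val this)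
      exact eq_one_of_odd_of_pow (n := 1) (ko _ (pow_mem hk 3)) (by rw [← pow_mul]; exact h6)
    · have h1 := kf 1 (one_mem _) g hg
      change l⁻¹ * l⁻¹ * g * z * (l⁻¹ * l⁻¹ * g)⁻¹ =
        g * z * g⁻¹ * (k * k * g * z * (k * k * g)⁻¹)
      rw [← kf _ (inv_mem hl) g hg, inv_inv, e, show b * (z * (k⁻¹ * z * k⁻¹⁻¹)) * b =
        b * (1⁻¹ * z * 1⁻¹⁻¹) * (b * b) * (k⁻¹ * z * k⁻¹⁻¹) * b by rw [bb]; group,
        ← mul_assoc _ b b, mul_assoc _ b (k⁻¹ * z * k⁻¹⁻¹), mul_assoc _ _ b, comm_mul_left, h1,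
        kf k hk g hg, ← mem_cent.1 (a.le_cent (a.h₂.le (by simpa using s1))) _
        (mZ _ (mul_mem (mul_mem hk hk) hg)), mul_inv_cancel_right, one_mul, one_mul]
      exact hZ.comm (mZ _ (mul_mem (mul_mem hk hk) hg)) (mZ _ hg)
    · change l * g * z * (l * g)⁻¹ = g * z * g⁻¹ * (k⁻¹ * g * z * (k⁻¹ * g)⁻¹)
      rw [cm l hl g hg, cm _ (inv_mem hk) g hg]
      calc _ = g * (l * z * l⁻¹) * g⁻¹ := by group
        _ = _ := by rw [e]; group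
  have hK : IsPGroup 3 K := fun k => ⟨1, Subtype.ext (three k k.2)⟩
  have Z1 : V₁ ⊓ V₂ ≠ ⊥ := fun e => z1 (mem_bot.1 (e ▸ hz))
  have hc := odd_regular_pgroup_cyclic Nat.prime_three (by decide) hK Z1
    (inf_le_right.trans (a.norm_Z h)) (h.semiReg hZ.pgrp (hC.of_dvd_nat (FT.card_dvd_of_le inf_le_left)))
  have h3 : 𝐨(K) ≤ 3 := by
    rw [← hc.exponent_eq_card]
    exact Nat.le_of_dvd three_pos (Monoid.exponent_dvd_of_forall_pow_eq_one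
      fun k => Subtype.ext (three k k.2))
  have h4 : (V₁ ⊓ V₂ : Subgroup G).carrier ⊆ insert 1 ((fun k => k * z * k⁻¹) '' K) :=
    fun y hy => (eq_or_ne y 1).imp_right (tr y hy)
  have h5 := (Set.ncard_le_ncard h4).trans ((Set.ncard_insert_le _ _).trans
    (Nat.add_le_add_right Set.ncard_image_le 1))
  have h6 := orderOf_dvd_natCard _ hz
  rw [orderOf_two z1 (hZ z hz), a.inf] at h6
  have h7 : q ≤ 𝐨(K) + 1 := a.inf ▸ h5
  omega

end Amal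

end Cfsg.Agent.P4
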