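/-
P4: identification of `PSL₃(4)`, second part.
-/
import Cfsg.Agent.P4.Plane

set_option autoImplicit false
set_option linter.unusedSectionVars false

namespace Cfsg.Agent.P4

open Subgroup Cfsg Cfsg.Agent Cfsg.Agent.FT Cfsg.Agent.L Cfsg.Agent.P2
open scoped commutatorElement

universe u

variable {G : Type u} [Group G] [Finite G]

theorem eq_or_of_three {x y : G} (x3 : orderOf x = 3) (hy : y ∈ zpowers x) (y1 : y ≠ 1) :
    y = x ∨ y = x⁻¹ := by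
  classical
  obtain ⟨k, hk, rfl⟩ := Finset.mem_image.1 (mem_zpowers_iff_mem_range_orderOf.1 hy)
  rw [x3, Finset.mem_range] at hk
  interval_cases k
  · simp at y1
  · simp
  · exact Or.inr (eq_inv_of_mul_eq_one_left (by rw [← pow_succ]; exact (x3 ▸ pow_orderOf_eq_one x :)))

theorem inv_inv_conj {x g y : G} (e : g * x * g⁻¹ = x⁻¹) (e' : y * x * y⁻¹ = x⁻¹) :
    g * y * x * (g * y)⁻¹ = x := by
  calc _ = g * (y * x * y⁻¹) * g⁻¹ := by group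
    _ = (g * x * g⁻¹)⁻¹ := by rw [e']; group
    _ = _ := by rw [e, inv_inv]

theorem braid3 {α β z : G} (αα : α * α = 1) (ββ : β * β = 1) (zz : z * z = 1)
    (e₁ : β * z * β = z * β * z) (e₂ : α * z * α = z * α * z)
    (hc : z * (α * β * z * (α * β)⁻¹) * (z * (α * β * z * (α * β)⁻¹)) = 1) :
    α * β * (α * β) = 1 := by
  have e : z * (α * β * z * (α * β)⁻¹) = α * z * (α * β) * (α * z)⁻¹ := by
    rw [mul_inv_rev, mul_inv_rev, inv_eq_self_of_mul_self αα, inv_eq_self_of_mul_self ββ,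
      inv_eq_self_of_mul_self zz]
    calc _ = z * α * (β * z * β) * α := by group
      _ = z * α * z * β * z * α := by rw [e₁]; group
      _ = _ := by rw [← e₂]; group
  rw [e, conj_mul, mul_inv_eq_one, mul_eq_left] at hc
  exact hc

theorem CIT.le_of_three (h : CIT G) {X Y H : Subgroup G} (hX : IsPGroup 2 X) {x s : G}
    (x3 : orderOf x = 3) (hx : x ∈ 𝐍(X)) (xH : x ∈ H) (hY : Y ≤ X ⊓ H) (hs : s ∈ X ⊓ H)
    (s1 : s ∉ Y) (hc : 𝐨(X) = 4 * 𝐨(Y)) (h3 : 𝐨(Y) % 3 = 1) : X ≤ H := by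
  have h1 := (h.semiReg (hX.to_le (inf_le_left (b := H))) (R := zpowers x)
    (by rw [Nat.card_zpowers, x3]; decide)).card_dvd
    (zpowers_le_of_mem (inf_normalizer_le_normalizer_inf ⟨hx, le_normalizer xH⟩))
  obtain ⟨i, hi⟩ := FT.card_dvd_of_le hY
  obtain ⟨j, hj⟩ := FT.card_dvd_of_le (inf_le_left (a := X) (b := H))
  have h2 := L.card_lt_of_lt (lt_of_le_of_ne hY fun e => s1 (e ▸ hs))
  have h4 : 0 < 𝐨(Y) := Nat.card_pos
  have h5 : j * i = 4 := Nat.eq_of_mul_eq_mul_left h4 (by rw [mul_comm _ 4, ← hc, hj, hi]; ring)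
  rw [Nat.card_zpowers, x3] at h1
  refine inf_eq_left.1 (eq_of_le_of_card_ge inf_le_left ?_)
  have := Nat.le_of_dvd four_pos (Dvd.intro_left j h5)
  interval_cases i <;> omega

namespace Amal

section

variable {M₁ M₂ V₁ V₂ T : Subgroup G} {q : ℕ} (a : Amal M₁ M₂ V₁ V₂ T q)
include a

theorem norm_T {g : G} (h₁ : g ∈ M₁) (h₂ : g ∈ M₂) : g ∈ 𝐍(T) :=
  a.sup ▸ H1.le_normalizer_sup (inf_le_left.trans a.h₁.normal.2) (inf_le_right.trans a.h₂.normal.2)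
    (⟨h₁, h₂⟩ : g ∈ M₁ ⊓ M₂)

theorem line (h : CIT G) (hq : 3 ≤ q) {k n : G} (hk : k ∈ M₁) (hn : n ∈ M₂) (n1 : n ∉ M₁)
    (h1 : n⁻¹ * k * n ∈ M₁) : k ∈ M₂ := by
  by_contra k2
  obtain ⟨z, hz, z1⟩ := a.exists_z
  have h2 := conj_mem (a.h₁.normal.2 hk) hz.1
  have h3 := conj_mem (a.h₂.normal.2 hn) hz.2
  have le := a.h₂.le.trans a.h₁.syl.le
  have h4 := conj_mem (a.h₁.normal.2 (conj_mem (le_normalizer h1)
    (le (conj_mem' (a.h₂.normal.2 hn) hz.2)))) hz.1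
  refine n1 (inv_mem_iff.1 (a.ti h hq (v := ⁅k * z * k⁻¹, n * z * n⁻¹⁆) ?_ (fun e => ?_) ?_))
  · rw [commutatorElement_def, mul_assoc, mul_assoc, ← mul_assoc (n * z * n⁻¹)]
    exact mul_mem h2 (conj_mem (a.h₁.normal.2 (le h3)) (inv_mem h2))
  · exact (a.of_commute h h2 h3 (commutatorElement_eq_one_iff_commute.1 e).symm).elim
      (fun e => k2 (a.symm.ti h hq hz.2 z1 e)) fun e => n1 (a.ti h hq hz.1 z1 e)
  · convert mul_mem h4 (inv_mem hz.1) using 1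
    rw [commutatorElement_def]; group

end

variable {M₁ M₂ V₁ V₂ T : Subgroup G} (a : Amal M₁ M₂ V₁ V₂ T 4) (h : EPPO G)
include a

theorem card_T : 𝐨(T) = 64 := by
  have h1 := card_sup_mul_card_inf ((a.h₂.le.trans a.h₁.syl.le).trans a.h₁.normal.2)
  rw [a.sup, a.inf, a.h₁.card, a.h₂.card] at h1
  omega

theorem card_M : 𝐨(M₁) = 960 := by
  have h1 := H1.card_mul_relIndex a.h₁.syl.le
  have h2 := a.h₁.idx
  rw [a.card_T] at h1
  omega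

theorem isSyl3 {x : G} (x3 : orderOf x = 3) (hx : x ∈ M₁) : IsSyl 3 (zpowers x) M₁ := by
  refine ⟨zpowers_le_of_mem hx, IsPGroup.of_card (n := 1) (by rw [Nat.card_zpowers, x3, pow_one]), ?_⟩
  have := H1.card_mul_relIndex (zpowers_le_of_mem hx)
  rw [Nat.card_zpowers, x3, a.card_M] at this
  omega

include h

theorem pl (g : G) : ∃ m ∈ M₁, ∃ n ∈ M₂, ∃ m' ∈ M₁, g = m * n * m' := by
  by_contra! h0
  have hc := h.cit
  have hq : 3 ≤ 4 := by decide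
  obtain ⟨z, hz, z1⟩ := a.exists_z
  have mem : ∀ k y, y * y = 1 → Commute (k * z * k⁻¹) y →
      k⁻¹ * y * k⁻¹⁻¹ ∈ V₁ ∨ k⁻¹ * y * k⁻¹⁻¹ ∈ V₂ := fun k y yy e =>
    a.invol_mem hc (a.cent_z hc hq hz z1 ▸ mem_cent1.2
      (by simpa [mul_assoc] using (e.conj k⁻¹).eq)) (conj_sq yy _)
  have A : ∀ x ∈ V₁, x ≠ 1 → ∀ v ∈ V₁, v ≠ 1 → ¬ Commute x (g * v * g⁻¹) :=
    fun x hx x1 v hv v1 e => by
      obtain ⟨m, hm, rfl⟩ := a.h₁.trans hc hz.1 z1 hx x1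
      rcases mem _ _ (conj_sq (a.h₁.elem v hv) g) e with h2 | h2
      · exact h0 m hm 1 (one_mem _) (m⁻¹ * g) (a.ti hc hq hv v1 (by simpa [mul_assoc] using h2))
          (by group)
      · obtain ⟨n, hn, e⟩ := a.h₂.trans hc h2 (conj_ne_one (conj_ne_one v1 _) _) hz.2 z1
        exact h0 m hm n⁻¹ (inv_mem hn) (n * m⁻¹ * g)
          (a.ti hc hq hv v1 (by convert (show z ∈ V₁ from hz.1) using 1; rw [← e]; group)) (by group)
  have B : ∀ x ∈ V₁, x ≠ 1 → ∀ v ∈ V₁, v ≠ 1 → ∀ u, u ≠ 1 → u * u = 1 → Commute u x →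
      ¬ Commute u (g * v * g⁻¹) := fun x hx x1 v hv v1 u u1 uu e1 e2 => by
    obtain ⟨k, rfl⟩ := a.conj_invol hc hq hz z1 u1 uu
    rcases mem _ _ (a.h₁.elem x hx) e1 with h1 | h1
    · exact A _ (conj_mem (a.h₁.normal.2 (inv_mem_iff.1 (a.ti hc hq hx x1 h1))) hz.1) u1 v hv v1 e2
    rcases mem _ _ (conj_sq (a.h₁.elem v hv) g) e2 with h2 | h2
    · refine A x hx x1 _ (conj_mem (a.h₁.normal.2 (inv_mem (a.ti hc hq (g := k⁻¹ * g) hv v1
        (by simpa [mul_assoc] using h2)))) hz.1) (conj_ne_one z1 _) ?_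
      simpa [mul_assoc] using e1.symm
    · exact A x hx x1 v hv v1 (by
        simpa [mul_assoc] using (show Commute _ _ from a.h₂.elem.comm h1 h2).conj k)
  have C : ∀ x ∈ V₁, x ≠ 1 → ∃ c, c * c = 1 ∧ c * x * c = g * z * g⁻¹ ∧ g⁻¹ * c ∈ M₁ ∧ c * g ∈ M₁ :=
    fun x hx x1 => by
      have xx := a.h₁.elem x hx
      have yy := conj_sq (a.h₁.elem z hz.1) g
      obtain ⟨_, cc, e⟩ := exists_invol_conj_of_odd xx yy (Nat.not_even_iff_odd.1 fun e => by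
        obtain ⟨_, u1, uu, h1, h2⟩ := exists_invol_commute_of_even xx yy e
        exact B x hx x1 z hz.1 z1 _ u1 uu h1 h2)
      generalize x * (x * (g * z * g⁻¹)) ^ _ = c at cc e
      have ci := inv_eq_self_of_mul_self cc
      refine ⟨c, cc, e, a.ti hc hq hx x1 ?_, a.ti hc hq hz.1 z1 ?_⟩
      · convert (show z ∈ V₁ from hz.1) using 1
        rw [mul_inv_rev, ci, mul_assoc _ x, mul_assoc _ c, ← mul_assoc x, ← mul_assoc c,
          ← mul_assoc c, e]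
        group
      · convert hx using 1
        rw [mul_inv_rev, mul_assoc c g, mul_assoc c, ← mul_assoc _ g⁻¹, ← e]
        nth_rw 1 [← ci]
        group
  have fix : ∀ t ∈ M₁, t * t = 1 → ∃ x ∈ V₁, x ≠ 1 ∧ Commute t x := fun t ht tt => by
    have h1 := conj_mem (a.h₁.normal.2 ht) hz.1
    by_cases e : z * (t * z * t⁻¹) = 1
    · exact ⟨z, hz.1, z1, mul_inv_eq_iff_eq_mul.1 ((eq_inv_of_mul_eq_one_right e).trans
        (inv_eq_self_of_mul_self (a.h₁.elem z hz.1)))⟩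
    · refine ⟨_, mul_mem hz.1 h1, e, ?_⟩
      refine mul_inv_eq_iff_eq_mul.1 (Eq.trans ?_ (a.h₁.elem.comm h1 hz.1))
      calc _ = t * z * t⁻¹ * (t * t) * z * (t * t)⁻¹ := by group
        _ = _ := by rw [tt]; group
  have hD : Odd 𝐨((M₁ ⊓ M₁ ^ᵍ g : Subgroup G)) := odd_iff_not_dvd.2 fun e => by
    obtain ⟨_, ⟨h1, t, ht, rfl⟩, t1, tt⟩ := exists_invol_of_even e
    obtain ⟨x, hx, x1, e1⟩ := fix _ h1 tt
    obtain ⟨v, hv, v1, e2⟩ := fix t ht ((MulAut.conj g).injective (by rwa [map_mul, map_one]))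
    exact B x hx x1 v hv v1 _ t1 tt e1 (e2.conj g)
  have h1 := hc.semiReg a.h₁.elem.pgrp hD
  have h2 := inf_le_left.trans a.h₁.normal.2 (a := M₁ ⊓ M₁ ^ᵍ g)
  have h4 : V₁.carrier ⊆ insert 1 ((fun k => k * z * k⁻¹) '' (M₁ ⊓ M₁ ^ᵍ g : Subgroup G)) :=
    fun y hy => (eq_or_ne y 1).imp_right fun y1 => by
      obtain ⟨c, cc, e, h1, h2⟩ := C y hy y1
      obtain ⟨d, dd, e', h3, h4⟩ := C z hz.1 z1
      have ci := inv_eq_self_of_mul_self cc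
      refine ⟨c * d, ⟨?_, _, mul_mem h1 h4, by simp [mul_assoc]⟩, ?_⟩
      · simpa [ci] using mul_mem (inv_mem h1) h3
      · simp only [mul_inv_rev, inv_eq_self_of_mul_self dd]
        rw [mul_assoc c, mul_assoc c, ← mul_assoc (d * z), e', ← e]
        nth_rw 1 [← ci]
        group
  have h5 : 𝐨(V₁) ≤ 𝐨((M₁ ⊓ M₁ ^ᵍ g : Subgroup G)) + 1 := (Set.ncard_le_ncard h4).trans
    ((Set.ncard_insert_le _ _).trans (Nat.add_le_add_right Set.ncard_image_le 1))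
  have h6 := Nat.le_of_dvd (by rw [a.h₁.card]; decide) (h1.card_dvd h2)
  rw [a.h₁.card] at h5 h6
  obtain ⟨x, hx⟩ := (regular_pq_cyclic Nat.prime_three Nat.prime_five (by omega) a.h₁.ne_bot h2
    h1).exists_ofOrder_eq_natCard
  rw [← orderOf_coe, show 𝐨((M₁ ⊓ M₁ ^ᵍ g : Subgroup G)) = 15 by omega] at hx
  exact absurd (hx ▸ h x fun e => by simp [e] at hx) (by decide +kernel)

theorem cent_M {x g : G} (x3 : orderOf x = 3) (hx : x ∈ M₁) (hg : g ∈ M₁) (e : Commute x g) :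
    g ∈ zpowers x :=
  ((a.isSyl3 x3 hx).eq_of_le Nat.prime_three (le_inf (zpowers_le_of_mem (self_mem_cent1 x))
    (zpowers_le_of_mem hx)) inf_le_right
    ((h.isPGroup_cent Nat.prime_three x3).to_le inf_le_left)).le ⟨mem_cent1.2 e, hg⟩

theorem nl {x w m : G} (x3 : orderOf x = 3) (hx : x ∈ 𝐍(T)) (hw : w ∈ M₁) (e : w * x * w⁻¹ = x⁻¹)
    (hm : m ∈ M₁) (h1 : m⁻¹ * x * m ∈ 𝐍(T)) : m ∈ 𝐍(T) ∨ w * m ∈ 𝐍(T) := by
  have le := a.norm_le h.cit (by decide)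
  have o : orderOf (m⁻¹ * x * m⁻¹⁻¹) = 3 := ((MulAut.conj m⁻¹).orderOf_eq x).trans x3
  rw [inv_inv] at o
  obtain ⟨b, hb, h2⟩ := ((a.isSyl3 x3 (le hx)).of_le (zpowers_le_of_mem hx) le).exists_conj_le
    Nat.prime_three (IsPGroup.of_card (n := 1) (by rw [Nat.card_zpowers, o, pow_one])) (zpowers_le_of_mem h1)
  have k : ∀ {y}, y ∈ M₁ → Commute x (y * b⁻¹) → y ∈ 𝐍(T) := fun hy e =>
    (mul_mem_cancel_right (inv_mem hb)).1 (zpowers_le_of_mem hx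
      (a.cent_M h x3 (le hx) (mul_mem hy (inv_mem (le hb))) e))
  refine (eq_or_of_three x3 (h2 (conj_mem_conj (mem_zpowers _) b))
    (conj_ne_one (fun e => by simp [e] at o) b)).imp (fun e => k hm ?_) fun e' => k (mul_mem hw hm) ?_
  · change _ = _
    nth_rw 2 [← e]
    group
  · calc x * (w * m * b⁻¹) = (w * x * w⁻¹)⁻¹ * (w * m * b⁻¹) := by rw [e, inv_inv]
      _ = w * m * b⁻¹ * (b * (m⁻¹ * x * m) * b⁻¹)⁻¹ := by group
      _ = _ := by rw [e', inv_inv]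

theorem fix {x w₁ w₂ g : G} (x3 : orderOf x = 3) (hx : x ∈ 𝐍(T)) (h₁ : w₁ ∈ M₁)
    (e₁ : w₁ * x * w₁⁻¹ = x⁻¹) (h₂ : w₂ ∈ M₂) (e₂ : w₂ * x * w₂⁻¹ = x⁻¹) (hg : g⁻¹ * x * g ∈ M₁) :
    g ∈ M₁ ∨ w₂ * g ∈ M₁ ∨ w₂ * w₁ * g ∈ M₁ := by
  obtain ⟨m, hm, n, hn, m', hm', rfl⟩ := a.pl h g
  have le := a.norm_le h.cit (by decide)
  have le' := a.symm.norm_le h.cit (by decide)
  by_cases n1 : n ∈ M₁
  · exact Or.inl (mul_mem (mul_mem hm n1) hm')
  have h1 := conj_mem' (le_normalizer hm) (le hx)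
  have h2 : n⁻¹ * (m⁻¹ * x * m) * n ∈ M₁ := by
    simpa [mul_assoc] using conj_mem (le_normalizer hm') hg
  have h3 := a.line h.cit (by decide) h1 hn n1 h2
  have h4 := a.norm_T h2 (conj_mem' (le_normalizer hn) h3)
  rcases a.nl h x3 hx h₁ e₁ hm (a.norm_T h1 h3) with h5 | h5
  · refine (a.symm.nl h x3 hx h₂ e₂ (mul_mem (le' h5) hn) (by simpa [mul_assoc] using h4)).imp
      (fun e => mul_mem (le e) hm') fun e => Or.inl ?_
    simpa only [mul_assoc] using mul_mem (le e) hm'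
  · refine (a.symm.nl h x3 hx h₂ e₂ (mul_mem (le' h5) hn) ?_).imp
      (fun e => ?_) fun e => Or.inr ?_
    · convert inv_mem h4 using 1
      calc _ = (w₁ * m * n)⁻¹ * (w₁ * x * w₁⁻¹)⁻¹ * (w₁ * m * n) := by rw [e₁, inv_inv]
        _ = _ := by group
    · simpa only [mul_assoc, mul_mem_cancel_left h₁] using mul_mem (le e) hm'
    · simpa only [mul_assoc] using mul_mem (le e) hm'

theorem cube {x w₁ w₂ z : G} (x3 : orderOf x = 3) (hx : x ∈ 𝐍(T)) (h₁ : w₁ ∈ M₁) (s₁ : w₁ * w₁ = 1)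
    (e₁ : w₁ * x * w₁⁻¹ = x⁻¹) (h₂ : w₂ ∈ M₂) (s₂ : w₂ * w₂ = 1) (e₂ : w₂ * x * w₂⁻¹ = x⁻¹)
    (n₂ : w₂ ∉ 𝐍(T)) (hz : z ∈ V₁ ⊓ V₂)
    (b₁ : w₁ * (w₂ * z * w₂) * w₁ = w₂ * z * w₂ * w₁ * (w₂ * z * w₂))
    (b₂ : w₂ * (w₁ * z * w₁) * w₂ = w₁ * z * w₁ * w₂ * (w₁ * z * w₁)) :
    (w₁ * w₂) ^ 3 = 1 ∧ 9 ∣ Nat.card G := by
  have le := a.norm_le h.cit (by decide)
  have hc : w₁ * w₂ ∈ 𝐂[x] := mem_cent1_iff_conj.2 (inv_inv_conj e₁ e₂)
  have hC := h.isPGroup_cent Nat.prime_three x3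
  have ho : ∀ g ∈ 𝐂[x], Odd (orderOf g) := fun g hg =>
    (h.cit.odd_cent (fun e => by simp [e] at x3) (by rw [x3]; decide)).of_dvd_nat
      (orderOf_dvd_natCard _ hg)
  have n1 : w₁ * w₂ ∉ M₁ := fun e => n₂ (a.norm_T ((mul_mem_cancel_left h₁).1 e) h₂)
  have c₁ : ∀ y, w₁ * (w₁ * y) = y := fun y => by rw [← mul_assoc, s₁, one_mul]
  have c₂ : ∀ y, w₂ * (w₂ * y) = y := fun y => by rw [← mul_assoc, s₂, one_mul]
  have h3 : (w₁ * w₂) ^ 3 ∈ M₁ := by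
    have e : w₂ * (w₁ * w₂) * x * (w₂ * (w₁ * w₂))⁻¹ = x⁻¹ := by
      rw [← e₂, ← inv_inv_conj e₁ e₂, inv_inv_conj e₁ e₂]; nth_rw 2 [← inv_inv_conj e₁ e₂]; group
    rcases a.fix h (g := w₂ * (w₁ * w₂)) x3 hx h₁ e₁ h₂ e₂ (by
      rw [← inv_inv x, ← e]; simpa [mul_assoc] using le hx) with e | e | e
    · exact absurd (mem_of_sq_mem (ho _ hc) (by simpa only [mul_assoc] using mul_mem h₁ e)) n1
    · exact absurd (by rwa [c₂] at e) n1
    · simpa only [mul_assoc, pow_succ, pow_zero, one_mul] using mul_mem h₁ e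
  have h4 := zpowers_le_of_mem hx (a.cent_M h x3 (le hx) h3 (mem_cent1.1 (pow_mem hc 3)))
  have e3 : (w₁ * w₂) ^ 3 = w₁ * w₂ * w₁ * (w₂ * w₁ * w₂) := by simp [pow_succ, mul_assoc]
  refine ⟨eq_one_of_odd_of_pow (n := 1) (ho _ (pow_mem hc 3)) ?_, ?_⟩
  · rw [pow_one, sq, e3]
    refine braid3 (by simp [mul_assoc, c₁, c₂, s₁]) (by simp [mul_assoc, c₁, c₂, s₂])
      (a.h₁.elem z hz.1) ?_ ?_ (a.h₁.elem _ (mul_mem hz (conj_mem (a.norm_Z h.cit (e3 ▸ h4)) hz)).1)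
    · simpa [mul_assoc, c₂, s₂] using congrArg (fun y => w₂ * y * w₂) b₁
    · simpa [mul_assoc, c₁, s₁] using congrArg (fun y => w₁ * y * w₁) b₂
  · obtain ⟨k, hk⟩ := exists_card_eq_pow Nat.prime_three hC
    have h5 := L.card_lt_of_lt (lt_of_le_of_ne (zpowers_le_of_mem (self_mem_cent1 x))
      fun e => n1 (zpowers_le_of_mem (le hx) (e ▸ hc)))
    rw [Nat.card_zpowers, x3, hk] at h5
    exact (pow_dvd_pow 3 ((Nat.pow_lt_pow_iff_right (a := 3) (n := 1) (by decide)).1 h5)).trans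
      (hk ▸ card_subgroup_dvd_card _)

omit h in
theorem le_of_gen {H : Subgroup G} {x w : G} (hT : T ≤ H) (x3 : orderOf x = 3) (hx : x ∈ 𝐍(T))
    (hx' : x ∈ M₁) (xH : x ∈ H) (hw : w ∈ M₁) (wH : w ∈ H) (w1 : w ∉ 𝐍(T)) : M₁ ≤ H := by
  have h1 := FT.card_dvd_of_le (le_inf (le_inf a.h₁.syl.le hT) le_normalizer)
  have h2 := orderOf_dvd_natCard (M₁ ⊓ H ⊓ 𝐍(T)) ⟨⟨hx', xH⟩, hx⟩
  obtain ⟨j, hj⟩ := FT.card_dvd_of_le (inf_le_left (a := M₁ ⊓ H) (b := 𝐍(T)))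
  obtain ⟨l, hl⟩ := FT.card_dvd_of_le (inf_le_left (a := M₁) (b := H))
  have h3 := L.card_lt_of_lt (lt_of_le_of_ne (inf_le_left (a := M₁ ⊓ H) (b := 𝐍(T)))
    fun e => w1 (e.ge ⟨hw, wH⟩).2)
  rw [a.card_T] at h1
  rw [x3] at h2
  obtain ⟨i, hi⟩ := Nat.Coprime.mul_dvd_of_dvd_of_dvd (by decide) h1 h2
  refine inf_eq_left.1 (eq_of_le_of_card_ge inf_le_left ?_)
  rw [hj, hi, a.card_M] at hl
  rw [hj, hi] at h3
  rw [hj, hi, a.card_M]
  have h4 : i * j * l = 5 := by linarith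
  rcases (Nat.dvd_prime Nat.prime_five).1 (Dvd.intro l h4) with e | e
  · rw [(mul_eq_one.1 e).2] at h3; omega
  · linarith

theorem l34 : ∃ n ≤ 7, Nat.card G = 2880 * n ∧
    (n = 7 → Nonempty (G ≃* Matrix.ProjectiveSpecialLinearGroup (Fin 3) L34.F4)) := by
  have hc := h.cit
  have hq : 3 ≤ 4 := by decide
  obtain ⟨x, hx₁, hx, xp, xo⟩ := a.exists_odd hc hq
  have hx₂ := a.symm.norm_le hc hq hx
  have hZ : Elem (V₁ ⊓ V₂) := a.h₁.elem.mono inf_le_left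
  have x3 : orderOf x = 3 := by
    have := (hc.semiReg hZ.pgrp (R := zpowers x) (by rwa [Nat.card_zpowers])).card_dvd
      (zpowers_le_of_mem (a.norm_Z hc hx))
    rw [Nat.card_zpowers, a.inf] at this
    exact (Nat.prime_dvd_prime_iff_eq xp Nat.prime_three).1 this
  have x1 : x ≠ 1 := fun e => by simp [e] at x3
  obtain ⟨z, hz, z1⟩ := a.exists_z
  obtain ⟨v, hv, v2⟩ := SetLike.not_le_iff_exists.1 a.symm.not_le
  obtain ⟨d, hd, dd, d1, -, d2⟩ := a.symm.weyl hc hq hx₂ hx x1 xo hv v2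
  obtain ⟨s1, s2⟩ := a.conj_notMem hc hq hd dd d2 hz z1
  obtain ⟨w, hw, ww, w1, w2, w3⟩ := a.weyl hc hq hx₁ hx x1 xo s1 s2
  obtain ⟨t1, t2⟩ := a.symm.conj_notMem hc hq hw ww w3 hz.symm z1
  obtain ⟨b, hb, bb, b1, b2, b3⟩ := a.symm.weyl hc hq hx₂ hx x1 xo t1 t2
  have bi := inv_eq_self_of_mul_self bb
  obtain ⟨f₁, k₁⟩ := a.key (z := z) hc hq (a.h₂.elem _ s1) (a.h₂.le s1) hw ww w2 w3
  have h1 : b * d ∈ 𝐍(T) := zpowers_le_of_mem hx (a.symm.cent_M h x3 hx₂ (mul_mem hb hd)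
    (mul_inv_eq_iff_eq_mul.1 (inv_inv_conj b1 d1)).symm)
  obtain ⟨f₂, k₂⟩ := a.symm.key (z := b * d * z * (b * d)⁻¹) hc hq (a.h₁.elem _ t1) (a.h₁.le t1)
    hb bb b2 b3
  have e : b * (b * d * z * (b * d)⁻¹) * b = d * z * d := by
    calc _ = b * b * (d * z * d⁻¹) := by group
      _ = _ := by rw [bb, one_mul, inv_eq_self_of_mul_self dd]
  have e' : d * z * d = b * z * b := by
    have := k₂ (conj_mem (a.norm_Z hc h1) hz).symm
    rw [e, ← commutatorElement_inv, k₁ hz, inv_eq_self_of_mul_self (hZ z hz)] at this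
    rw [← e, ← this]
  rw [e'] at s1 s2 w2 f₁
  obtain ⟨c3, h9⟩ := a.cube h x3 hx hw ww w1 hb bb b1 b3 hz w2 b2
  have f := hc.f3 a.h₁.syl.pgrp x3 hx
  have wi := inv_eq_self_of_mul_self ww
  have e1 : x * w * w = x := by rw [mul_assoc, ww, mul_one]
  have e2 : w * (x * w) = x⁻¹ := by rw [← mul_assoc, ← w1, wi]
  have cu : ∀ {D : Subgroup G} {y : G}, F3 D y → y ^ 3 = 1 := fun f => by rw [pow_three', f.cube]
  have hx' := a.h₂.normal.2 hx₂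
  have r : L34.Rel w (x * w) b z := by
    constructor <;> try simp only [e1, e2]
    exacts [ww, by rw [mul_assoc, e2, mul_inv_cancel], bb, hZ z hz, cu f,
      by rw [bi] at b1; rw [sq, ← mul_assoc, b1, inv_mul_cancel],
      cu (f.mul (a.h₁.le hz.1)), cu (f.mul (a.h₂.le s1)), c3,
      (sq _).trans (a.h₂.elem _ (mul_mem hz.2 s1)),
      (sq _).trans (a.h₂.elem _ (mul_mem hz.2 (conj_mem hx' s1))),
      (sq _).trans (a.h₂.elem _ (mul_mem hz.2 (conj_mem' hx' s1))), cu f₁, cu (f₁.mul hz.1),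
      cu (f₁.mul (conj_mem (a.norm_Z hc hx) hz).1), cu f₂, cu (f₂.mul hz.2),
      cu (f₂.mul (conj_mem hx' hz.2))]
  have gen : closure {y | y ∈ [w, x * w, b, z]} = ⊤ := by
    set H := closure {y | y ∈ [w, x * w, b, z]}
    have m : ∀ y ∈ [w, x * w, b, z], y ∈ H := fun y hy => subset_closure hy
    simp only [List.mem_cons, List.not_mem_nil, or_false, forall_eq_or_imp, forall_eq] at m
    obtain ⟨m1, m2, m3, m4⟩ := m
    have m5 : x ∈ H := (mul_mem_cancel_right m1).1 m2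
    have hZ' := hc.le_of_three (Y := ⊥) hZ.pgrp x3 (a.norm_Z hc hx) m5 bot_le ⟨hz, m4⟩
      (by simpa using z1) (by rw [a.inf, card_bot]) (by simp)
    have hT : T ≤ H := a.sup ▸ sup_le
      (hc.le_of_three a.h₁.elem.pgrp x3 (a.h₁.normal.2 hx₁) m5 (le_inf inf_le_left hZ')
        ⟨t1, mul_mem (mul_mem m1 m4) m1⟩ (fun e => t2 e.2) (by rw [a.h₁.card, a.inf]; rfl)
        (by rw [a.inf]))
      (hc.le_of_three a.h₂.elem.pgrp x3 hx' m5 (le_inf inf_le_right hZ')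
        ⟨s1, mul_mem (mul_mem m3 m4) m3⟩ (fun e => s2 e.1) (by rw [a.h₂.card, a.inf]; rfl)
        (by rw [a.inf]))
    have g₁ := a.le_of_gen hT x3 hx hx₁ m5 hw m1 w3
    have g₂ := a.symm.le_of_gen hT x3 hx hx₂ m5 hb m3 b3
    refine eq_top_iff.2 fun g _ => ?_
    obtain ⟨m, hm, n, hn, m', hm', rfl⟩ := a.pl h g
    exact mul_mem (mul_mem (g₁ hm) (g₂ hn)) (g₁ hm')
  have h2 := r.card_le
  have h3 := card_subgroup_dvd_card M₁
  rw [gen, card_top] at h2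
  rw [a.card_M] at h3
  have := a.simple hc hq
  exact ⟨Nat.card G / 2880, by omega, by omega, fun e => r.equiv gen (by omega)⟩

end Amal

end Cfsg.Agent.P4
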