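/-
P4: groups all of whose elements have prime power order.
-/
import Cfsg.Agent.P4.Plane2

set_option autoImplicit false
set_option linter.unusedSectionVars false

namespace Cfsg.Agent.P4

open Subgroup Cfsg Cfsg.Agent Cfsg.Agent.FT Cfsg.Agent.L Cfsg.Agent.P2 Matrix Polynomial

universe u

theorem EPPO.of_surjective {G : Type u} {H : Type*} [Group G] [Group H] (h : EPPO G) (f : G →* H)
    (hf : Function.Surjective f) : EPPO H := fun y y1 => by
  obtain ⟨x, rfl⟩ := hf y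
  exact (h x fun e => y1 (e ▸ map_one f)).dvd (orderOf_map_dvd f x) (by simpa using y1)

theorem EPPO.subgroup {G : Type u} [Group G] (h : EPPO G) (H : Subgroup G) : EPPO H :=
  fun x x1 => orderOf_coe x ▸ h x fun e => x1 (Subtype.ext e)

namespace Mart

variable {F : Type*} [Field F] [Fintype F] [hc : CharP F 2] {θ : F ≃+* F}
  (h2 : ∀ x, θ (θ x) = x ^ 2)

theorem pow_orderOf {K : Type*} [Field K] [Algebra F K] (b : F) {ζ : K} (h1 : ζ ≠ 1)
    (h : ζ ^ 4 + algebraMap F K (θ b) * ζ ^ 3 + algebraMap F K b ^ 2 * ζ ^ 2 +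
      algebraMap F K (θ b) * ζ + 1 = 0) : ζ ^ orderOf (U h2 0 b * T θ) = 1 := by
  have := charP_of_injective_algebraMap (algebraMap F K).injective 2
  let v : Fin 4 → K := ![1 + ζ ^ 2, algebraMap F K b * ζ, algebraMap F K b * ζ ^ 2, ζ * (1 + ζ ^ 2)]
  have h3 : (ent (U h2 0 b * T θ)).map (algebraMap F K) *ᵥ v = ζ • v := by
    rw [ent_mul, ent_U, ent_T]
    ext i
    fin_cases i <;> simp [v, mulVec, dotProduct, Fin.sum_univ_four] <;> grind
  have h4 : ∀ k : ℕ, (ent ((U h2 0 b * T θ) ^ k)).map (algebraMap F K) *ᵥ v = ζ ^ k • v :=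
    fun k => by
      induction k with
      | zero => simp [ent_one]
      | succ k ih => rw [pow_succ, ent_mul, Matrix.map_mul, ← mulVec_mulVec, h3, mulVec_smul, ih,
          smul_smul, pow_succ']
  have h5 := congrFun (h4 (orderOf (U h2 0 b * T θ))) 0
  simp [ent_one, v] at h5
  grind

include h2 in
theorem exists_dvd_orderOf {r n : ℕ} (hθ : ∀ x, θ x = x ^ r) (n1 : 1 < n)
    (hd : n ∣ Fintype.card F ^ 2 + 1)
    (hn : n = Fintype.card F + r + 1 ∨ n + r = Fintype.card F + 1) {j : ℕ} (hr : r = 2 ^ j) :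
    ∃ g : Model.S θ, n ∣ orderOf g := by
  obtain ⟨k, -, hk⟩ := FiniteField.card F 2
  have : NeZero (n : F) := ⟨cast_ne_zero (Nat.Coprime.coprime_dvd_left hd (by simp [sq]))⟩
  obtain ⟨ζ, hζ⟩ := HasEnoughRootsOfUnity.exists_primitiveRoot (AlgebraicClosure F) n
  have z0 := hζ.ne_zero (by omega)
  have h1 : (ζ ^ Fintype.card F) ^ Fintype.card F = ζ⁻¹ := eq_inv_of_mul_eq_one_left (by
    rw [← pow_mul, ← sq, ← pow_succ, (hζ.pow_eq_one_iff_dvd _).2 hd])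
  have h3 : ζ ^ r = (ζ * ζ ^ Fintype.card F)⁻¹ ∨ ζ ^ r = ζ * ζ ^ Fintype.card F :=
    hn.imp (fun e => eq_inv_of_mul_eq_one_left (by rw [← hζ.pow_eq_one, e]; ring))
      fun e => by rw [← pow_succ', ← e, pow_add, hζ.pow_eq_one, one_mul]
  obtain ⟨c, hc⟩ := (splits_X_pow_nat_card_sub_X (K := F)).mem_range_of_isRoot
    (FiniteField.X_pow_card_sub_X_ne_zero F Finite.one_lt_card)
    (i := algebraMap F (AlgebraicClosure F))
    (x := ζ + ζ⁻¹ + ζ ^ Fintype.card F + (ζ ^ Fintype.card F)⁻¹) (by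
      rw [Nat.card_eq_fintype_card]
      simp only [Polynomial.map_sub, Polynomial.map_pow, map_X, IsRoot.def, eval_sub, eval_pow,
        eval_X]
      nth_rw 3 [hk]
      simp only [add_pow_char_pow, inv_pow]
      rw [← hk, h1, inv_inv]
      ring)
  obtain ⟨b, rfl⟩ := θ.surjective c
  refine ⟨_, (hζ.pow_eq_one_iff_dvd _).1 (pow_orderOf h2 b (hζ.ne_one n1) ?_)⟩
  rw [← map_pow, ← h2, hθ (θ b), map_pow, hc, hr]
  simp only [add_pow_char_pow, inv_pow]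
  rw [← hr, pow_right_comm]
  have e0 := pow_ne_zero (Fintype.card F) z0
  rcases h3 with e | e <;> simp only [e, inv_pow, mul_pow, h1] <;> field_simp <;> grind

end Mart

theorem five_pow {a m : ℕ} (hm : 1 ≤ m)
    (h : 5 ^ a = 2 ^ (2 * m + 1) + 2 ^ (m + 1) + 1 ∨ 5 ^ a + 2 ^ (m + 1) = 2 ^ (2 * m + 1) + 1) :
    m ≤ 2 := by
  obtain ⟨m, rfl⟩ := Nat.exists_eq_add_of_le' hm
  have h0 : ((2 ^ (m + 1 + 1) : ℕ) : ZMod (2 ^ (m + 2))) = 0 := ZMod.natCast_self _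
  have h1 : (5 : ZMod (2 ^ (m + 2))) ^ a = 1 := by
    rw [show 2 * (m + 1) + 1 = m + 1 + 1 + (m + 1) by ring, pow_add] at h
    rcases h with h | h <;> have := congrArg (Nat.cast (R := ZMod (2 ^ (m + 2)))) h <;>
      simpa only [Nat.cast_add, Nat.cast_mul, h0, zero_mul, add_zero, zero_add, Nat.cast_one,
        Nat.cast_pow (5 : ℕ), Nat.cast_ofNat] using this
  have h2 := orderOf_dvd_of_pow_eq_one h1
  rw [ZMod.orderOf_five] at h2
  have h3 : 2 ^ (m + 1 + 1) < 2 ^ (2 * (m + 1) + 1) := Nat.pow_lt_pow_right one_lt_two (by omega)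
  have h4 := Nat.le_of_dvd (Nat.pos_of_ne_zero (by rintro rfl; omega)) h2
  by_contra h5
  have h6 : 2 * (m + 1) + 1 + 1 ≤ 2 * a := by
    obtain ⟨l, rfl⟩ := Nat.exists_eq_add_of_le' (show 2 ≤ m by omega)
    have := Nat.lt_two_pow_self (n := l)
    rw [pow_add] at h4
    omega
  have h7 := Nat.pow_le_pow_right two_pos h6
  have h8 : (2 ^ 2) ^ a < 5 ^ a := Nat.pow_lt_pow_left (by decide) (by omega)
  rw [← pow_mul] at h8
  rw [pow_succ] at h7
  omega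

theorem EPPO.sz {F : Type*} [Field F] [Fintype F] {m : ℕ} (hm : 1 ≤ m)
    (hF : Fintype.card F = 2 ^ (2 * m + 1)) (h : EPPO (Lie.Sz F (2 ^ (m + 1)))) : m ≤ 2 := by
  obtain ⟨_, θ, h1, h2⟩ := exists_theta hF
  rw [Model.Sz_eq h1] at h
  have h3 : 2 ^ (m + 1) < 2 ^ (2 * m + 1) := Nat.pow_lt_pow_right one_lt_two (by omega)
  obtain ⟨n, hn⟩ := Nat.exists_eq_add_of_le (show 2 ^ (m + 1) ≤ 2 ^ (2 * m + 1) + 1 by omega)
  have e : (2 ^ (2 * m + 1) + 2 ^ (m + 1) + 1) * n = (2 ^ (2 * m + 1)) ^ 2 + 1 := by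
    zify at hn ⊢
    rw [show (n : ℤ) = 2 ^ (2 * m + 1) + 1 - 2 ^ (m + 1) by linarith]
    ring
  obtain ⟨k, k5, kd, hk⟩ : ∃ k, 5 ∣ k ∧ k ∣ (2 ^ (2 * m + 1)) ^ 2 + 1 ∧
      (k = 2 ^ (2 * m + 1) + 2 ^ (m + 1) + 1 ∨ k + 2 ^ (m + 1) = 2 ^ (2 * m + 1) + 1) := by
    have : 5 ∣ (2 ^ (2 * m + 1)) ^ 2 + 1 := by
      rw [pow_right_comm]
      exact Odd.nat_add_dvd_pow_add_pow 4 1 (odd_two_mul_add_one m) |>.trans (by simp)
    rcases (Nat.prime_five.dvd_mul).1 (e ▸ this) with h5 | h5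
    exacts [⟨_, h5, Dvd.intro _ e, Or.inl rfl⟩, ⟨_, h5, Dvd.intro_left _ e, Or.inr (by omega)⟩]
  have k1 : 1 < k := by omega
  obtain ⟨g, hg⟩ := Mart.exists_dvd_orderOf h2 h1 k1 (hF ▸ kd) (hF ▸ hk) rfl
  obtain ⟨p, a, hp, -, rfl⟩ := (isPrimePow_nat_iff k).1 ((h g fun e => by
    simp [e] at hg; omega).dvd hg k1.ne')
  obtain rfl := (Nat.prime_dvd_prime_iff_eq Nat.prime_five hp).1 (Nat.prime_five.dvd_of_dvd_pow k5)
  exact five_pow hm hk

theorem EPPO.psl {F : Type*} [Field F] [Finite F] (h : EPPO (PSL F)) :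
    (Nat.card (PSL F)).primeFactors.card ≤ 3 := by
  set d := 𝐨(center (SpecialLinearGroup (Fin 2) F)) with hd
  have d0 : 0 < d := Nat.card_pos
  refine (Finset.card_le_card (t := {((Nat.card F - 1) / d).minFac, ((Nat.card F + 1) / d).minFac,
    (Nat.card F).minFac}) fun p hp => ?_).trans Finset.card_le_three
  have pp := Nat.prime_of_mem_primeFactors hp
  obtain ⟨c, hc⟩ := exists_prime_orderOf_dvd_card' p (hp := ⟨pp⟩) (Nat.dvd_of_mem_primeFactors hp)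
  have c1 : c ≠ 1 := fun e => by simp [e, eq_comm, pp.ne_one] at hc
  have key : ∀ X ≤ 𝐂[c], c ∈ X → 𝐨(X).minFac = p := fun X hX hc' => by
    obtain ⟨k, hk⟩ := exists_card_eq_pow pp ((h.isPGroup_cent pp hc).to_le hX)
    rw [hk, pp.pow_minFac]
    rintro rfl
    exact c1 (mem_bot.1 (eq_bot_of_card_eq _ hk ▸ hc'))
  obtain ⟨n, rfl, hn⟩ : ∃ n, n.minFac = p ∧
      ((d * n + 1 = Nat.card F ∨ d * n = Nat.card F + 1) ∨ n = Nat.card F) := by
    by_cases h2 : c * c ≠ 1 ∨ (2 : F) = 0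
    · exact ⟨_, key _ le_rfl (self_mem_cent1 c), (psl_cent c1 h2).imp_left And.right⟩
    · push Not at h2
      obtain ⟨X, h1, h3, h4, -⟩ := psl_cent_invol h2.2 c1 h2.1
      exact ⟨_, key X (fun x hx => mem_cent1.2 (mem_cent.1 (isMulComm_iff_le_cent.1
        (isMulComm_of_isCyclic h1) hx) c h3)) h3, Or.inl (by rwa [hd, P3.card_center_SL2 h2.2])⟩
  rcases hn with (e | e) | e <;> simp [← e, d0]

theorem primeFactors_eq {n m k : ℕ} (h : n = 2 ^ k * m) (h2 : 2 ∣ m) :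
    n.primeFactors = m.primeFactors := by
  ext p
  simp only [h, Nat.mem_primeFactors, mul_ne_zero_iff, and_congr_right_iff]
  refine fun pp => ⟨fun ⟨h1, h3⟩ => ⟨(pp.dvd_mul.1 h1).elim (fun e => ?_) id, h3.2⟩,
    fun ⟨h1, h3⟩ => ⟨h1.mul_left _, by simp, h3⟩⟩
  exact (Nat.prime_dvd_prime_iff_eq pp Nat.prime_two).1 (pp.dvd_of_dvd_pow e) ▸ h2

theorem EPPO.le_three {G : Type u} [Group G] {F : Type*} [Field F] [Finite F] (h : EPPO G)
    (e : G ≃* PSL F) : (Nat.card G).primeFactors.card ≤ 3 :=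
  Nat.card_congr e.toEquiv ▸ (h.of_surjective e.toMonoidHom e.surjective).psl

end Cfsg.Agent.P4
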